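import Groth.Agent.HTor49.Step
import Groth.Agent.DR40.DCNak
import Groth.Agent.DR39.TensorCx
import Groth.Agent.FCx40.TorSeq
import Groth.Agent.LA18.TorSymm
import Groth.Agent.S3527

/-!
# The iterated resolution of a complex and the Künneth filtration
-/

set_option autoImplicit false
set_option linter.style.haveILetI false
set_option linter.style.longLine false
universe u

open CategoryTheory CategoryTheory.Limits MonoidalCategory HomologicalComplex
open scoped TensorProduct DirectSum
open Groth.Agent.DR39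

attribute [local instance] HasDerivedCategory.standard

namespace Groth.Agent.HTor49

variable {A : Type u} [CommRing A]

/-- The free module on the nonzero classes of degree `i + 1`. -/
noncomputable def freeOn (M : DRing.Cx A) (i : ℤ) : ModuleCat.{u} A :=
  ModuleCat.of A ({h : M.homology (i + 1) // h ≠ 0} →₀ A)

/-- A lift of the nonzero classes to cycles. -/
noncomputable def canon (M : DRing.Cx A) (i i' : ℤ) (h : i + 1 = i') : freeOn M i →ₗ[A] Zd M i' := by
  subst h
  exact Finsupp.linearCombination A (fun x => Function.surjInv (hcls_surjective M (i + 1)) x.1)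

theorem flat_freeOn (M : DRing.Cx A) (j : ℤ) : Module.Flat A (freeOn M j) :=
  inferInstanceAs (Module.Flat A (_ →₀ A))

theorem subsingleton_freeOn (M : DRing.Cx A) (j : ℤ) (h : IsZero (M.homology (j + 1))) :
    Subsingleton (freeOn M j) := by
  haveI := ModuleCat.subsingleton_of_isZero h
  haveI : IsEmpty {h : M.homology (j + 1) // h ≠ 0} := ⟨fun x => x.2 (Subsingleton.elim _ _)⟩
  exact inferInstanceAs (Subsingleton (_ →₀ A))

theorem surjective_bd_canon (M : DRing.Cx A) (i i' : ℤ) (h : i + 1 = i') :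
    Function.Surjective (bd M (freeOn M) (canon M) i i' h) := by
  subst h
  intro c
  by_cases hc : c = 0
  · exact ⟨0, by rw [hc, map_zero]⟩
  refine ⟨Finsupp.single ⟨c, hc⟩ 1, ?_⟩
  show hcls M (i + 1) (Finsupp.linearCombination A
    (fun x : {h : M.homology (i + 1) // h ≠ 0} => Function.surjInv (hcls_surjective M (i + 1)) x.1)
      (Finsupp.single ⟨c, hc⟩ 1)) = c
  rw [Finsupp.linearCombination_single, one_smul]
  exact Function.surjInv_eq (hcls_surjective M (i + 1)) c

/-- The next complex. -/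
noncomputable abbrev next (M : DRing.Cx A) : DRing.Cx A := ext' M (freeOn M) (canon M)

/-- The sequence of complexes. -/
noncomputable def sq (M : DRing.Cx A) : ℕ → DRing.Cx A
  | 0 => M
  | p + 1 => next (sq M p)

theorem isZero_homology_sq (M : DRing.Cx A) (b : ℤ) (hb : DRing.VanishesAbove M b) :
    ∀ (p : ℕ) (j : ℤ), b - p < j → IsZero ((sq M p).homology j)
  | 0, j, hj => ((exactAt_iff_isZero_homology _ _).1
      (ShortComplex.exact_of_isZero_X₂ _ (hb j (by simpa using hj))))
  | p + 1, j, hj => by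
    haveI := subsingleton_freeOn (sq M p) j (isZero_homology_sq M b hb p (j + 1) (by push_cast at hj; omega))
    haveI : Subsingleton ((next (sq M p)).homology j) :=
      (eG_injective (sq M p) _ _ (surjective_bd_canon _) j).subsingleton
    exact ModuleCat.isZero_of_subsingleton ((next (sq M p)).homology j)

theorem isZero_tensor_sq (L M : DRing.Cx A) (hL : DRing.TermwiseFlat L) (bL : ℤ)
    (hbL : DRing.VanishesAbove L bL) (b : ℤ) (hb : DRing.VanishesAbove M b) (n : ℤ) (N : ℕ)
    (hN : bL + b - N < n) : IsZero ((HTor.tensorCx L (sq M N)).homology n) := by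
  let m := b - (N : ℤ)
  have hac : Acyc (m + 1) ((QA A).obj (sq M N)) := fun i hi =>
    (isZero_HF_Q_iff (sq M N) i).2 (isZero_homology_sq M b hb N i (by omega))
  obtain ⟨E, hEv, -, ⟨e⟩⟩ := rep_free_of_acyc hac
  obtain ⟨i⟩ := DR40.nonempty_tensor_homology_iso (P := L) (isKFlat_of_flat bL hbL hL) e.symm n
  refine IsZero.of_iso ?_ i
  refine (exactAt_iff_isZero_homology _ _).1 (ShortComplex.exact_of_isZero_X₂ _ ?_)
  refine isZero_tensor_X L E n fun p => ?_
  by_cases hp : bL < p
  · exact Or.inl (hbL p hp)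
  · exact Or.inr ((vanishesAbove_iff E m).2 hEv (n - p) (by omega))

section Tor

variable {K F H : Type u} [AddCommGroup K] [Module A K] [AddCommGroup F] [Module A F]
  [AddCommGroup H] [Module A H] {ι : K →ₗ[A] F} {π : F →ₗ[A] H}
  (X : Type u) [AddCommGroup X] [Module A X]

theorem nonempty_tor_one_lTensor [Module.Flat A F] (hι : Function.Injective ι) (he : Function.Exact ι π)
    (hπ : Function.Surjective π) :
    Nonempty (DRing.Tor A 1 X H ≃ₗ[A] LinearMap.ker (ι.lTensor X)) := by
  obtain ⟨e⟩ := FCx40.nonempty_torOne_equiv (A := A) X hι he hπ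
  obtain ⟨s⟩ := LA18.tor_symm (A := A) X H 1
  have hmap : (LinearMap.ker (ι.rTensor X)).map (TensorProduct.comm A K X).toLinearMap =
      LinearMap.ker (ι.lTensor X) := by
    have hc : ∀ w, ι.lTensor X (TensorProduct.comm A K X w) = TensorProduct.comm A F X (ι.rTensor X w) :=
      fun w => LinearMap.congr_fun (f := ι.lTensor X ∘ₗ (TensorProduct.comm A K X).toLinearMap)
        (g := (TensorProduct.comm A F X).toLinearMap ∘ₗ ι.rTensor X) (TensorProduct.ext' fun _ _ => rfl) w
    ext y
    rw [Submodule.mem_map_equiv, LinearMap.mem_ker, LinearMap.mem_ker]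
    have h := hc ((TensorProduct.comm A K X).symm y)
    rw [LinearEquiv.apply_symm_apply] at h
    rw [h, LinearEquiv.map_eq_zero_iff]
  exact ⟨s.trans (e.symm.trans ((LinearEquiv.submoduleMap (TensorProduct.comm A K X) _).trans
    (LinearEquiv.ofEq _ _ hmap)))⟩

theorem nonempty_tor_succ_shift [Module.Flat A F] (hι : Function.Injective ι) (he : Function.Exact ι π)
    (hπ : Function.Surjective π) (q : ℕ) :
    Nonempty (DRing.Tor A (q + 2) X H ≃ₗ[A] DRing.Tor A (q + 1) X K) := by
  obtain ⟨e⟩ := FCx40.nonempty_torSucc_equiv (A := A) X hι he hπ q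
  obtain ⟨s⟩ := LA18.tor_symm (A := A) X H (q + 2)
  obtain ⟨s'⟩ := LA18.tor_symm (A := A) K X (q + 1)
  exact ⟨s.trans (e.trans s')⟩

end Tor

/-- Dimension shifting along the sequence. -/
theorem nonempty_tor_sq (M : DRing.Cx A) (X : Type u) [AddCommGroup X] [Module A X] :
    ∀ (p q : ℕ) (j j' : ℤ) (_ : j + p = j'),
      Nonempty (DRing.Tor A (q + 1) X ((sq M p).homology j) ≃ₗ[A] DRing.Tor A (q + 1 + p) X (M.homology j'))
  | 0, q, j, j', h => by
    obtain rfl : j = j' := by simpa using h
    exact ⟨LinearEquiv.refl A _⟩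
  | p + 1, q, j, j', h => by
    haveI := flat_freeOn (sq M p) j
    obtain ⟨e⟩ := nonempty_tor_succ_shift (A := A) X
      (eG_injective (sq M p) _ _ (surjective_bd_canon _) j)
      (exact_eG_bd (sq M p) _ _ j (j + 1) rfl) (surjective_bd_canon (sq M p) j (j + 1) rfl) q
    obtain ⟨f⟩ := nonempty_tor_sq M X p (q + 1) (j + 1) j' (by push_cast at h ⊢; omega)
    have he : q + 1 + 1 + p = q + 1 + (p + 1) := by omega
    rw [← he]
    exact ⟨e.symm.trans f⟩

/-- Index change between `Tor` sums and Künneth sums. -/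
def reindex (n : ℤ) (p : ℕ) : HTor.Antidiag n ≃ {ij : ℤ × ℤ // ij.1 + ij.2 - (p : ℕ) = n} where
  toFun ij := ⟨(ij.1.1, ij.1.2 + p), by have := ij.2; show ij.1.1 + (ij.1.2 + p) - p = n; omega⟩
  invFun ij := ⟨(ij.1.1, ij.1.2 - p), by have := ij.2; show ij.1.1 + (ij.1.2 - p) = n; omega⟩
  left_inv ij := Subtype.ext (Prod.ext rfl (add_sub_cancel_right _ _))
  right_inv ij := Subtype.ext (Prod.ext rfl (sub_add_cancel _ _))

/-- `Tor` sums map onto the relevant kernel. -/
theorem exists_torSum_map (L M : DRing.Cx A) (n : ℤ) (p : ℕ) :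
    ∃ ψ : HTor.TorSum L M n (p + 1) →ₗ[A] HTor.KunnethSum L (next (sq M p)) n,
      ∀ t, sumMap L (N := fun j => (next (sq M p)).homology j) (N' := fun j => freeOn (sq M p) j)
        (eG (sq M p) (freeOn (sq M p)) (canon (sq M p))) n t = 0 → t ∈ LinearMap.range ψ := by
  let K := fun ij : HTor.Antidiag n => LinearMap.ker
    ((eG (sq M p) (freeOn (sq M p)) (canon (sq M p)) ij.1.2).lTensor (L.homology ij.1.1))
  have key : ∀ ij : HTor.Antidiag n, Nonempty
      (DRing.Tor A (p + 1) (L.homology ij.1.1) (M.homology (ij.1.2 + (p + 1 : ℕ))) ≃ₗ[A] K ij) := by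
    intro ij
    haveI := flat_freeOn (sq M p) ij.1.2
    obtain ⟨e⟩ := nonempty_tor_one_lTensor (A := A) (L.homology ij.1.1)
      (eG_injective (sq M p) _ _ (surjective_bd_canon _) ij.1.2)
      (exact_eG_bd (sq M p) _ _ ij.1.2 (ij.1.2 + 1) rfl)
      (surjective_bd_canon (sq M p) ij.1.2 (ij.1.2 + 1) rfl)
    obtain ⟨f⟩ := nonempty_tor_sq M (L.homology ij.1.1) p 0 (ij.1.2 + 1) (ij.1.2 + (p + 1 : ℕ))
      (by push_cast; omega)
    rw [show 0 + 1 + p = p + 1 by omega] at f
    exact ⟨f.symm.trans e⟩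
  classical
  let e := fun ij => (key ij).some
  let T := fun kl : {ij : ℤ × ℤ // ij.1 + ij.2 - ((p + 1 : ℕ) : ℤ) = n} =>
    DRing.Tor A (p + 1) (L.homology kl.1.1) (M.homology kl.1.2)
  let comp : ∀ kl, T kl →ₗ[A] HTor.KunnethSum L (next (sq M p)) n := fun kl =>
    if h : ∃ ij, reindex n (p + 1) ij = kl then h.choose_spec ▸
      ((DirectSum.lof A (HTor.Antidiag n) (fun ij => L.homology ij.1.1 ⊗[A] (next (sq M p)).homology ij.1.2)
        h.choose) ∘ₗ (K h.choose).subtype ∘ₗ (e h.choose).toLinearMap)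
    else 0
  refine ⟨DirectSum.toModule A _ _ comp, fun t ht => ?_⟩
  have hall : ∀ (ij : HTor.Antidiag n) (x : L.homology ij.1.1 ⊗[A] (next (sq M p)).homology ij.1.2),
      x ∈ K ij → DirectSum.lof A (HTor.Antidiag n)
        (fun ij => L.homology ij.1.1 ⊗[A] (next (sq M p)).homology ij.1.2) ij x ∈
          LinearMap.range (DirectSum.toModule A _ _ comp) := by
    intro ij x hx
    have hcomp : LinearMap.range (comp (reindex n (p + 1) ij)) ≤
        LinearMap.range (DirectSum.toModule A _ _ comp) := by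
      rintro _ ⟨w, rfl⟩
      exact ⟨DirectSum.lof A _ T _ w, DirectSum.toModule_lof _ _ _⟩
    refine hcomp ?_
    have h : ∃ kl, reindex n (p + 1) kl = reindex n (p + 1) ij := ⟨ij, rfl⟩
    simp only [comp, dif_pos h]
    have aux : ∀ (kl : HTor.Antidiag n) (hk : reindex n (p + 1) kl = reindex n (p + 1) ij),
        DirectSum.lof A (HTor.Antidiag n)
          (fun ij => L.homology ij.1.1 ⊗[A] (next (sq M p)).homology ij.1.2) ij x ∈
        LinearMap.range (hk ▸ ((DirectSum.lof A (HTor.Antidiag n)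
            (fun ij => L.homology ij.1.1 ⊗[A] (next (sq M p)).homology ij.1.2) kl) ∘ₗ
          (K kl).subtype ∘ₗ (e kl).toLinearMap) : T (reindex n (p + 1) ij) →ₗ[A] _) := by
      intro kl hk
      obtain rfl := (reindex n (p + 1)).injective hk
      refine ⟨(e kl).symm ⟨x, hx⟩, ?_⟩
      show (DirectSum.lof A (HTor.Antidiag n)
            (fun ij => L.homology ij.1.1 ⊗[A] (next (sq M p)).homology ij.1.2) kl)
          ((e kl) ((e kl).symm ⟨x, hx⟩)).1 = _
      rw [LinearEquiv.apply_symm_apply]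
    exact aux h.choose h.choose_spec
  rw [← DirectSum.sum_support_of t]
  refine Submodule.sum_mem _ fun ij _ => ?_
  rw [← DirectSum.lof_eq_of A]
  exact hall ij (t ij) (LinearMap.mem_ker.2
    ((DFinsupp.mapRange_apply (hf := fun _ => map_zero _) ..).symm.trans (congrArg (fun s => s ij) ht)))

/-- A module injecting into the image of `T` is a subquotient of `T`. -/
theorem isSubquotient_of_le_range {N T H : Type u} [AddCommGroup N] [Module A N] [AddCommGroup T]
    [Module A T] [AddCommGroup H] [Module A H] (f : N →ₗ[A] H) (hf : Function.Injective f)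
    (g : T →ₗ[A] H) (hfg : LinearMap.range f ≤ LinearMap.range g) : HTor.IsSubquotient A N T := by
  let S' := (LinearMap.range f).comap g
  refine ⟨LinearMap.ker g, S', LinearMap.ker_le_comap g, ⟨?_⟩⟩
  let g' : S' →ₗ[A] LinearMap.range f := (g ∘ₗ S'.subtype).codRestrict _ fun x => x.2
  have hg' : Function.Surjective g' := by
    rintro ⟨y, hy⟩
    obtain ⟨x, rfl⟩ := hfg hy
    exact ⟨⟨x, hy⟩, rfl⟩
  have hk : LinearMap.ker g' = Submodule.comap S'.subtype (LinearMap.ker g) := by
    ext x
    exact Subtype.ext_iff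
  exact (LinearEquiv.ofInjective f hf).trans
    ((g'.quotKerEquivOfSurjective hg').symm.trans (Submodule.quotEquivOfEq _ _ hk))

/-- The composite `H(L ⊗ M) → H(L ⊗ sq p)`. -/
noncomputable def comp (L M : DRing.Cx A) (n : ℤ) :
    (p : ℕ) → (HTor.tensorCx L M).homology n →ₗ[A] (HTor.tensorCx L (sq M p)).homology n
  | 0 => LinearMap.id
  | p + 1 => (HomologicalComplex.homologyMap (L ◁ inclM (sq M p) (freeOn (sq M p)) (canon (sq M p))) n).hom ∘ₗ
      comp L M n p

/-- The filtration. -/
noncomputable def fil (L M : DRing.Cx A) (n : ℤ) (p : ℕ) : Submodule A ((HTor.tensorCx L M).homology n) :=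
  LinearMap.ker (comp L M n (p + 1))

theorem fil_zero (L M : DRing.Cx A) (n : ℤ) : fil L M n 0 = LinearMap.range (kun L M n) := by
  ext c
  rw [fil, LinearMap.mem_ker]
  constructor
  · intro hc
    exact exists_kun_of_inclM_zero L M _ _ (flat_freeOn M) (n - 1) n (by omega) c hc
  · rintro ⟨t, rfl⟩
    exact homologyMap_inclM_kun L M _ _ (surjective_bd_canon M) n t

theorem monotone_fil (L M : DRing.Cx A) (n : ℤ) : Monotone (fil L M n) :=
  monotone_nat_of_le_succ fun p => LinearMap.ker_le_ker_comp _ _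

theorem fil_eq_top (L M : DRing.Cx A) (hL : DRing.TermwiseFlat L) (bL : ℤ)
    (hbL : DRing.VanishesAbove L bL) (b : ℤ) (hb : DRing.VanishesAbove M b) (n : ℤ) :
    fil L M n (bL + b - n).toNat = ⊤ := by
  haveI := ModuleCat.subsingleton_of_isZero
    (isZero_tensor_sq L M hL bL hbL b hb n ((bL + b - n).toNat + 1) (by omega))
  exact eq_top_iff.2 fun c _ => LinearMap.mem_ker.2 (Subsingleton.elim _ _)

theorem isSubquotient_grSucc (L M : DRing.Cx A) (n : ℤ) (p : ℕ) :
    HTor.IsSubquotient A (HTor.grSucc (fil L M n) p) (HTor.TorSum L M n (p + 1)) := by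
  obtain ⟨ψ, hψ⟩ := exists_torSum_map L M n p
  let f := comp L M n (p + 1) ∘ₗ (fil L M n (p + 1)).subtype
  let f' := ((fil L M n p).comap (fil L M n (p + 1)).subtype).liftQ f le_rfl
  have hf' : Function.Injective f' :=
    LinearMap.ker_eq_bot.1 (Submodule.ker_liftQ_eq_bot _ _ _ le_rfl)
  refine isSubquotient_of_le_range f' hf' (kun L (next (sq M p)) n ∘ₗ ψ) ?_
  rw [Submodule.range_liftQ]
  rintro _ ⟨c, rfl⟩
  have h0 : (HomologicalComplex.homologyMap (L ◁ inclM (sq M (p + 1)) (freeOn (sq M (p + 1))) (canon (sq M (p + 1)))) n).hom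
      (comp L M n (p + 1) c.1) = 0 := LinearMap.mem_ker.1 c.2
  obtain ⟨t, ht⟩ := exists_kun_of_inclM_zero L (sq M (p + 1)) _ _ (flat_freeOn _) (n - 1) n (by omega) _ h0
  obtain ⟨w, rfl⟩ := hψ t (sumMap_eG_eq_zero L (sq M p) _ _ (flat_freeOn _) n t (comp L M n p c.1) ht.symm)
  exact ⟨w, ht⟩

theorem subsingleton_of_isSubquotient {N T : Type u} [AddCommGroup N] [Module A N] [AddCommGroup T]
    [Module A T] (h : HTor.IsSubquotient A N T) [Subsingleton T] : Subsingleton N := by
  obtain ⟨S, S', -, ⟨e⟩⟩ := h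
  haveI : Subsingleton (↥S' ⧸ Submodule.comap S'.subtype S) :=
    Submodule.Quotient.subsingleton_iff.2 (eq_top_iff.2 fun x _ => by
      rw [show x = 0 from Subsingleton.elim _ _]; exact Submodule.zero_mem _)
  exact e.toEquiv.subsingleton

theorem range_kun_eq_top (L M : DRing.Cx A) (hL : DRing.TermwiseFlat L) (bL : ℤ)
    (hbL : DRing.VanishesAbove L bL) (b : ℤ) (hb : DRing.VanishesAbove M b) (n : ℤ)
    (h : ∀ p, Subsingleton (HTor.TorSum L M n (p + 1))) : LinearMap.range (kun L M n) = ⊤ := by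
  have key : ∀ p, fil L M n p = fil L M n 0 := by
    intro p
    induction p with
    | zero => rfl
    | succ p ih =>
      haveI := h p
      haveI := subsingleton_of_isSubquotient (isSubquotient_grSucc L M n p)
      refine le_antisymm (fun c hc => ?_) (monotone_fil L M n (Nat.zero_le _))
      rw [← ih]
      exact ((Submodule.Quotient.mk_eq_zero
          (Submodule.comap (fil L M n (p + 1)).subtype (fil L M n p)) (x := ⟨c, hc⟩)).1
        (Subsingleton.elim _ _) : _)
  rw [← fil_zero, ← key (bL + b - n).toNat, fil_eq_top L M hL bL hbL b hb n]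

theorem subsingleton_torSum_of_flat (L M : DRing.Cx A) (hH : ∀ i : ℤ, Module.Flat A (L.homology i))
    (n : ℤ) (p : ℕ) : Subsingleton (HTor.TorSum L M n (p + 1)) := by
  refine ⟨fun x y => DFinsupp.ext fun ij => ?_⟩
  haveI := hH ij.1.1
  haveI := (S3527.result A (L.homology ij.1.1) (M.homology ij.1.2) (p + 1) p.succ_pos).1
  exact Subsingleton.elim _ _

theorem kun_bijective_of_flat (L M : DRing.Cx A) (hL : DRing.TermwiseFlat L) (bL : ℤ)
    (hbL : DRing.VanishesAbove L bL) (b : ℤ) (hb : DRing.VanishesAbove M b)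
    (hH : ∀ i : ℤ, Module.Flat A (L.homology i)) (n : ℤ) : Function.Bijective (kun L M n) := by
  refine ⟨?_, LinearMap.range_eq_top.1 (range_kun_eq_top L M hL bL hbL b hb n
    fun p => subsingleton_torSum_of_flat L M hH n p)⟩
  refine kun_injective_of_surjective L M _ _ (flat_freeOn M) (n - 1) n (by omega) (surjective_bd_canon M)
    (LinearMap.range_eq_top.1 (range_kun_eq_top L (next M) hL bL hbL b (fun j hj => ?_) (n - 1)
      fun p => subsingleton_torSum_of_flat L (next M) hH (n - 1) p))
  haveI := ModuleCat.subsingleton_of_isZero (hb j hj)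
  haveI : Subsingleton (freeOn M j) := subsingleton_freeOn M j ((exactAt_iff_isZero_homology _ _).1
    (ShortComplex.exact_of_isZero_X₂ _ (hb (j + 1) (by omega))))
  exact ModuleCat.isZero_of_subsingleton (ModuleCat.of A (M.X j × freeOn M j))

end Groth.Agent.HTor49
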