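import Groth.Agent.HTor49.BoxTot
import Groth.Agent.DR39.DBasic
import Groth.Agent.Desc59.FlatH0

/-!
Derived Künneth formulas over an affine base.
-/

set_option autoImplicit false
set_option backward.isDefEq.respectTransparency false
set_option backward.isDefEq.respectTransparency.types false
set_option synthInstance.maxHeartbeats 400000
set_option maxSynthPendingDepth 6
set_option linter.style.haveILetI false

noncomputable section

universe u

open CategoryTheory CategoryTheory.Limits Opposite AlgebraicGeometry TopologicalSpace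
open MonoidalCategory HomologicalComplex

attribute [local instance] HasDerivedCategory.standard

namespace Groth.Agent.HTor49

variable {A : Type u} [CommRing A]

lemma exists_fin_affine_cover (X : Scheme.{u}) [CompactSpace X] :
    ∃ (N : ℕ) (U : Fin (N + 1) → X.Opens), (∀ i, IsAffineOpen (U i)) ∧ ⨆ i, U i = ⊤ := by
  obtain ⟨n, W, hW, hcov⟩ := Desc59.FlatH0.exists_finite_affine_cover (X := X) (O := ⊤) isCompact_univ
  refine ⟨n, Fin.cons ⊥ W, fun i => ?_, top_le_iff.1 fun x _ => ?_⟩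
  · refine Fin.cases ?_ (fun j => ?_) i
    · simpa using isAffineOpen_bot X
    · simpa using (hW j).1
  · obtain ⟨k, hk⟩ := hcov x trivial
    exact Opens.mem_iSup.2 ⟨k.succ, by simpa using hk⟩

lemma exists_qis_of_iso {L G : DRing.Cx A} (hL : ∀ i, Projective (L.X i)) (c : ∃ c, DRing.VanishesAbove L c)
    (e : DRing.toD L ≅ DRing.toD G) : ∃ u : L ⟶ G, QuasiIso u := by
  obtain ⟨b, hb⟩ := c
  haveI := DR39.isKProjective_of_bddAbove L b hb fun i => (IsProjective.iff_projective (R := A) _).2 (hL i)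
  obtain ⟨u, hu⟩ := DR39.Q_map_surjective L G e.hom
  refine ⟨u, (DerivedCategory.isIso_Q_map_iff_quasiIso _ u).1 ?_⟩
  rw [hu]
  infer_instance

lemma isKFlat_of_projective {L : DRing.Cx A} (hL : ∀ i, Projective (L.X i)) (c : ∃ c, DRing.VanishesAbove L c) :
    DRing.IsKFlat A L := by
  obtain ⟨b, hb⟩ := c
  exact DR39.isKFlat_of_flat b hb fun i =>
    haveI := (IsProjective.iff_projective (R := A) _).2 (hL i)
    Module.Flat.of_projective

/-- A resolution of one factor. -/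
theorem exists_factor_resolution {X : Scheme.{u}} (f : X ⟶ Spec (CommRingCat.of A)) [QuasiCompact f]
    [IsSeparated f] [HTor.HasRΓA f] (P : CochainComplex X.Modules ℤ) (hq : ∀ i, Coh.IsQCoh (P.X i))
    (bP : ∃ b : ℤ, ∀ i : ℤ, b < i → IsZero (P.X i)) (L : DRing.Cx A) (hL : ∀ i : ℤ, Projective (L.X i))
    (c : ∃ c : ℤ, DRing.VanishesAbove L c) (e : HTor.Computes f L (DCoh.toD X P)) :
    ∃ (T : CochainComplex X.Modules ℤ) (η : P ⟶ T) (b : ℤ)
      (u : L ⟶ ((HTor.globalSectionsA f).mapHomologicalComplex (ComplexShape.up ℤ)).obj T),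
      QuasiIso η ∧ QuasiIso u ∧ (∀ n, Cls (T.X n)) ∧ (∀ n, b < n → IsZero (T.X n)) ∧
      ((∀ n, FlatA f (P.X n)) → ∀ n, FlatA f (T.X n)) := by
  haveI := isSeparated_of_over f
  haveI : CompactSpace X := isCompact_univ_iff.1
    (QuasiCompact.isCompact_preimage (f := f) _ isOpen_univ isCompact_univ)
  obtain ⟨N, U, hU, hcov⟩ := exists_fin_affine_cover X
  obtain ⟨b, hb⟩ := bP
  obtain ⟨T, η, hη, hT, -, hTb, hTs, ⟨e'⟩⟩ := exists_computes_sections f hq N U hU hcov hb 0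
  obtain ⟨e⟩ := e
  obtain ⟨u, hu⟩ := exists_qis_of_iso hL c (e ≪≫ e'.symm)
  exact ⟨T, η, b + N, u, hη, hu, hT, hTb, fun hf => hTs _ (stab_flatA f) hf⟩

lemma isKFlat_globalSections {X : Scheme.{u}} (f : X ⟶ Spec (CommRingCat.of A))
    {T : CochainComplex X.Modules ℤ} {b : ℤ} (hb : ∀ i, b < i → IsZero (T.X i)) (hT : ∀ i, Cls (T.X i))
    (hf : ∀ i, FlatA f (T.X i)) :
    DRing.IsKFlat A (((HTor.globalSectionsA f).mapHomologicalComplex (ComplexShape.up ℤ)).obj T) :=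
  DR39.isKFlat_of_flat b (fun i hi => (HTor.globalSectionsA f).map_isZero (hb i hi))
    fun i => (hT i).flat_global f (hf i)

variable {Z X₁ X₂ : Scheme.{u}} {p : Z ⟶ X₁} {q : Z ⟶ X₂}
  {f₁ : X₁ ⟶ Spec (CommRingCat.of A)} {f₂ : X₂ ⟶ Spec (CommRingCat.of A)}

/-- The derived Künneth formula from resolutions of the two factors. -/
theorem computes_boxCx_of_resolutions (H : IsPullback p q f₁ f₂) [X₁.IsSeparated] [X₂.IsSeparated]
    [Z.IsSeparated] [QuasiCompact (p ≫ f₁)] [QuasiSeparated (p ≫ f₁)] [HTor.HasRΓA (p ≫ f₁)]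
    {P₁ T₁ : CochainComplex X₁.Modules ℤ} {P₂ T₂ : CochainComplex X₂.Modules ℤ}
    (η₁ : P₁ ⟶ T₁) [QuasiIso η₁] (η₂ : P₂ ⟶ T₂) [QuasiIso η₂]
    (hq₁ : ∀ i, Coh.IsQCoh (P₁.X i)) (hq₂ : ∀ i, Coh.IsQCoh (P₂.X i))
    (hT₁ : ∀ i, Cls (T₁.X i)) (hT₂ : ∀ i, Cls (T₂.X i)) {a₁ a₂ b₁ b₂ : ℤ}
    (ha₁ : ∀ i, a₁ < i → IsZero (P₁.X i)) (ha₂ : ∀ i, a₂ < i → IsZero (P₂.X i))
    (hb₁ : ∀ i, b₁ < i → IsZero (T₁.X i)) (hb₂ : ∀ i, b₂ < i → IsZero (T₂.X i))
    (hf : ∀ i, FlatA f₁ (P₁.X i)) (hf' : ∀ i, FlatA f₁ (T₁.X i)) {L₁ L₂ : DRing.Cx A}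
    (hL₁ : DRing.IsKFlat A L₁)
    (u₁ : L₁ ⟶ ((HTor.globalSectionsA f₁).mapHomologicalComplex (ComplexShape.up ℤ)).obj T₁) [QuasiIso u₁]
    (u₂ : L₂ ⟶ ((HTor.globalSectionsA f₂).mapHomologicalComplex (ComplexShape.up ℤ)).obj T₂) [QuasiIso u₂] :
    HTor.Computes (p ≫ f₁) (HTor.tensorCx L₁ L₂) (DCoh.toD Z (boxCx p q P₁ P₂)) := by
  obtain ⟨e⟩ := computes_boxCx H T₁ T₂ hT₁ hT₂ hb₁ hb₂
  haveI := quasiIso_tensor hL₁ (isKFlat_globalSections f₁ hb₁ hT₁ hf') u₁ u₂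
  haveI := quasiIso_boxCxMap H η₁ η₂ hq₁ (fun i => (hT₁ i).isQCoh) hq₂ (fun i => (hT₂ i).isQCoh)
    ha₁ hb₁ ha₂ hb₂ hf hf'
  haveI : IsIso (DerivedCategory.Q.map (u₁ ⊗ₘ u₂)) :=
    (DerivedCategory.isIso_Q_map_iff_quasiIso _ _).2 inferInstance
  haveI : IsIso (DerivedCategory.Q.map (boxCxMap p q η₁ η₂)) :=
    (DerivedCategory.isIso_Q_map_iff_quasiIso _ _).2 inferInstance
  exact ⟨asIso (DerivedCategory.Q.map (u₁ ⊗ₘ u₂)) ≪≫ e ≪≫
    (HTor.RΓA (p ≫ f₁)).mapIso (asIso (DerivedCategory.Q.map (boxCxMap p q η₁ η₂))).symm⟩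

end Groth.Agent.HTor49
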