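import Groth.Agent.HTor49.BoxSec
import Groth.Agent.QC70.StalkLoc
import Groth.Agent.QCTens72.Basic

/-!
External tensor products of direct images from affine opens.
-/

set_option autoImplicit false
set_option backward.isDefEq.respectTransparency false
set_option backward.isDefEq.respectTransparency.types false
set_option synthInstance.maxHeartbeats 200000
set_option maxSynthPendingDepth 6
set_option linter.style.haveILetI false

noncomputable section

universe u

open CategoryTheory CategoryTheory.Limits Opposite AlgebraicGeometry TopologicalSpace TensorProduct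
open MonoidalCategory
open Groth.Agent.QC70 Groth.Agent.QCPull72

namespace Groth.Agent.HTor49

section Generic

/-- A map of quasi-coherent modules bijective on the sections of an affine cover is an isomorphism. -/
theorem isIso_of_affine_cover {X : Scheme.{u}} {M N : X.Modules} [M.IsQuasicoherent] [N.IsQuasicoherent]
    (φ : M ⟶ N) (h : ∀ x : X, ∃ V : X.Opens, x ∈ V ∧ IsAffineOpen V ∧ Function.Bijective (φ.app V)) :
    IsIso φ := by
  refine isIso_of_bijective_stalkMapM φ fun x => ?_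
  obtain ⟨V, hx, hV, hb⟩ := h x
  refine ⟨fun e e' he => ?_, fun e' => ?_⟩
  · obtain ⟨r, t, hr, ht⟩ := stalk_exists_smul (isLocAt_of_isQuasicoherent (M := M) hV) hV hx (e - e')
    obtain ⟨v, hv⟩ := isUnit_germ hr
    have h0 : stalkLinear φ x (X.presheaf.germ V x hx r • (e - e')) = 0 := by
      rw [map_smul, map_sub, show stalkLinear φ x e = stalkLinear φ x e' from he, sub_self, smul_zero]
    rw [ht] at h0
    obtain ⟨g, hg, hg0⟩ := stalk_exists_smul_eq_zero (isLocAt_of_isQuasicoherent (M := N) hV) hV hx (φ.app V t)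
      ((stalkMapM_germ φ hx t).symm.trans h0)
    obtain ⟨w, hw⟩ := isUnit_germ hg
    have h1 : g • t = 0 := hb.1 (by rw [Scheme.Modules.Hom.app_smul, hg0, map_zero])
    have h2 : X.presheaf.germ V x hx g • (X.presheaf.germ V x hx r • (e - e')) = 0 := by
      rw [ht, ← germM_smul, h1, germM_zero]
    rw [← hw, ← hv, smul_smul, ← Units.val_mul] at h2
    exact sub_eq_zero.1 ((smul_eq_zero_iff_eq (w * v)).1 h2)
  · obtain ⟨r, s, hr, hs⟩ := stalk_exists_smul (isLocAt_of_isQuasicoherent (M := N) hV) hV hx e'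
    obtain ⟨v, hv⟩ := isUnit_germ hr
    obtain ⟨t, ht⟩ := hb.2 s
    refine ⟨(↑v⁻¹ : X.presheaf.stalk x) • germM M V x hx t, ?_⟩
    change stalkLinear φ x _ = e'
    rw [map_smul, show stalkLinear φ x (germM M V x hx t) = _ from stalkMapM_germ φ hx t, ht, ← hs, ← hv,
      smul_smul, Units.inv_mul, one_smul]

variable {X : Scheme.{u}} {U : X.Opens}

lemma loc_of_isIso_jUnit {M : X.Modules} [IsIso ((jUnit U).app M)] : Loc U M := fun V => by
  have h : Function.Bijective (((jUnit U).app M).app V) := ConcreteCategory.bijective_of_isIso _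
  rw [Scheme.Modules.restrictAdjunction_unit_app_app] at h
  change Function.Bijective (Cx47.res M (U.ι.image_preimage_le V)) at h
  have h2 := res_bijective_of_eq M (image_preimage U V).ge (image_preimage U V).symm
  have hc : Cx47.res M (inf_le_right : U ⊓ V ≤ V) =
      Cx47.res M (image_preimage U V).ge ∘ Cx47.res M (U.ι.image_preimage_le V) :=
    funext fun x => (Cx47.res_res M _ _ x).symm
  rw [hc]
  exact h2.comp h

/-- Finite sums, as an induction principle for natural transformations of additive functors. -/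
theorem Cls.bijective_app {C : Type*} [Category C] [Preadditive C] [HasBinaryBiproducts C] [HasZeroObject C]
    (F G : X.Modules ⥤ C) [F.Additive] [G.Additive] (α : F ⟶ G) {M : X.Modules} (h : Cls M)
    (hloc : ∀ (N : X.Modules) (W : X.Opens), IsAffineOpen W → Coh.IsQCoh N → Loc W N → IsIso (α.app N)) :
    IsIso (α.app M) := by
  induction h with
  | @zero M h => exact ⟨0, (F.map_isZero h).eq_of_src _ _, (G.map_isZero h).eq_of_src _ _⟩
  | @loc M W hW hM hl => exact hloc M W hW hM hl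
  | @biprod M N _ _ h1 h2 =>
    haveI := h1
    haveI := h2
    refine ⟨G.map biprod.fst ≫ inv (α.app M) ≫ F.map biprod.inl +
      G.map biprod.snd ≫ inv (α.app N) ≫ F.map biprod.inr, ?_, ?_⟩
    · rw [Preadditive.comp_add, ← α.naturality_assoc, ← α.naturality_assoc, IsIso.hom_inv_id_assoc,
        IsIso.hom_inv_id_assoc, ← F.map_comp, ← F.map_comp, ← F.map_add, biprod.total, F.map_id]
    · rw [Preadditive.add_comp, Category.assoc, Category.assoc, Category.assoc, Category.assoc,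
        α.naturality, α.naturality, IsIso.inv_hom_id_assoc, IsIso.inv_hom_id_assoc, ← G.map_comp,
        ← G.map_comp, ← G.map_add, biprod.total, G.map_id]
  | @iso M N e _ h =>
    haveI := h
    rw [show α.app N = F.map e.inv ≫ α.app M ≫ G.map e.hom by
      rw [← α.naturality, ← Category.assoc, ← F.map_comp, e.inv_hom_id, F.map_id, Category.id_comp]]
    infer_instance

end Generic

variable {A : Type u} [CommRing A] {Z X₁ X₂ : Scheme.{u}} {p : Z ⟶ X₁} {q : Z ⟶ X₂}
  {f₁ : X₁ ⟶ Spec (CommRingCat.of A)} {f₂ : X₂ ⟶ Spec (CommRingCat.of A)}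

/-- Restriction, linearly over the base. -/
def resA {X : Scheme.{u}} (f : X ⟶ Spec (CommRingCat.of A)) (M : X.Modules) {V V' : X.Opens} (h : V' ≤ V) :
    secA f M V →ₗ[A] secA f M V' where
  toFun x := Cx47.res M h x
  map_add' x y := map_add _ _ _
  map_smul' a x := by
    change Cx47.res M h (sA f V a • (x : Γ(M, V))) = sA f V' a • Cx47.res M h x
    exact (Scheme.Modules.map_smul ..).trans (congrArg (· • Cx47.res M h x) (map_sA f h a))

lemma res_bxMap (w : p ≫ f₁ = q ≫ f₂) (M : X₁.Modules) (N : X₂.Modules) {V₁ V₁' : X₁.Opens}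
    {V₂ V₂' : X₂.Opens} {V V' : Z.Opens} (e₁ : V ≤ p ⁻¹ᵁ V₁) (e₂ : V ≤ q ⁻¹ᵁ V₂) (e₁' : V' ≤ p ⁻¹ᵁ V₁')
    (e₂' : V' ≤ q ⁻¹ᵁ V₂') (h₁ : V₁' ≤ V₁) (h₂ : V₂' ≤ V₂) (h : V' ≤ V) :
    Cx47.res (box p q M N) h ∘ bxMap M N e₁ e₂ w =
      bxMap M N e₁' e₂' w ∘ TensorProduct.map (resA f₁ M h₁) (resA f₂ N h₂) := by
  funext z
  induction z using TensorProduct.induction_on with
  | zero => simp [Cx47.res]
  | add a b ha hb =>
    simp only [Function.comp, map_add] at ha hb ⊢
    exact congrArg₂ (· + ·) ha hb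
  | tmul x y => exact res_bx M N e₁ e₂ e₁' e₂' h₁ h₂ h x y

lemma isQCoh_box (M : X₁.Modules) (N : X₂.Modules) (hM : Coh.IsQCoh M) (hN : Coh.IsQCoh N) :
    Coh.IsQCoh (box p q M N) :=
  haveI := hM
  haveI := hN
  haveI := QCPull72.isQuasicoherent_pullback p M
  haveI := QCPull72.isQuasicoherent_pullback q N
  QCTens72.isQuasicoherent_tensorMod _ _

variable (H : IsPullback p q f₁ f₂)

include H in
lemma isAffineOpen_prod {V₁ : X₁.Opens} {V₂ : X₂.Opens} (h₁ : IsAffineOpen V₁) (h₂ : IsAffineOpen V₂) :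
    IsAffineOpen (p ⁻¹ᵁ V₁ ⊓ q ⁻¹ᵁ V₂) :=
  haveI : IsAffine V₁.toScheme := h₁
  haveI : IsAffine V₂.toScheme := h₂
  haveI : IsAffine (⊤ : (Spec (CommRingCat.of A)).Opens).toScheme := isAffineOpen_top _
  .of_isIso (Scheme.Hom.isPullback_resLE H (US := ⊤) (le_top : V₂ ≤ _) (le_top : V₁ ≤ _) rfl).isoPullback.hom

variable {M : X₁.Modules} {N : X₂.Modules} {W₁ : X₁.Opens} {W₂ : X₂.Opens}

include H in
lemma res_box_bijective [M.IsQuasicoherent] [N.IsQuasicoherent] {V₁ V₁' : X₁.Opens} {V₂ V₂' : X₂.Opens}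
    (h₁ : V₁' ≤ V₁) (h₂ : V₂' ≤ V₂) (a₁ : IsAffineOpen V₁') (a₂ : IsAffineOpen V₂') {V : Z.Opens}
    (e₁ : V ≤ p ⁻¹ᵁ V₁) (e₂ : V ≤ q ⁻¹ᵁ V₂) (hb : Function.Bijective (bxMap M N e₁ e₂ H.w))
    (r₁ : Function.Bijective (Cx47.res M h₁)) (r₂ : Function.Bijective (Cx47.res N h₂))
    (h : p ⁻¹ᵁ V₁' ⊓ q ⁻¹ᵁ V₂' ≤ V) : Function.Bijective (Cx47.res (box p q M N) h) := by
  have hc := res_bxMap H.w M N e₁ e₂ inf_le_left inf_le_right h₁ h₂ h
  have hm : Function.Bijective (TensorProduct.map (resA f₁ M h₁) (resA f₂ N h₂)) :=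
    (TensorProduct.congr (LinearEquiv.ofBijective (resA f₁ M h₁) r₁)
      (LinearEquiv.ofBijective (resA f₂ N h₂) r₂)).bijective
  refine (Function.Bijective.of_comp_iff _ hb).1 ?_
  rw [hc]
  exact (bxMap_bijective M N _ _ H a₁ a₂ rfl (isAffineOpen_prod H a₁ a₂)).comp hm

variable [X₁.IsSeparated] [X₂.IsSeparated] [Z.IsSeparated]

include H in
/-- The external product of direct images from affine opens is one from their product. -/
theorem loc_box (hW₁ : IsAffineOpen W₁) (hW₂ : IsAffineOpen W₂) (hM : Coh.IsQCoh M) (hN : Coh.IsQCoh N)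
    (l₁ : Loc W₁ M) (l₂ : Loc W₂ N) : Loc (p ⁻¹ᵁ W₁ ⊓ q ⁻¹ᵁ W₂) (box p q M N) := by
  haveI := hM
  haveI := hN
  let W := p ⁻¹ᵁ W₁ ⊓ q ⁻¹ᵁ W₂
  haveI : (box p q M N).IsQuasicoherent := isQCoh_box M N hM hN
  haveI : ((CechOX.pushRestr W).obj (box p q M N)).IsQuasicoherent :=
    isQCoh_pushRestr (isAffineOpen_prod H hW₁ hW₂) _ (isQCoh_box M N hM hN)
  haveI : ((𝟭 Z.Modules).obj (box p q M N)).IsQuasicoherent := isQCoh_box M N hM hN
  haveI : IsIso ((jUnit W).app (box p q M N)) := by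
    refine isIso_of_affine_cover _ fun z => ?_
    obtain ⟨V₁, a₁, hz₁, -⟩ := exists_isAffineOpen_mem_and_subset (X := X₁) (x := p z) (U := ⊤) trivial
    obtain ⟨V₂, a₂, hz₂, -⟩ := exists_isAffineOpen_mem_and_subset (X := X₂) (x := q z) (U := ⊤) trivial
    refine ⟨p ⁻¹ᵁ V₁ ⊓ q ⁻¹ᵁ V₂, ⟨hz₁, hz₂⟩, isAffineOpen_prod H a₁ a₂, jUnit_app_bijective W fun hle => ?_⟩
    have he : W ⊓ (p ⁻¹ᵁ V₁ ⊓ q ⁻¹ᵁ V₂) = p ⁻¹ᵁ (W₁ ⊓ V₁) ⊓ q ⁻¹ᵁ (W₂ ⊓ V₂) := by
      rw [Scheme.Hom.preimage_inf, Scheme.Hom.preimage_inf]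
      exact inf_inf_inf_comm _ _ _ _
    have hle' : p ⁻¹ᵁ (W₁ ⊓ V₁) ⊓ q ⁻¹ᵁ (W₂ ⊓ V₂) ≤ p ⁻¹ᵁ V₁ ⊓ q ⁻¹ᵁ V₂ := he ▸ inf_le_right
    have h1 := res_box_bijective H (M := M) (N := N) inf_le_right inf_le_right (hW₁.inf a₁) (hW₂.inf a₂)
      inf_le_left inf_le_right (bxMap_bijective M N _ _ H a₁ a₂ rfl (isAffineOpen_prod H a₁ a₂))
      (l₁ V₁) (l₂ V₂) hle'
    have he' := (image_preimage W (p ⁻¹ᵁ V₁ ⊓ q ⁻¹ᵁ V₂)).trans he
    have h2 := res_bijective_of_eq (box p q M N) he'.le he'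
    rw [show Cx47.res (box p q M N) hle = Cx47.res (box p q M N) he'.le ∘ Cx47.res (box p q M N) hle' from
      funext fun x => (Cx47.res_res _ _ _ x).symm]
    exact h2.comp h1
  exact loc_of_isIso_jUnit

variable (p q) in
/-- The external tensor product as a functor of the first variable. -/
abbrev boxL (N : X₂.Modules) : X₁.Modules ⥤ Z.Modules :=
  Scheme.Modules.pullback p ⋙ DCoh.tensorBi.flip.obj ((Scheme.Modules.pullback q).obj N)

instance additive_tensorBi_flip_obj {X : Scheme.{u}} (K : X.Modules) :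
    ((DCoh.tensorBi (X := X)).flip.obj K).Additive where
  map_add {M M' g h} := congr($(Functor.map_add (F := DCoh.tensorBi (X := X)) (f := g) (g := h)).app K)

variable (p q) in
/-- The external tensor product as a functor of the second variable. -/
abbrev boxR (M : X₁.Modules) : X₂.Modules ⥤ Z.Modules :=
  Scheme.Modules.pullback q ⋙ DCoh.tensorBi.obj ((Scheme.Modules.pullback p).obj M)

omit [X₁.IsSeparated] [X₂.IsSeparated] [Z.IsSeparated] in
lemma additive_boxL (N : X₂.Modules) : (boxL p q N).Additive := inferInstance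

include H in
theorem cls_box (hM : Cls M) (hN : Cls N) : Cls (box p q M N) := by
  induction hM with
  | @zero M h => exact .zero ((boxL p q N).map_isZero h)
  | @loc M W hW hq hl =>
    induction hN with
    | @zero N h => exact .zero ((boxR p q M).map_isZero h)
    | @loc N W' hW' hq' hl' =>
      exact .loc _ (isAffineOpen_prod H hW hW') (isQCoh_box M N hq hq') (loc_box H hW hW' hq hq' hl hl')
    | @biprod N N' _ _ h1 h2 =>
      haveI : PreservesBinaryBiproducts (boxR p q M) := preservesBinaryBiproducts_of_preservesBiproducts _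
      exact .iso ((boxR p q M).mapBiprod N N').symm (.biprod h1 h2)
    | iso e _ h => exact .iso ((boxR p q M).mapIso e) h
  | @biprod M M' _ _ h1 h2 =>
    haveI : PreservesBinaryBiproducts (boxL p q N) := preservesBinaryBiproducts_of_preservesBiproducts _
    exact .iso ((boxL p q N).mapBiprod M M').symm (.biprod h1 h2)
  | iso e _ h => exact .iso ((boxL p q N).mapIso e) h

/-! ### Global sections -/

variable (p q f₁ f₂)

omit [X₁.IsSeparated] [X₂.IsSeparated] [Z.IsSeparated] in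
lemma topU_le : topU (p ≫ f₁) ≤ p ⁻¹ᵁ topU f₁ := fun _ _ => trivial

omit [X₁.IsSeparated] [X₂.IsSeparated] [Z.IsSeparated] in
lemma topU_le' : topU (p ≫ f₁) ≤ q ⁻¹ᵁ topU f₂ := fun _ _ => trivial

omit [X₁.IsSeparated] [X₂.IsSeparated] [Z.IsSeparated] in
lemma bx_smul_left (a : A) {M : X₁.Modules} {N : X₂.Modules} {V₁ : X₁.Opens} {V₂ : X₂.Opens} {V : Z.Opens}
    (e₁ : V ≤ p ⁻¹ᵁ V₁) (e₂ : V ≤ q ⁻¹ᵁ V₂) (x : Γ(M, V₁)) (y : Γ(N, V₂)) :
    bx M N e₁ e₂ (sA f₁ V₁ a • x) y = sA (p ≫ f₁) V a • bx M N e₁ e₂ x y := by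
  rw [bx, LimTop61.unitSec_smul, appLE_sA f₁ p rfl]
  refine (congrArg (fun t => ((SecTwist.toTensor _ _).app (op V)).hom t)
    (Mod48.tp_smul_left (O := Z.sheaf) (M := CohB1.toPMod _) (N := CohB1.toPMod _) (X := op V) _ _ _)).trans ?_
  exact map_smul ((SecTwist.toTensor _ _).app (op V)).hom _ _

/-- The global external product. -/
def gBox (w : p ≫ f₁ = q ≫ f₂) (M : X₁.Modules) (N : X₂.Modules) :
    (HTor.globalSectionsA f₁).obj M ⊗ (HTor.globalSectionsA f₂).obj N ⟶
      (HTor.globalSectionsA (p ≫ f₁)).obj (box p q M N) :=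
  ModuleCat.MonoidalCategory.tensorLift
    (fun x y => bx M N (topU_le p f₁) (topU_le' p q f₁ f₂) x y)
    (fun x x' y => by
      change SecTwist.tmul _ _ _ (unitSec p M _ (_ + _)) _ = _
      rw [LimTop61.unitSec_add]
      exact Mum71.SecTwistTmul.add_left _ _ _ _ _ _)
    (fun a x y => by
      change bx M N (topU_le p f₁) (topU_le' p q f₁ f₂) (show Γ(M, topU f₁) from a • x) y = _
      rw [globalSectionsA_smul, bx_smul_left p q f₁]
      exact (globalSectionsA_smul (p ≫ f₁) (box p q M N) a _).symm)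
    (fun x y y' => by
      change SecTwist.tmul _ _ _ _ (unitSec q N _ (_ + _)) = _
      rw [LimTop61.unitSec_add]
      exact Mum71.SecTwistTmul.add_right _ _ _ _ _ _)
    (fun a x y => by
      change bx M N (topU_le p f₁) (topU_le' p q f₁ f₂) x (show Γ(N, topU f₂) from a • y) = _
      rw [globalSectionsA_smul]
      refine ((bx_smul M N _ _ w a x y).symm.trans (bx_smul_left p q f₁ a _ _ x y)).trans ?_
      exact (globalSectionsA_smul (p ≫ f₁) (box p q M N) a _).symm)

omit [X₁.IsSeparated] [X₂.IsSeparated] [Z.IsSeparated] in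
lemma gBox_natL (w : p ≫ f₁ = q ≫ f₂) {M M' : X₁.Modules} (g : M ⟶ M') (N : X₂.Modules) :
    ((HTor.globalSectionsA f₁).map g) ▷ (HTor.globalSectionsA f₂).obj N ≫ gBox p q f₁ f₂ w M' N =
      gBox p q f₁ f₂ w M N ≫ (HTor.globalSectionsA (p ≫ f₁)).map ((boxL p q N).map g) := by
  refine ModuleCat.MonoidalCategory.tensor_ext fun x y => ?_
  exact (map_left_bx M N _ _ g x y).symm

omit [X₁.IsSeparated] [X₂.IsSeparated] [Z.IsSeparated] in
lemma gBox_natR (w : p ≫ f₁ = q ≫ f₂) (M : X₁.Modules) {N N' : X₂.Modules} (g : N ⟶ N') :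
    (HTor.globalSectionsA f₁).obj M ◁ (HTor.globalSectionsA f₂).map g ≫ gBox p q f₁ f₂ w M N' =
      gBox p q f₁ f₂ w M N ≫ (HTor.globalSectionsA (p ≫ f₁)).map ((boxR p q M).map g) := by
  refine ModuleCat.MonoidalCategory.tensor_ext fun x y => ?_
  exact (map_right_bx M N _ _ g x y).symm

/-- Global sections as sections, linearly. -/
def gsEquiv {X : Scheme.{u}} (f : X ⟶ Spec (CommRingCat.of A)) (M : X.Modules) :
    (HTor.globalSectionsA f).obj M ≃ₗ[A] secA f M (topU f) where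
  toFun x := x
  invFun x := x
  map_add' _ _ := rfl
  map_smul' a x := globalSectionsA_smul f M a x
  left_inv _ := rfl
  right_inv _ := rfl

variable {p q f₁ f₂}

include H in
lemma isIso_gBox_loc (hW₁ : IsAffineOpen W₁) (hW₂ : IsAffineOpen W₂) (hM : Coh.IsQCoh M) (hN : Coh.IsQCoh N)
    (l₁ : Loc W₁ M) (l₂ : Loc W₂ N) : IsIso (gBox p q f₁ f₂ H.w M N) := by
  haveI := hM
  haveI := hN
  have hW : p ⁻¹ᵁ W₁ ⊓ q ⁻¹ᵁ W₂ ≤ topU (p ≫ f₁) := le_top
  have hr := loc_res_bijective (loc_box H hW₁ hW₂ hM hN l₁ l₂) hW inf_le_left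
  have r₁ := loc_res_bijective l₁ (le_top : W₁ ≤ topU f₁) inf_le_left
  have r₂ := loc_res_bijective l₂ (le_top : W₂ ≤ topU f₂) inf_le_left
  have hm : Function.Bijective (TensorProduct.map (resA f₁ M (le_top : W₁ ≤ topU f₁))
      (resA f₂ N (le_top : W₂ ≤ topU f₂))) :=
    (TensorProduct.congr (LinearEquiv.ofBijective (resA f₁ M _) r₁)
      (LinearEquiv.ofBijective (resA f₂ N _) r₂)).bijective
  have hb : Function.Bijective (bxMap M N (topU_le p f₁) (topU_le' p q f₁ f₂) H.w) := by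
    refine (Function.Bijective.of_comp_iff' hr _).1 ?_
    refine (congrArg Function.Bijective (res_bxMap H.w M N (topU_le p f₁) (topU_le' p q f₁ f₂)
      inf_le_left inf_le_right (le_top : W₁ ≤ topU f₁) (le_top : W₂ ≤ topU f₂) hW)).mpr ?_
    exact (bxMap_bijective M N _ _ H hW₁ hW₂ rfl (isAffineOpen_prod H hW₁ hW₂)).comp hm
  have key : (gBox p q f₁ f₂ H.w M N).hom.toFun =
      bxMap M N (topU_le p f₁) (topU_le' p q f₁ f₂) H.w ∘
        TensorProduct.congr (gsEquiv f₁ M) (gsEquiv f₂ N) := by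
    funext z
    induction z using TensorProduct.induction_on with
    | zero => exact (map_zero (gBox p q f₁ f₂ H.w M N).hom).trans (by simp; rfl)
    | add a b ha hb =>
      refine (map_add (gBox p q f₁ f₂ H.w M N).hom a b).trans ((congrArg₂ (· + ·) ha hb).trans ?_)
      simp only [Function.comp, map_add]
    | tmul x y => rfl
  refine (ConcreteCategory.isIso_iff_bijective _).2 ?_
  change Function.Bijective (gBox p q f₁ f₂ H.w M N).hom.toFun
  rw [key]
  exact hb.comp (TensorProduct.congr (gsEquiv f₁ M) (gsEquiv f₂ N)).bijective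

include H in
/-- Global sections of external products of sums of direct images from affine opens. -/
theorem isIso_gBox (hM : Cls M) (hN : Cls N) : IsIso (gBox p q f₁ f₂ H.w M N) := by
  refine Cls.bijective_app (HTor.globalSectionsA f₁ ⋙ tensorRight ((HTor.globalSectionsA f₂).obj N))
    (boxL p q N ⋙ HTor.globalSectionsA (p ≫ f₁))
    { app := fun M => gBox p q f₁ f₂ H.w M N
      naturality := fun M M' g => gBox_natL p q f₁ f₂ H.w g N } hM fun M' W hW hq hl => ?_
  exact Cls.bijective_app (HTor.globalSectionsA f₂ ⋙ tensorLeft ((HTor.globalSectionsA f₁).obj M'))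
    (boxR p q M' ⋙ HTor.globalSectionsA (p ≫ f₁))
    { app := fun N => gBox p q f₁ f₂ H.w M' N
      naturality := fun N N' g => gBox_natR p q f₁ f₂ H.w M' g } hN
    fun N' W' hW' hq' hl' => isIso_gBox_loc H hW hW' hq hq' hl hl'

end Groth.Agent.HTor49
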