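import Mathlib.Algebra.Homology.Bifunctor
import Mathlib.Algebra.Homology.Additive
import Mathlib.Algebra.Homology.TotalComplexShift
import Mathlib.CategoryTheory.Abelian.Basic
import Mathlib.CategoryTheory.Preadditive.Biproducts
import Mathlib.Data.Int.Interval

/-!
An additive functor applied to totalisations with finitely many non-zero summands in each degree.
-/

set_option autoImplicit false
set_option backward.isDefEq.respectTransparency false
set_option linter.style.haveILetI false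

universe u

open CategoryTheory CategoryTheory.Limits

noncomputable section

namespace Groth.Agent.HTor49

open HomologicalComplex

section Data

/-- An object which is a finite sum of the members of a family. -/
structure SumData {C : Type*} [Category C] [Preadditive C] {J : Type*} (F : J → C) (X : C) where
  ι : ∀ j, F j ⟶ X
  π : ∀ j, X ⟶ F j
  self : ∀ j, ι j ≫ π j = 𝟙 _
  ne : ∀ i j, i ≠ j → ι i ≫ π j = 0
  S : Finset J
  supp : ∀ j, j ∉ S → IsZero (F j)
  total : ∑ j ∈ S, π j ≫ ι j = 𝟙 X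

variable {C : Type*} [Category C] [Preadditive C] {J : Type*} {F : J → C}

/-- A coproduct with finite support. -/
def SumData.ofCofan (c : Cofan F) (hc : IsColimit c) (S : Finset J) (hS : ∀ j, j ∉ S → IsZero (F j)) :
    SumData F c.pt :=
  haveI := Classical.decEq J
  { ι := c.inj
    π := fun j => Cofan.IsColimit.desc hc fun i => if h : i = j then eqToHom (congrArg F h) else 0
    self := fun j => by rw [Cofan.IsColimit.fac]; simp
    ne := fun i j h => by rw [Cofan.IsColimit.fac]; simp [h]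
    S := S
    supp := hS
    total := Cofan.IsColimit.hom_ext hc _ _ fun i => by
      rw [Preadditive.comp_sum, Category.comp_id]
      by_cases hi : i ∈ S
      · rw [Finset.sum_eq_single i]
        · rw [← Category.assoc, Cofan.IsColimit.fac]
          simp
        · intro j _ hj
          rw [← Category.assoc, Cofan.IsColimit.fac]
          simp [Ne.symm hj]
        · exact fun h => (h hi).elim
      · exact (hS i hi).eq_of_src _ _ }

/-- The image under an additive functor. -/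
@[simps]
def SumData.map {D : Type*} [Category D] [Preadditive D] (G : C ⥤ D) [G.Additive] {X : C}
    (d : SumData F X) : SumData (fun j => G.obj (F j)) (G.obj X) where
  ι j := G.map (d.ι j)
  π j := G.map (d.π j)
  self j := by rw [← G.map_comp, d.self, G.map_id]
  ne i j h := by rw [← G.map_comp, d.ne i j h, G.map_zero]
  S := d.S
  supp j hj := G.map_isZero (d.supp j hj)
  total := by
    simp only [← G.map_comp, ← Functor.map_sum, d.total, G.map_id]

/-- A finite sum is a coproduct. -/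
def SumData.isColimit {X : C} (d : SumData F X) : IsColimit (Cofan.mk X d.ι) :=
  Cofan.IsColimit.mk _ (fun s => ∑ j ∈ d.S, d.π j ≫ s.inj j)
    (fun s i => by
      simp only [cofan_mk_inj, Preadditive.comp_sum]
      by_cases hi : i ∈ d.S
      · rw [Finset.sum_eq_single i]
        · rw [← Category.assoc, d.self, Category.id_comp]
        · intro j _ hj
          rw [← Category.assoc, d.ne i j (Ne.symm hj), zero_comp]
        · exact fun h => (h hi).elim
      · exact (d.supp i hi).eq_of_src _ _)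
    (fun s m hm => by
      refine ((Category.id_comp m).symm.trans (congrArg (· ≫ m) d.total.symm)).trans ?_
      rw [Preadditive.sum_comp]
      exact Finset.sum_congr rfl fun j _ => (Category.assoc _ _ _).trans (congrArg (d.π j ≫ ·) (hm j)))

/-- Properties closed under finite biproducts hold for finite sums. -/
theorem SumData.induction {C : Type*} [Category C] [Abelian C] {J : Type*} {F : J → C} (P : C → Prop)
    (hzero : ∀ M, IsZero M → P M) (hbi : ∀ M N, P M → P N → P (M ⊞ N)) (hiso : ∀ M N, (M ≅ N) → P M → P N)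
    {X : C} (d : SumData F X) (hF : ∀ j, P (F j)) : P X := by
  classical
  suffices key : ∀ (T : Finset J) (Y : C) (ι : ∀ j, F j ⟶ Y) (π : ∀ j, Y ⟶ F j),
      (∀ j ∈ T, ι j ≫ π j = 𝟙 _) → (∀ i ∈ T, ∀ j ∈ T, i ≠ j → ι i ≫ π j = 0) →
      (∑ j ∈ T, π j ≫ ι j = 𝟙 Y) → P Y from
    key d.S X d.ι d.π (fun j _ => d.self j) (fun i _ j _ => d.ne i j) d.total
  intro T
  induction T using Finset.induction_on with
  | empty =>
    intro Y ι π _ _ h
    exact hzero _ ((IsZero.iff_id_eq_zero Y).2 (by simpa using h.symm))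
  | insert a T ha ih =>
    intro Y ι π hs hne h
    rw [Finset.sum_insert ha] at h
    have hsa := hs a (Finset.mem_insert_self a T)
    let K := kernel (π a)
    let r : Y ⟶ K := kernel.lift (π a) (𝟙 Y - π a ≫ ι a) (by simp [hsa])
    have hr : r ≫ kernel.ι (π a) = 𝟙 Y - π a ≫ ι a := kernel.lift_ι _ _ _
    have hja : ∀ j ∈ T, ι j ≫ r ≫ kernel.ι (π a) = ι j := fun j hj => by
      rw [hr, Preadditive.comp_sub, Category.comp_id, reassoc_of% hne j (Finset.mem_insert_of_mem hj) a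
        (Finset.mem_insert_self a T) (fun e => ha (e ▸ hj)), zero_comp, sub_zero]
    refine hiso (K ⊞ F a) Y ⟨biprod.desc (kernel.ι _) (ι a), biprod.lift r (π a), ?_, ?_⟩
      (hbi _ _ (ih K (fun j => ι j ≫ r) (fun j => kernel.ι _ ≫ π j) (fun j hj => ?_)
        (fun i hi j hj hij => ?_) ?_) (hF a))
    · apply biprod.hom_ext' <;> apply biprod.hom_ext <;>
        (try rw [← cancel_mono (kernel.ι (π a))]) <;> simp [hr, hsa, reassoc_of% hsa]
    · rw [biprod.lift_desc, hr, sub_add_cancel]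
    · rw [Category.assoc, ← Category.assoc r, ← Category.assoc (ι j), hja j hj,
        hs j (Finset.mem_insert_of_mem hj)]
    · rw [Category.assoc, ← Category.assoc r, ← Category.assoc (ι i), hja i hi,
        hne i (Finset.mem_insert_of_mem hi) j (Finset.mem_insert_of_mem hj) hij]
    · rw [← cancel_mono (kernel.ι (π a)), Preadditive.sum_comp, Category.id_comp]
      rw [show (∑ j ∈ T, ((kernel.ι (π a) ≫ π j) ≫ ι j ≫ r) ≫ kernel.ι (π a)) =
          ∑ j ∈ T, kernel.ι (π a) ≫ π j ≫ ι j from Finset.sum_congr rfl fun j hj => by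
        simp only [Category.assoc, hja j hj]]
      rw [← Preadditive.comp_sum, eq_sub_of_add_eq' h, Preadditive.comp_sub, Category.comp_id,
        kernel.condition_assoc, zero_comp, sub_zero]

end Data

end Groth.Agent.HTor49

namespace Groth.Agent.HTor49

open HomologicalComplex

variable {A₁ A₂ B₁ B₂ B A₁' A₂' B' : Type*} [Category* A₁] [Category* A₂] [Category* B₁] [Category* B₂] [Category* B]
  [Category* A₁'] [Category* A₂'] [Category* B']
  [Preadditive A₁] [Preadditive A₂] [Preadditive B₁] [Preadditive B₂] [Preadditive B]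
  [Preadditive A₁'] [Preadditive A₂'] [Preadditive B']
  (F : B₁ ⥤ B₂ ⥤ B) [F.PreservesZeroMorphisms] [∀ X, (F.obj X).PreservesZeroMorphisms]
  (F' : A₁' ⥤ A₂' ⥤ B') [F'.PreservesZeroMorphisms] [∀ X, (F'.obj X).PreservesZeroMorphisms]
  (P₁ : A₁ ⥤ B₁) (P₂ : A₂ ⥤ B₂) [P₁.Additive] [P₂.Additive]
  (H₁ : A₁ ⥤ A₁') (H₂ : A₂ ⥤ A₂') (G : B ⥤ B') [H₁.Additive] [H₂.Additive] [G.Additive]
  (α : ∀ X Y, (F'.obj (H₁.obj X)).obj (H₂.obj Y) ⟶ G.obj ((F.obj (P₁.obj X)).obj (P₂.obj Y)))
  (hα₁ : ∀ {X X' : A₁} (f : X ⟶ X') (Y : A₂),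
    (F'.map (H₁.map f)).app (H₂.obj Y) ≫ α X' Y = α X Y ≫ G.map ((F.map (P₁.map f)).app (P₂.obj Y)))
  (hα₂ : ∀ (X : A₁) {Y Y' : A₂} (g : Y ⟶ Y'),
    (F'.obj (H₁.obj X)).map (H₂.map g) ≫ α X Y' = α X Y ≫ G.map ((F.obj (P₁.obj X)).map (P₂.map g)))
  (K₁ : CochainComplex A₁ ℤ) (K₂ : CochainComplex A₂ ℤ)

/-- The source totalisation. -/
abbrev srcTot [HasMapBifunctor ((H₁.mapHomologicalComplex (ComplexShape.up ℤ)).obj K₁)
    ((H₂.mapHomologicalComplex (ComplexShape.up ℤ)).obj K₂) F' (ComplexShape.up ℤ)] : CochainComplex B' ℤ :=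
  mapBifunctor ((H₁.mapHomologicalComplex (ComplexShape.up ℤ)).obj K₁)
    ((H₂.mapHomologicalComplex (ComplexShape.up ℤ)).obj K₂) F' (ComplexShape.up ℤ)

/-- The target totalisation. -/
abbrev tgtTot [HasMapBifunctor ((P₁.mapHomologicalComplex (ComplexShape.up ℤ)).obj K₁)
    ((P₂.mapHomologicalComplex (ComplexShape.up ℤ)).obj K₂) F (ComplexShape.up ℤ)] : CochainComplex B ℤ :=
  mapBifunctor ((P₁.mapHomologicalComplex (ComplexShape.up ℤ)).obj K₁)
    ((P₂.mapHomologicalComplex (ComplexShape.up ℤ)).obj K₂) F (ComplexShape.up ℤ)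

variable [∀ (K₁ : CochainComplex A₁ ℤ) (K₂ : CochainComplex A₂ ℤ),
    HasMapBifunctor ((P₁.mapHomologicalComplex (ComplexShape.up ℤ)).obj K₁)
      ((P₂.mapHomologicalComplex (ComplexShape.up ℤ)).obj K₂) F (ComplexShape.up ℤ)]
  [∀ (K₁ : CochainComplex A₁ ℤ) (K₂ : CochainComplex A₂ ℤ),
    HasMapBifunctor ((H₁.mapHomologicalComplex (ComplexShape.up ℤ)).obj K₁)
      ((H₂.mapHomologicalComplex (ComplexShape.up ℤ)).obj K₂) F' (ComplexShape.up ℤ)]

/-- The comparison in one degree. -/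
def totCmpApp (n : ℤ) : (srcTot F' H₁ H₂ K₁ K₂).X n ⟶ G.obj ((tgtTot F P₁ P₂ K₁ K₂).X n) :=
  mapBifunctorDesc fun i j h => α (K₁.X i) (K₂.X j) ≫
    G.map (ιMapBifunctor ((P₁.mapHomologicalComplex (ComplexShape.up ℤ)).obj K₁)
      ((P₂.mapHomologicalComplex (ComplexShape.up ℤ)).obj K₂) F (ComplexShape.up ℤ) i j n h)

lemma ι_totCmpApp (i j n : ℤ)
    (h : ComplexShape.π (ComplexShape.up ℤ) (ComplexShape.up ℤ) (ComplexShape.up ℤ) (i, j) = n) :
    ιMapBifunctor ((H₁.mapHomologicalComplex (ComplexShape.up ℤ)).obj K₁)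
        ((H₂.mapHomologicalComplex (ComplexShape.up ℤ)).obj K₂) F' (ComplexShape.up ℤ) i j n h ≫
      totCmpApp F F' P₁ P₂ H₁ H₂ G α K₁ K₂ n = α (K₁.X i) (K₂.X j) ≫
        G.map (ιMapBifunctor ((P₁.mapHomologicalComplex (ComplexShape.up ℤ)).obj K₁)
          ((P₂.mapHomologicalComplex (ComplexShape.up ℤ)).obj K₂) F (ComplexShape.up ℤ) i j n h) :=
  ι_mapBifunctorDesc _ i j h

include hα₁ hα₂ in
/-- The comparison of totalisations. -/
def totCmp : srcTot F' H₁ H₂ K₁ K₂ ⟶
    (G.mapHomologicalComplex (ComplexShape.up ℤ)).obj (tgtTot F P₁ P₂ K₁ K₂) where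
  f n := totCmpApp F F' P₁ P₂ H₁ H₂ G α K₁ K₂ n
  comm' n m hnm := by
    obtain rfl : n + 1 = m := hnm
    apply mapBifunctor.hom_ext
    intro i j h
    have hij : i + j = n := h
    have hi : (ComplexShape.up ℤ).Rel i (i + 1) := rfl
    have hj : (ComplexShape.up ℤ).Rel j (j + 1) := rfl
    have h₁ : ComplexShape.π (ComplexShape.up ℤ) (ComplexShape.up ℤ) (ComplexShape.up ℤ) (i + 1, j) = n + 1 := by
      change (i + 1) + j = n + 1; omega
    have h₂ : ComplexShape.π (ComplexShape.up ℤ) (ComplexShape.up ℤ) (ComplexShape.up ℤ) (i, j + 1) = n + 1 := by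
      change i + (j + 1) = n + 1; omega
    rw [← Category.assoc, ι_totCmpApp, Functor.mapHomologicalComplex_obj_d, Category.assoc, ← G.map_comp,
      mapBifunctor.d_eq, mapBifunctor.d_eq, Preadditive.comp_add, ← Category.assoc, Preadditive.comp_add,
      mapBifunctor.ι_D₁, mapBifunctor.ι_D₂, mapBifunctor.ι_D₁, mapBifunctor.ι_D₂, Preadditive.add_comp,
      mapBifunctor.d₁_eq _ _ _ _ hi _ _ h₁, mapBifunctor.d₁_eq _ _ _ _ hi _ _ h₁,
      mapBifunctor.d₂_eq _ _ _ _ _ hj _ h₂, mapBifunctor.d₂_eq _ _ _ _ _ hj _ h₂, G.map_add,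
      Preadditive.comp_add]
    congr 1
    · rw [Linear.units_smul_comp, Category.assoc, ι_totCmpApp, Units.smul_def, Units.smul_def,
        G.map_zsmul, Linear.comp_smul, G.map_comp]
      congr 1
      exact ((Category.assoc _ _ _).symm.trans ((hα₁ (K₁.d i (i + 1)) (K₂.X j) =≫ _).trans
        (Category.assoc _ _ _))).symm
    · rw [Linear.units_smul_comp, Category.assoc, ι_totCmpApp, Units.smul_def, Units.smul_def,
        G.map_zsmul, Linear.comp_smul, G.map_comp]
      congr 1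
      exact ((Category.assoc _ _ _).symm.trans ((hα₂ (K₁.X i) (K₂.d j (j + 1)) =≫ _).trans
        (Category.assoc _ _ _))).symm

/-- The finitely many non-zero summands in one degree. -/
def tgtTotData (n : ℤ) {b₁ b₂ : ℤ} (h₁ : ∀ i, b₁ < i → IsZero (K₁.X i)) (h₂ : ∀ j, b₂ < j → IsZero (K₂.X j))
    [∀ X, (F.obj X).Additive] [F.Additive] :
    SumData (fun q : ((ComplexShape.π (ComplexShape.up ℤ) (ComplexShape.up ℤ) (ComplexShape.up ℤ)) ⁻¹' {n} : Set (ℤ × ℤ)) =>
        (F.obj (P₁.obj (K₁.X q.1.1))).obj (P₂.obj (K₂.X q.1.2))) ((tgtTot F P₁ P₂ K₁ K₂).X n) :=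
  let S : Finset ((ComplexShape.π (ComplexShape.up ℤ) (ComplexShape.up ℤ) (ComplexShape.up ℤ)) ⁻¹' {n} : Set (ℤ × ℤ)) :=
    (Finset.Icc (n - b₂) b₁).image fun i => ⟨(i, n - i), by
      change i + (n - i) = n
      omega⟩
  SumData.ofCofan
    (((((F.mapBifunctorHomologicalComplex (ComplexShape.up ℤ) (ComplexShape.up ℤ)).obj
      ((P₁.mapHomologicalComplex (ComplexShape.up ℤ)).obj K₁)).obj
      ((P₂.mapHomologicalComplex (ComplexShape.up ℤ)).obj K₂)).toGradedObject).cofanMapObj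
        (ComplexShape.π (ComplexShape.up ℤ) (ComplexShape.up ℤ) (ComplexShape.up ℤ)) n)
    (GradedObject.isColimitCofanMapObj _ _ n) S fun q hq => by
      obtain ⟨⟨i, j⟩, hij⟩ := q
      have hij' : i + j = n := hij
      by_cases hi : b₁ < i
      · exact Functor.map_isZero ((F.flip).obj (P₂.obj (K₂.X j))) (P₁.map_isZero (h₁ i hi))
      · refine Functor.map_isZero (F.obj (P₁.obj (K₁.X i))) (P₂.map_isZero (h₂ j ?_))
        by_contra hj
        refine hq (Finset.mem_image.2 ⟨i, Finset.mem_Icc.2 ⟨by omega, by omega⟩, ?_⟩)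
        ext <;> dsimp only <;> omega

include hα₁ hα₂ in
/-- The comparison is an isomorphism when it is one on the summands and the complexes are bounded above. -/
theorem isIso_totCmp [∀ X, (F.obj X).Additive] [F.Additive] {b₁ b₂ : ℤ} (h₁ : ∀ i, b₁ < i → IsZero (K₁.X i))
    (h₂ : ∀ j, b₂ < j → IsZero (K₂.X j)) (hiso : ∀ i j, IsIso (α (K₁.X i) (K₂.X j))) :
    IsIso (totCmp F F' P₁ P₂ H₁ H₂ G α hα₁ hα₂ K₁ K₂) := by
  haveI : ∀ n, IsIso ((totCmp F F' P₁ P₂ H₁ H₂ G α hα₁ hα₂ K₁ K₂).f n) := fun n => by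
    change IsIso (totCmpApp F F' P₁ P₂ H₁ H₂ G α K₁ K₂ n)
    let d := (tgtTotData F P₁ P₂ K₁ K₂ n h₁ h₂).map G
    haveI := fun i j => hiso i j
    refine ⟨Cofan.IsColimit.desc d.isColimit fun q => inv (α (K₁.X q.1.1) (K₂.X q.1.2)) ≫
      ιMapBifunctor ((H₁.mapHomologicalComplex (ComplexShape.up ℤ)).obj K₁)
        ((H₂.mapHomologicalComplex (ComplexShape.up ℤ)).obj K₂) F' (ComplexShape.up ℤ) q.1.1 q.1.2 n q.2, ?_, ?_⟩
    · apply mapBifunctor.hom_ext
      intro i j h
      rw [← Category.assoc, ι_totCmpApp, Category.assoc]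
      refine (congrArg (α (K₁.X i) (K₂.X j) ≫ ·) (Cofan.IsColimit.fac d.isColimit _ ⟨(i, j), h⟩)).trans ?_
      rw [IsIso.hom_inv_id_assoc]
      exact (Category.comp_id _).symm
    · refine Cofan.IsColimit.hom_ext d.isColimit _ _ fun q => ?_
      rw [← Category.assoc, Cofan.IsColimit.fac, Category.assoc, ι_totCmpApp, IsIso.inv_hom_id_assoc]
      exact (Category.comp_id _).symm
  exact HomologicalComplex.Hom.isIso_of_components _

lemma comp_comp_glue {C : Type*} [Category C] {a₀ a₁ a₂ a₃ a₄ b₁ b₂ : C} (a : a₀ ⟶ a₁) (b : a₁ ⟶ a₂) (x : a₂ ⟶ a₃)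
    (c : a₃ ⟶ a₄) (y : a₀ ⟶ b₁) (d : b₁ ⟶ b₂) (e : b₂ ⟶ a₃) (h : a ≫ b ≫ x = y ≫ d ≫ e) :
    a ≫ b ≫ x ≫ c = y ≫ d ≫ e ≫ c := by
  rw [reassoc_of% h]

include hα₁ hα₂ in
/-- Naturality in the complexes. -/
theorem totCmp_naturality {K₁' : CochainComplex A₁ ℤ} {K₂' : CochainComplex A₂ ℤ} (φ₁ : K₁ ⟶ K₁') (φ₂ : K₂ ⟶ K₂') :
    mapBifunctorMap ((H₁.mapHomologicalComplex (ComplexShape.up ℤ)).map φ₁)
        ((H₂.mapHomologicalComplex (ComplexShape.up ℤ)).map φ₂) F' (ComplexShape.up ℤ) ≫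
      totCmp F F' P₁ P₂ H₁ H₂ G α hα₁ hα₂ K₁' K₂' =
    totCmp F F' P₁ P₂ H₁ H₂ G α hα₁ hα₂ K₁ K₂ ≫ (G.mapHomologicalComplex (ComplexShape.up ℤ)).map
      (mapBifunctorMap ((P₁.mapHomologicalComplex (ComplexShape.up ℤ)).map φ₁)
        ((P₂.mapHomologicalComplex (ComplexShape.up ℤ)).map φ₂) F (ComplexShape.up ℤ)) := by
  ext n : 1
  apply mapBifunctor.hom_ext
  intro i j h
  simp only [HomologicalComplex.comp_f, Functor.mapHomologicalComplex_map_f, totCmp]
  rw [← Category.assoc, ι_mapBifunctorMap, Category.assoc, Category.assoc, ι_totCmpApp, ← Category.assoc,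
    ← Category.assoc, reassoc_of% ι_totCmpApp F F' P₁ P₂ H₁ H₂ G α K₁ K₂ i j n h, ← G.map_comp,
    ι_mapBifunctorMap]
  simp only [Functor.mapHomologicalComplex_map_f, Category.assoc, G.map_comp]
  refine comp_comp_glue _ _ _ _ _ _ _ ?_
  exact (congrArg ((F'.map (H₁.map (φ₁.f i))).app (H₂.obj (K₂.X j)) ≫ ·) (hα₂ (K₁'.X i) (φ₂.f j))).trans
    (((Category.assoc _ _ _).symm.trans (hα₁ (φ₁.f i) (K₂.X j) =≫ _)).trans (Category.assoc _ _ _))

end Groth.Agent.HTor49
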