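import Groth.Agent.HTor49.BoxLoc
import Groth.Agent.HTor49.MapTot2
import Groth.Agent.DR39.TensorSymm
import Groth.Agent.DR39.TensorDual
import Groth.Agent.DR39.Rep
import Groth.Agent.FlatMor68.FlatSections
import Groth.Prelude.Def_FlatMod2

/-!
Totalisations of external tensor products over an affine base.
-/

set_option autoImplicit false
set_option backward.isDefEq.respectTransparency false
set_option backward.isDefEq.respectTransparency.types false
set_option synthInstance.maxHeartbeats 400000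
set_option maxSynthPendingDepth 6
set_option linter.style.haveILetI false

noncomputable section

universe u

open CategoryTheory CategoryTheory.Limits Opposite AlgebraicGeometry TopologicalSpace
open MonoidalCategory HomologicalComplex
open Groth.Agent.Mod48

attribute [local instance] HasDerivedCategory.standard

namespace Groth.Agent.HTor49

variable {A : Type u} [CommRing A]

section One

variable {X : Scheme.{u}} (f : X ⟶ Spec (CommRingCat.of A))

/-- A map of modules on sections, linearly over the base. -/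
def secMap (V : X.Opens) {M N : X.Modules} (φ : M ⟶ N) : secA f M V →ₗ[A] secA f N V where
  toFun x := φ.app V x
  map_add' _ _ := map_add _ _ _
  map_smul' a x := Scheme.Modules.Hom.app_smul φ (sA f V a) (x : Γ(M, V))

/-- Sections over an open, as a functor to modules over the base. -/
def secFun (V : X.Opens) : X.Modules ⥤ ModuleCat.{u} A where
  obj M := secA f M V
  map {M N} φ := ModuleCat.ofHom (X := secA f M V) (Y := secA f N V) (secMap f V φ)
  map_id _ := rfl
  map_comp _ _ := rfl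

lemma secMap_comp (V : X.Opens) {M N L : X.Modules} (φ : M ⟶ N) (ψ : N ⟶ L) (x : secA f M V) :
    secMap f V (φ ≫ ψ) x = secMap f V ψ (secMap f V φ x) := rfl

/-- Isomorphic modules have linearly isomorphic sections. -/
def secEquiv (V : X.Opens) {M N : X.Modules} (e : M ≅ N) : secA f M V ≃ₗ[A] secA f N V :=
  { secMap f V e.hom with
    invFun := secMap f V e.inv
    left_inv := fun x => congr(Scheme.Modules.Hom.app $(e.hom_inv_id) V x)
    right_inv := fun x => congr(Scheme.Modules.Hom.app $(e.inv_hom_id) V x) }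

instance (V : X.Opens) : (secFun f V).Additive where
  map_add := by intros; rfl

lemma secAcyclic_of_acyclic (V : X.Opens) (C : CochainComplex X.Modules ℤ)
    (h : (((secFun f V).mapHomologicalComplex (ComplexShape.up ℤ)).obj C).Acyclic) : SecAcyclic (FV V) C := by
  intro m c hc
  have hs : (C.d m (m + 1)).app V (fvEquiv V _ c) = 0 := by
    rw [← fvEquiv_comp, hc]
    exact freeOnEquiv_zero (O := X.sheaf) V (C.X (m + 1))
  have := h m
  rw [HomologicalComplex.exactAt_iff' _ (m - 1) m (m + 1) (by simp) (by simp),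
    ShortComplex.moduleCat_exact_iff] at this
  obtain ⟨y, hy⟩ := this (fvEquiv V (C.X m) c) hs
  refine ⟨(fvEquiv V (C.X (m - 1))).symm y, (fvEquiv V _).injective ?_⟩
  rw [fvEquiv_comp, Equiv.apply_symm_apply]
  exact hy

lemma acyclic_secFun (V : X.Opens) (C : CochainComplex X.Modules ℤ) (h : SecAcyclic (FV V) C) :
    (((secFun f V).mapHomologicalComplex (ComplexShape.up ℤ)).obj C).Acyclic := fun m => by
  rw [HomologicalComplex.exactAt_iff' _ (m - 1) m (m + 1) (by simp) (by simp),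
    ShortComplex.moduleCat_exact_iff]
  intro x hx
  let s : Γ(C.X m, V) := x
  have hs : (C.d m (m + 1)).app V s = 0 := hx
  obtain ⟨b, hb⟩ := h m ((fvEquiv V _).symm s) ((fvEquiv V _).injective (by
    rw [fvEquiv_comp, Equiv.apply_symm_apply, hs]
    exact (freeOnEquiv_zero (O := X.sheaf) V (C.X (m + 1))).symm))
  refine ⟨fvEquiv V _ b, ?_⟩
  change (C.d (m - 1) m).app V (fvEquiv V (C.X (m - 1)) b) = s
  rw [← fvEquiv_comp, hb, Equiv.apply_symm_apply]

lemma isQCoh_cone {K L : CochainComplex X.Modules ℤ} (φ : K ⟶ L) (hK : ∀ i, Coh.IsQCoh (K.X i))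
    (hL : ∀ i, Coh.IsQCoh (L.X i)) (i : ℤ) : Coh.IsQCoh ((CochainComplex.mappingCone φ).X i) :=
  QC70.isQuasicoherent_of_iso (homotopyCofiber.XIsoBiprod φ i (i + 1) rfl).symm
    (isQCoh_biprod (hK (i + 1)) (hL i))

/-- A quasi-isomorphism of complexes of quasi-coherent modules is one on sections over affine opens. -/
lemma quasiIso_secFun_map {K L : CochainComplex X.Modules ℤ} (η : K ⟶ L) [QuasiIso η]
    (hK : ∀ i, Coh.IsQCoh (K.X i)) (hL : ∀ i, Coh.IsQCoh (L.X i)) {V : X.Opens} (hV : IsAffineOpen V) :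
    QuasiIso (((secFun f V).mapHomologicalComplex (ComplexShape.up ℤ)).map η) := by
  have hs : SecAcyclic (FV V) (CochainComplex.mappingCone η) := fun m a ha => by
    refine clsBd_qcoh _ (isQCoh_cone η hK hL) hV m a ha ?_
    exact ((HomologicalComplex.exactAt_iff_isZero_homology _ m).1 (acyclic_cone_of_quasiIso η m)).eq_of_tgt _ _
  exact quasiIso_of_acyclic_cone _ fun i =>
    (HomologicalComplex.exactAt_iff_isZero_homology _ i).2
      (((HomologicalComplex.exactAt_iff_isZero_homology _ i).1 (acyclic_secFun f V _ hs i)).of_iso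
        ((HomologicalComplex.homologyFunctor _ _ i).mapIso
          (CochainComplex.mappingCone.mapHomologicalComplexIso η (secFun f V)).symm))

/-- Acyclicity of a complex of quasi-coherent modules from sections over an affine cover. -/
lemma acyclic_of_affine_cover (C : CochainComplex X.Modules ℤ) (hC : ∀ i, Coh.IsQCoh (C.X i))
    (h : ∀ x : X, ∃ V : X.Opens, x ∈ V ∧ IsAffineOpen V ∧ SecAcyclic (FV V) C) : C.Acyclic := fun m => by
  refine (HomologicalComplex.exactAt_iff_isZero_homology C m).2 ?_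
  haveI := isQCoh_homology C hC m
  have : IsIso (0 : C.homology m ⟶ C.homology m) := isIso_of_affine_cover _ fun x => by
    obtain ⟨V, hx, hV, hs⟩ := h x
    have hsub : Subsingleton Γ(C.homology m, V) := subsingleton_of_forall_eq 0 fun s => by
      obtain ⟨a, ha, hc⟩ := clsLift_qcoh C hC hV m ((fvEquiv V _).symm s)
      obtain ⟨b, hb⟩ := hs m a ha
      rw [ccls_eq_zero_of_eq_d C a ha b hb, eq_comm, Equiv.symm_apply_eq] at hc
      exact hc.trans (freeOnEquiv_zero (O := X.sheaf) V (C.homology m))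
    exact ⟨V, hx, hV, fun a b _ => Subsingleton.elim a b, fun b => ⟨0, Subsingleton.elim _ b⟩⟩
  exact IsZero.of_epi_zero (C.homology m) (C.homology m)

/-- Flatness over the base of sections on affine opens. -/
def FlatA (M : X.Modules) : Prop := ∀ V : X.Opens, IsAffineOpen V → Module.Flat A (secA f M V)

lemma flatA_of_isFlatOver (M : X.Modules) (hM : Coh.IsQCoh M) (h : FlatMod.IsFlatOver f M) : FlatA f M := by
  intro V hV
  haveI := hM
  let B := Γ(Spec (CommRingCat.of A), ⊤)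
  let ψ : A →+* B := (Scheme.ΓSpecIso (CommRingCat.of A)).inv.hom
  letI : Algebra A B := ψ.toAlgebra
  haveI : Module.Flat A B := RingHom.Flat.of_bijective (f := ψ)
    (ConcreteCategory.bijective_of_isIso (Scheme.ΓSpecIso (CommRingCat.of A)).inv)
  letI : Module B (secA f M V) := Module.compHom Γ(M, V) (f.appLE ⊤ V le_top).hom
  haveI : Module.Flat B (secA f M V) := FlatMor68.FlatSections.flat_sections f (le_top : V ≤ f ⁻¹ᵁ ⊤) hV
    (isAffineOpen_top _) (QC70.isLocAt_of_isQuasicoherent (M := M) hV) (fun x _ => h x)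
  haveI : IsScalarTower A B (secA f M V) := IsScalarTower.of_algebraMap_smul fun _ _ => rfl
  exact Module.Flat.trans A B _

lemma resA_bijective_secA_iso {M : X.Modules} {V V' : X.Opens} (h : V' ≤ V)
    (hb : Function.Bijective (Cx47.res M h)) : Nonempty (secA f M V ≃ₗ[A] secA f M V') :=
  ⟨LinearEquiv.ofBijective (resA f M h) hb⟩

omit [CommRing A] in
lemma flat_of_prod {R L M N : Type u} [CommRing R] [AddCommGroup L] [Module R L] [AddCommGroup M] [Module R M]
    [AddCommGroup N] [Module R N] (e : L ≃ₗ[R] M × N) (hM : Module.Flat R M) (hN : Module.Flat R N) :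
    Module.Flat R L :=
  haveI : Module.Flat R (M × N) := haveI := hM; haveI := hN; DR39.flat_prod M N
  Module.Flat.of_linearEquiv e

/-- Sections of a biproduct. -/
def secBiprod (V : X.Opens) (M N : X.Modules) : secA f (M ⊞ N) V ≃ₗ[A] secA f M V × secA f N V where
  toLinearMap := (secMap f V biprod.fst).prod (secMap f V biprod.snd)
  invFun x := secMap f V biprod.inl x.1 + secMap f V biprod.inr x.2
  left_inv x := by
    change secMap f V biprod.inl (secMap f V biprod.fst x) + secMap f V biprod.inr (secMap f V biprod.snd x) = x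
    rw [← secMap_comp, ← secMap_comp]
    exact congr(Scheme.Modules.Hom.app $(biprod.total (X := M) (Y := N)) V x)
  right_inv x := by
    refine Prod.ext ?_ ?_
    · change secMap f V biprod.fst (secMap f V biprod.inl x.1 + secMap f V biprod.inr x.2) = x.1
      rw [map_add, ← secMap_comp, ← secMap_comp, biprod.inl_fst, biprod.inr_fst]
      exact add_zero _
    · change secMap f V biprod.snd (secMap f V biprod.inl x.1 + secMap f V biprod.inr x.2) = x.2
      rw [map_add, ← secMap_comp, ← secMap_comp, biprod.inl_snd, biprod.inr_snd]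
      exact zero_add _

lemma flat_biprod (V : X.Opens) {M N : X.Modules} (hM : Module.Flat A (secA f M V))
    (hN : Module.Flat A (secA f N V)) : Module.Flat A (secA f (M ⊞ N) V) :=
  flat_of_prod (secBiprod f V M N) hM hN

lemma flat_of_iso (V : X.Opens) {M N : X.Modules} (e : M ≅ N) (h : Module.Flat A (secA f M V)) :
    Module.Flat A (secA f N V) :=
  Module.Flat.of_linearEquiv (secEquiv f V e).symm

lemma flat_of_isZero (V : X.Opens) {M : X.Modules} (h : IsZero M) : Module.Flat A (secA f M V) :=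
  haveI := ModuleCat.subsingleton_of_isZero ((secFun f V).map_isZero h)
  haveI : Subsingleton (secA f M V) := this
  inferInstance

variable [X.IsSeparated]

lemma stab_flatA : Stab (FlatA f) where
  zero M h V _ := flat_of_isZero f V h
  biprod M N h1 h2 V hV := flat_biprod f V (h1 V hV) (h2 V hV)
  iso M N e h V hV := flat_of_iso f V e (h V hV)
  push U M hU h V hV := by
    let J := (CechOX.pushRestr U).obj M
    obtain ⟨e₁⟩ := resA_bijective_secA_iso f (inf_le_right : U ⊓ V ≤ V) (loc_pushRestr_self U M V)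
    let e₂ : secA f M (U ⊓ V) ≃ₗ[A] secA f J (U ⊓ V) :=
      LinearEquiv.ofBijective (secMap f (U ⊓ V) ((jUnit U).app M))
        (jUnit_app_bijective_of_le U M inf_le_left)
    haveI := h (U ⊓ V) (hU.inf hV)
    exact Module.Flat.of_linearEquiv (e₁.trans e₂.symm)

omit [X.IsSeparated] in
/-- Global sections of a flat sum of direct images from affine opens are flat. -/
lemma Cls.flat_global {M : X.Modules} (h : Cls M) (hf : FlatA f M) :
    Module.Flat A ((HTor.globalSectionsA f).obj M) := by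
  suffices Module.Flat A (secA f M (topU f)) from Module.Flat.of_linearEquiv (gsEquiv f M)
  induction h with
  | zero h => exact flat_of_isZero f _ h
  | @loc M W hW hq hl =>
    obtain ⟨e⟩ := resA_bijective_secA_iso f (le_top : W ≤ topU f) (loc_res_bijective hl _ inf_le_left)
    haveI := hf W hW
    exact Module.Flat.of_linearEquiv e
  | @biprod M N _ _ h1 h2 =>
    refine flat_biprod f _ (h1 fun V hV => ?_) (h2 fun V hV => ?_)
    · haveI := hf V hV
      exact Module.Flat.of_retract (secMap f V (biprod.inl : M ⟶ M ⊞ N))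
        (secMap f V (biprod.fst : M ⊞ N ⟶ M))
        (LinearMap.ext fun x => (secMap_comp f V _ _ x).symm.trans (by rw [biprod.inl_fst]; rfl))
    · haveI := hf V hV
      exact Module.Flat.of_retract (secMap f V (biprod.inr : N ⟶ M ⊞ N))
        (secMap f V (biprod.snd : M ⊞ N ⟶ N))
        (LinearMap.ext fun x => (secMap_comp f V _ _ x).symm.trans (by rw [biprod.inr_snd]; rfl))
  | iso e _ h1 => exact flat_of_iso f _ e (h1 fun V hV => flat_of_iso f V e.symm (hf V hV))

end One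

/-! ### Quasi-isomorphisms of tensor products of complexes of modules -/

lemma quasiIso_tensor {P P' Q Q' : DRing.Cx A} (hP : DRing.IsKFlat A P) (hP' : DRing.IsKFlat A P')
    (u : P ⟶ P') [QuasiIso u] (v : Q ⟶ Q') [QuasiIso v] : QuasiIso (u ⊗ₘ v) := by
  haveI := DR39.quasiIso_whiskerRight_of_kflat hP hP' u Q
  haveI := DR39.quasiIso_whiskerRight hP' v
  haveI : QuasiIso (P' ◁ v) := by
    have h : QuasiIso (DR39.symm' Q P' ≫ (P' ◁ v)) := by rw [← DR39.symm'_naturality]; infer_instance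
    exact quasiIso_of_comp_left (DR39.symm' Q P') _
  rw [MonoidalCategory.tensorHom_def]
  infer_instance

section Two

variable {Z X₁ X₂ : Scheme.{u}} {p : Z ⟶ X₁} {q : Z ⟶ X₂}
  {f₁ : X₁ ⟶ Spec (CommRingCat.of A)} {f₂ : X₂ ⟶ Spec (CommRingCat.of A)}

/-- The external product on sections. -/
def bxHom (w : p ≫ f₁ = q ≫ f₂) {V₁ : X₁.Opens} {V₂ : X₂.Opens} {V : Z.Opens}
    (e₁ : V ≤ p ⁻¹ᵁ V₁) (e₂ : V ≤ q ⁻¹ᵁ V₂) (M : X₁.Modules) (N : X₂.Modules) :
    (secFun f₁ V₁).obj M ⊗ (secFun f₂ V₂).obj N ⟶ (secFun (p ≫ f₁) V).obj (box p q M N) :=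
  ModuleCat.MonoidalCategory.tensorLift (fun x y => bx M N e₁ e₂ x y)
    (fun x x' y => (congrArg (bxMap M N e₁ e₂ w) (TensorProduct.add_tmul _ _ _)).trans (map_add _ _ _))
    (fun a x y => bx_smul_left p q f₁ a e₁ e₂ x y)
    (fun x y y' => (congrArg (bxMap M N e₁ e₂ w) (TensorProduct.tmul_add _ _ _)).trans (map_add _ _ _))
    (fun a x y => (bx_smul M N e₁ e₂ w a x y).symm.trans (bx_smul_left p q f₁ a e₁ e₂ x y))

lemma isIso_bxHom (H : IsPullback p q f₁ f₂) {V₁ : X₁.Opens} {V₂ : X₂.Opens} (a₁ : IsAffineOpen V₁)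
    (a₂ : IsAffineOpen V₂) (M : X₁.Modules) (N : X₂.Modules) [M.IsQuasicoherent] [N.IsQuasicoherent] :
    IsIso (bxHom H.w (V := p ⁻¹ᵁ V₁ ⊓ q ⁻¹ᵁ V₂) inf_le_left inf_le_right M N) := by
  refine (ConcreteCategory.isIso_iff_bijective _).2 ?_
  have key : (bxHom H.w (V := p ⁻¹ᵁ V₁ ⊓ q ⁻¹ᵁ V₂) inf_le_left inf_le_right M N).hom.toFun =
      bxMap M N inf_le_left inf_le_right H.w := by
    funext z
    induction z using TensorProduct.induction_on with
    | zero => exact (map_zero (bxHom H.w _ _ M N).hom).trans (map_zero (bxMap M N _ _ H.w)).symm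
    | add a b ha hb =>
      exact (map_add (bxHom H.w _ _ M N).hom a b).trans
        ((congrArg₂ (· + ·) ha hb).trans (map_add (bxMap M N _ _ H.w) a b).symm)
    | tmul x y => rfl
  change Function.Bijective (bxHom H.w _ _ M N).hom.toFun
  rw [key]
  exact bxMap_bijective M N _ _ H a₁ a₂ rfl (isAffineOpen_prod H a₁ a₂)

variable (p q) in
/-- The external tensor product of complexes. -/
abbrev boxCx (T₁ : CochainComplex X₁.Modules ℤ) (T₂ : CochainComplex X₂.Modules ℤ) :
    CochainComplex Z.Modules ℤ :=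
  tgtTot (DCoh.tensorBi (X := Z)) (Scheme.Modules.pullback p) (Scheme.Modules.pullback q) T₁ T₂

variable (p q) in
/-- The external tensor product of maps of complexes. -/
abbrev boxCxMap {T₁ T₁' : CochainComplex X₁.Modules ℤ} {T₂ T₂' : CochainComplex X₂.Modules ℤ}
    (η₁ : T₁ ⟶ T₁') (η₂ : T₂ ⟶ T₂') : boxCx p q T₁ T₂ ⟶ boxCx p q T₁' T₂' :=
  mapBifunctorMap (((Scheme.Modules.pullback p).mapHomologicalComplex (ComplexShape.up ℤ)).map η₁)
    (((Scheme.Modules.pullback q).mapHomologicalComplex (ComplexShape.up ℤ)).map η₂) _ _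

lemma isQCoh_boxCx {T₁ : CochainComplex X₁.Modules ℤ} {T₂ : CochainComplex X₂.Modules ℤ}
    (h₁ : ∀ i, Coh.IsQCoh (T₁.X i)) (h₂ : ∀ i, Coh.IsQCoh (T₂.X i)) {b₁ b₂ : ℤ}
    (hb₁ : ∀ i, b₁ < i → IsZero (T₁.X i)) (hb₂ : ∀ i, b₂ < i → IsZero (T₂.X i)) (n : ℤ) :
    Coh.IsQCoh ((boxCx p q T₁ T₂).X n) :=
  SumData.induction Coh.IsQCoh (fun _ h => QC70.isQuasicoherent_of_isZero h) (fun _ _ => isQCoh_biprod)
    (fun _ _ e h => QC70.isQuasicoherent_of_iso e h) (tgtTotData _ _ _ T₁ T₂ n hb₁ hb₂)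
    fun r => isQCoh_box _ _ (h₁ _) (h₂ _)

lemma isKFlat_secFun {X : Scheme.{u}} (f : X ⟶ Spec (CommRingCat.of A)) {T : CochainComplex X.Modules ℤ} {b : ℤ}
    (hb : ∀ i, b < i → IsZero (T.X i)) (hf : ∀ i, FlatA f (T.X i)) {V : X.Opens} (hV : IsAffineOpen V) :
    DRing.IsKFlat A (((secFun f V).mapHomologicalComplex (ComplexShape.up ℤ)).obj T) :=
  DR39.isKFlat_of_flat b (fun i hi => (secFun f V).map_isZero (hb i hi)) fun i => hf i V hV

variable (H : IsPullback p q f₁ f₂)

include H in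
/-- External tensor products preserve quasi-isomorphisms between bounded above complexes of quasi-coherent
modules, flat in the first variable. -/
theorem quasiIso_boxCxMap {T₁ T₁' : CochainComplex X₁.Modules ℤ} {T₂ T₂' : CochainComplex X₂.Modules ℤ}
    (η₁ : T₁ ⟶ T₁') [QuasiIso η₁] (η₂ : T₂ ⟶ T₂') [QuasiIso η₂]
    (h₁ : ∀ i, Coh.IsQCoh (T₁.X i)) (h₁' : ∀ i, Coh.IsQCoh (T₁'.X i))
    (h₂ : ∀ i, Coh.IsQCoh (T₂.X i)) (h₂' : ∀ i, Coh.IsQCoh (T₂'.X i)) {b₁ b₁' b₂ b₂' : ℤ}
    (hb₁ : ∀ i, b₁ < i → IsZero (T₁.X i)) (hb₁' : ∀ i, b₁' < i → IsZero (T₁'.X i))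
    (hb₂ : ∀ i, b₂ < i → IsZero (T₂.X i)) (hb₂' : ∀ i, b₂' < i → IsZero (T₂'.X i))
    (hf : ∀ i, FlatA f₁ (T₁.X i)) (hf' : ∀ i, FlatA f₁ (T₁'.X i)) :
    QuasiIso (boxCxMap p q η₁ η₂) := by
  refine quasiIso_of_acyclic_cone _ (acyclic_of_affine_cover _
    (isQCoh_cone _ (isQCoh_boxCx h₁ h₂ hb₁ hb₂) (isQCoh_boxCx h₁' h₂' hb₁' hb₂')) fun z => ?_)
  obtain ⟨V₁, a₁, hz₁, -⟩ := exists_isAffineOpen_mem_and_subset (X := X₁) (x := p z) (U := ⊤) trivial
  obtain ⟨V₂, a₂, hz₂, -⟩ := exists_isAffineOpen_mem_and_subset (X := X₂) (x := q z) (U := ⊤) trivial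
  let V := p ⁻¹ᵁ V₁ ⊓ q ⁻¹ᵁ V₂
  refine ⟨V, ⟨hz₁, hz₂⟩, isAffineOpen_prod H a₁ a₂, secAcyclic_of_acyclic (p ≫ f₁) V _ ?_⟩
  let G := secFun (p ≫ f₁) V
  let α : ∀ M N, (secFun f₁ V₁).obj M ⊗ (secFun f₂ V₂).obj N ⟶ G.obj (box p q M N) :=
    fun M N => bxHom H.w inf_le_left inf_le_right M N
  have hα₁ : ∀ {M M' : X₁.Modules} (g : M ⟶ M') (N : X₂.Modules),
      ((curriedTensor (ModuleCat.{u} A)).map ((secFun f₁ V₁).map g)).app ((secFun f₂ V₂).obj N) ≫ α M' N =
        α M N ≫ G.map ((DCoh.tensorBi.map ((Scheme.Modules.pullback p).map g)).app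
          ((Scheme.Modules.pullback q).obj N)) := fun g N =>
    ModuleCat.MonoidalCategory.tensor_ext fun x y => (map_left_bx _ N _ _ g x y).symm
  have hα₂ : ∀ (M : X₁.Modules) {N N' : X₂.Modules} (g : N ⟶ N'),
      ((curriedTensor (ModuleCat.{u} A)).obj ((secFun f₁ V₁).obj M)).map ((secFun f₂ V₂).map g) ≫ α M N' =
        α M N ≫ G.map ((DCoh.tensorBi.obj ((Scheme.Modules.pullback p).obj M)).map
          ((Scheme.Modules.pullback q).map g)) := fun M _ _ g =>
    ModuleCat.MonoidalCategory.tensor_ext fun x y => (map_right_bx M _ _ _ g x y).symm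
  let C := fun K₁ K₂ => totCmp (DCoh.tensorBi (X := Z)) (curriedTensor (ModuleCat.{u} A))
    (Scheme.Modules.pullback p) (Scheme.Modules.pullback q) (secFun f₁ V₁) (secFun f₂ V₂) G α hα₁ hα₂ K₁ K₂
  haveI : IsIso (C T₁ T₂) := isIso_totCmp _ _ _ _ _ _ _ _ hα₁ hα₂ _ _ hb₁ hb₂ fun i j =>
    haveI := h₁ i
    haveI := h₂ j
    isIso_bxHom H a₁ a₂ _ _
  haveI : IsIso (C T₁' T₂') := isIso_totCmp _ _ _ _ _ _ _ _ hα₁ hα₂ _ _ hb₁' hb₂' fun i j =>
    haveI := h₁' i
    haveI := h₂' j
    isIso_bxHom H a₁ a₂ _ _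
  haveI := quasiIso_secFun_map f₁ η₁ h₁ h₁' a₁
  haveI := quasiIso_secFun_map f₂ η₂ h₂ h₂' a₂
  haveI := quasiIso_tensor (isKFlat_secFun f₁ hb₁ hf a₁) (isKFlat_secFun f₁ hb₁' hf' a₁)
    (((secFun f₁ V₁).mapHomologicalComplex (ComplexShape.up ℤ)).map η₁)
    (((secFun f₂ V₂).mapHomologicalComplex (ComplexShape.up ℤ)).map η₂)
  have hn := totCmp_naturality (DCoh.tensorBi (X := Z)) (curriedTensor (ModuleCat.{u} A))
    (Scheme.Modules.pullback p) (Scheme.Modules.pullback q) (secFun f₁ V₁) (secFun f₂ V₂) G α hα₁ hα₂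
    T₁ T₂ η₁ η₂
  haveI : QuasiIso ((G.mapHomologicalComplex (ComplexShape.up ℤ)).map (boxCxMap p q η₁ η₂)) := by
    have : QuasiIso (C T₁ T₂ ≫ (G.mapHomologicalComplex (ComplexShape.up ℤ)).map (boxCxMap p q η₁ η₂)) := by
      change QuasiIso (totCmp _ _ _ _ _ _ _ _ hα₁ hα₂ T₁ T₂ ≫ _)
      rw [← hn]
      infer_instance
    exact quasiIso_of_comp_left (C T₁ T₂) _
  exact fun i => (HomologicalComplex.exactAt_iff_isZero_homology _ i).2
    (((HomologicalComplex.exactAt_iff_isZero_homology _ i).1 (acyclic_cone_of_quasiIso _ i)).of_iso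
      ((HomologicalComplex.homologyFunctor _ _ i).mapIso
        (CochainComplex.mappingCone.mapHomologicalComplexIso (boxCxMap p q η₁ η₂) G)))

variable [X₁.IsSeparated] [X₂.IsSeparated] [Z.IsSeparated]

lemma cls_boxCx {T₁ : CochainComplex X₁.Modules ℤ} {T₂ : CochainComplex X₂.Modules ℤ}
    (H : IsPullback p q f₁ f₂) (h₁ : ∀ i, Cls (T₁.X i)) (h₂ : ∀ i, Cls (T₂.X i)) {b₁ b₂ : ℤ}
    (hb₁ : ∀ i, b₁ < i → IsZero (T₁.X i)) (hb₂ : ∀ i, b₂ < i → IsZero (T₂.X i)) (n : ℤ) :
    Cls ((boxCx p q T₁ T₂).X n) :=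
  SumData.induction Cls (fun _ h => .zero h) (fun _ _ => .biprod) (fun _ _ e h => .iso e h)
    (tgtTotData _ _ _ T₁ T₂ n hb₁ hb₂) fun r => cls_box H (h₁ _) (h₂ _)

include H in
/-- Sums of direct images from affine opens: the tensor product of sections computes the external product. -/
theorem computes_boxCx [QuasiCompact (p ≫ f₁)] [QuasiSeparated (p ≫ f₁)] [HTor.HasRΓA (p ≫ f₁)]
    (T₁ : CochainComplex X₁.Modules ℤ) (T₂ : CochainComplex X₂.Modules ℤ) (h₁ : ∀ i, Cls (T₁.X i))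
    (h₂ : ∀ i, Cls (T₂.X i)) {b₁ b₂ : ℤ} (hb₁ : ∀ i, b₁ < i → IsZero (T₁.X i))
    (hb₂ : ∀ i, b₂ < i → IsZero (T₂.X i)) :
    HTor.Computes (p ≫ f₁)
      (HTor.tensorCx (((HTor.globalSectionsA f₁).mapHomologicalComplex (ComplexShape.up ℤ)).obj T₁)
        (((HTor.globalSectionsA f₂).mapHomologicalComplex (ComplexShape.up ℤ)).obj T₂))
      (DCoh.toD Z (boxCx p q T₁ T₂)) := by
  obtain ⟨e⟩ := computes_of_acyclic (p ≫ f₁) (boxCx p q T₁ T₂)
    (fun n => (cls_boxCx H h₁ h₂ hb₁ hb₂ n).isQCoh)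
    fun n => (cls_boxCx H h₁ h₂ hb₁ hb₂ n).acyAt fun W hW => by
      rw [show topU (p ≫ f₁) = ⊤ from rfl, inf_top_eq]; exact hW
  have hα₁ : ∀ {M M' : X₁.Modules} (g : M ⟶ M') (N : X₂.Modules),
      ((curriedTensor (ModuleCat.{u} A)).map ((HTor.globalSectionsA f₁).map g)).app
          ((HTor.globalSectionsA f₂).obj N) ≫ gBox p q f₁ f₂ H.w M' N =
        gBox p q f₁ f₂ H.w M N ≫ (HTor.globalSectionsA (p ≫ f₁)).map
          ((DCoh.tensorBi.map ((Scheme.Modules.pullback p).map g)).app ((Scheme.Modules.pullback q).obj N)) :=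
    fun g N => gBox_natL p q f₁ f₂ H.w g N
  haveI := isIso_totCmp (DCoh.tensorBi (X := Z)) (curriedTensor (ModuleCat.{u} A))
    (Scheme.Modules.pullback p) (Scheme.Modules.pullback q) (HTor.globalSectionsA f₁)
    (HTor.globalSectionsA f₂) (HTor.globalSectionsA (p ≫ f₁)) (fun M N => gBox p q f₁ f₂ H.w M N) hα₁
    (fun M _ _ g => gBox_natR p q f₁ f₂ H.w M g) T₁ T₂ hb₁ hb₂ fun i j => isIso_gBox H (h₁ i) (h₂ j)
  exact ⟨DerivedCategory.Q.mapIso (asIso (totCmp (DCoh.tensorBi (X := Z)) (curriedTensor (ModuleCat.{u} A))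
    (Scheme.Modules.pullback p) (Scheme.Modules.pullback q) (HTor.globalSectionsA f₁)
    (HTor.globalSectionsA f₂) (HTor.globalSectionsA (p ≫ f₁)) (fun M N => gBox p q f₁ f₂ H.w M N) hα₁
    (fun M _ _ g => gBox_natR p q f₁ f₂ H.w M g) T₁ T₂)) ≪≫ e⟩

end Two

end Groth.Agent.HTor49
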