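import Mathlib.RingTheory.IsTensorProduct
import Mathlib.LinearAlgebra.TensorProduct.Tower

/-!
Tensor products of modules over the two factors of a cocartesian square of rings.
-/

set_option autoImplicit false
set_option linter.style.haveILetI false

noncomputable section

universe u

open TensorProduct

namespace Groth.Agent.HTor49

variable {A B₁ B₂ C M N S T R : Type u} [CommRing A] [CommRing B₁] [CommRing B₂] [CommRing C]
  [Algebra A B₁] [Algebra A B₂] [Algebra B₁ C] [Algebra B₂ C] [Algebra A C]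
  [IsScalarTower A B₁ C] [IsScalarTower A B₂ C] [Algebra.IsPushout A B₁ B₂ C]
  [AddCommGroup M] [Module A M] [Module B₁ M] [AddCommGroup N] [Module A N] [Module B₂ N]
  [AddCommGroup S] [Module C S] [AddCommGroup T] [Module C T] [AddCommGroup R] [Module C R]

/-- `M ⊗_A N ≅ (C ⊗_{B₁} M) ⊗_C (C ⊗_{B₂} N)` for `C = B₁ ⊗_A B₂`. -/
theorem bijective_boxTensor (towM : ∀ (a : A) (x : M), algebraMap A B₁ a • x = a • x)
    (towN : ∀ (a : A) (y : N), algebraMap A B₂ a • y = a • y)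
    (ES : S ≃ₗ[C] C ⊗[B₁] M) (ET : T ≃ₗ[C] C ⊗[B₂] N) (E : S ⊗[C] T ≃ₗ[C] R)
    (φ : M ⊗[A] N →+ R) (h : ∀ x y, φ (x ⊗ₜ y) = E (ES.symm (1 ⊗ₜ x) ⊗ₜ ET.symm (1 ⊗ₜ y))) :
    Function.Bijective φ := by
  haveI : IsScalarTower A B₁ M := IsScalarTower.of_algebraMap_smul towM
  haveI : IsScalarTower A B₂ N := IsScalarTower.of_algebraMap_smul towN
  letI : Module B₁ T := Module.compHom T (algebraMap B₁ C)
  haveI : IsScalarTower B₁ C T := IsScalarTower.of_algebraMap_smul fun _ _ => rfl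
  let α : T ≃ₗ[B₁] B₁ ⊗[A] N :=
    ET.restrictScalars B₁ ≪≫ₗ Algebra.IsPushout.cancelBaseChange A B₁ B₂ C N
  have hα : ∀ y, α (ET.symm (1 ⊗ₜ y)) = 1 ⊗ₜ y := fun y =>
    (congrArg (Algebra.IsPushout.cancelBaseChange A B₁ B₂ C N) (ET.apply_symm_apply _)).trans
      (Algebra.IsPushout.cancelBaseChange_tmul A B₁ B₂ C N y)
  let e₁ : M ⊗[A] N ≃+ M ⊗[B₁] (B₁ ⊗[A] N) :=
    (TensorProduct.AlgebraTensorModule.cancelBaseChange A B₁ B₁ M N).toAddEquiv.symm
  let e₂ : M ⊗[B₁] (B₁ ⊗[A] N) ≃+ T ⊗[B₁] M :=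
    ((TensorProduct.congr (LinearEquiv.refl B₁ M) α.symm) ≪≫ₗ TensorProduct.comm B₁ M T).toAddEquiv
  let e₃ : T ⊗[B₁] M ≃+ R :=
    ((TensorProduct.AlgebraTensorModule.cancelBaseChange B₁ C C T M).symm ≪≫ₗ
      TensorProduct.congr (LinearEquiv.refl C T) ES.symm ≪≫ₗ TensorProduct.comm C T S ≪≫ₗ E).toAddEquiv
  have key : ∀ z, φ z = e₃ (e₂ (e₁ z)) := by
    intro z
    induction z using TensorProduct.induction_on with
    | zero => simp
    | add a b ha hb => simp only [map_add, ha, hb]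
    | tmul x y =>
      rw [h]
      have h1 : e₁ (x ⊗ₜ[A] y) = x ⊗ₜ ((1 : B₁) ⊗ₜ y) :=
        TensorProduct.AlgebraTensorModule.cancelBaseChange_symm_tmul A B₁ B₁ x y
      have h2 : e₂ (x ⊗ₜ ((1 : B₁) ⊗ₜ y)) = ET.symm (1 ⊗ₜ y) ⊗ₜ x := by
        refine (congrArg (TensorProduct.comm B₁ M T) (TensorProduct.congr_tmul _ _ _ _)).trans ?_
        rw [TensorProduct.comm_tmul, LinearEquiv.refl_apply, (LinearEquiv.symm_apply_eq α).2 (hα y).symm]
      rw [h1, h2]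
      simp [e₃]
  rw [show (φ : M ⊗[A] N → R) = e₃ ∘ e₂ ∘ e₁ from funext key]
  exact e₃.bijective.comp (e₂.bijective.comp e₁.bijective)

end Groth.Agent.HTor49
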