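import Groth.Agent.HTor49.Res
import Groth.Agent.HTor49.BoxAlg
import Groth.Agent.Mum71.TensorSec
import Groth.Agent.LimTop61.PullSec
import Groth.Agent.LimTop61.ModStage
import Groth.Prelude.Def_DCoh4
import Mathlib.AlgebraicGeometry.Morphisms.Flat

/-!
Sections of external tensor products over an affine base.
-/

set_option autoImplicit false
set_option backward.isDefEq.respectTransparency false
set_option backward.isDefEq.respectTransparency.types false
set_option synthInstance.maxHeartbeats 200000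
set_option maxSynthPendingDepth 6
set_option linter.style.haveILetI false

noncomputable section

universe u

open CategoryTheory CategoryTheory.Limits Opposite AlgebraicGeometry TopologicalSpace TensorProduct
open Groth.Agent.QC70 Groth.Agent.QCPull72

namespace Groth.Agent.HTor49

variable {A : Type u} [CommRing A]

section Base

variable {X Z : Scheme.{u}} (f : X ⟶ Spec (CommRingCat.of A))

/-- The structure map of sections over an open. -/
def sA (V : X.Opens) : A →+* Γ(X, V) :=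
  ((Scheme.ΓSpecIso (CommRingCat.of A)).inv ≫ f.appLE ⊤ V le_top).hom

lemma appLE_sA (g : Z ⟶ X) {h : Z ⟶ Spec (CommRingCat.of A)} (w : g ≫ f = h) {U : X.Opens} {V : Z.Opens}
    (e : V ≤ g ⁻¹ᵁ U) (a : A) : g.appLE U V e (sA f U a) = sA h V a := by
  subst w
  exact congr($(Scheme.Hom.appLE_comp_appLE g f ⊤ U V le_top e)
    ((Scheme.ΓSpecIso (CommRingCat.of A)).inv a))

lemma map_sA {U V : X.Opens} (e : V ≤ U) (a : A) : X.presheaf.map (homOfLE e).op (sA f U a) = sA f V a :=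
  congr($(f.appLE_map (le_top : U ≤ f ⁻¹ᵁ ⊤) (homOfLE e).op) ((Scheme.ΓSpecIso (CommRingCat.of A)).inv a))

/-- Sections over an open as a module over the base. -/
abbrev secA (M : X.Modules) (V : X.Opens) : ModuleCat.{u} A :=
  (ModuleCat.restrictScalars (sA f V)).obj (ModuleCat.of Γ(X, V) Γ(M, V))

lemma globalSectionsA_smul (M : X.Modules) (a : A) (x : (HTor.globalSectionsA f).obj M) :
    (show Γ(M, topU f) from a • x) = sA f (topU f) a • (show Γ(M, topU f) from x) := by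
  rw [sA, ← Scheme.Hom.app_eq_appLE]
  rfl

end Base

variable {Z X₁ X₂ : Scheme.{u}} (p : Z ⟶ X₁) (q : Z ⟶ X₂)
  (f₁ : X₁ ⟶ Spec (CommRingCat.of A)) (f₂ : X₂ ⟶ Spec (CommRingCat.of A))

/-- The external tensor product. -/
abbrev box (M : X₁.Modules) (N : X₂.Modules) : Z.Modules :=
  (DCoh.tensorBi.obj ((Scheme.Modules.pullback p).obj M)).obj ((Scheme.Modules.pullback q).obj N)

variable {p q f₁ f₂} {V₁ : X₁.Opens} {V₂ : X₂.Opens} {V : Z.Opens}

/-- The external product of sections. -/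
def bx (M : X₁.Modules) (N : X₂.Modules) (e₁ : V ≤ p ⁻¹ᵁ V₁) (e₂ : V ≤ q ⁻¹ᵁ V₂) (x : Γ(M, V₁)) (y : Γ(N, V₂)) :
    Γ(box p q M N, V) :=
  SecTwist.tmul ((Scheme.Modules.pullback p).obj M) ((Scheme.Modules.pullback q).obj N) V
    (unitSec p M e₁ x) (unitSec q N e₂ y)

variable (M : X₁.Modules) (N : X₂.Modules) (e₁ : V ≤ p ⁻¹ᵁ V₁) (e₂ : V ≤ q ⁻¹ᵁ V₂)

lemma bx_smul (w : p ≫ f₁ = q ≫ f₂) (a : A) (x : Γ(M, V₁)) (y : Γ(N, V₂)) :
    bx M N e₁ e₂ (sA f₁ V₁ a • x) y = bx M N e₁ e₂ x (sA f₂ V₂ a • y) := by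
  rw [bx, bx, LimTop61.unitSec_smul, LimTop61.unitSec_smul, appLE_sA f₁ p rfl, appLE_sA f₂ q w.symm]
  exact (Mum71.SecTwistTmul.smul_comm _ _ V _ _ _).symm

/-- The external product of sections, as a map from the tensor product. -/
def bxMap (w : p ≫ f₁ = q ≫ f₂) : secA f₁ M V₁ ⊗[A] secA f₂ N V₂ →+ Γ(box p q M N, V) :=
  TensorProduct.liftAddHom
    (AddMonoidHom.mk'
      (fun x : secA f₁ M V₁ => AddMonoidHom.mk' (fun y : secA f₂ N V₂ => bx M N e₁ e₂ x y) fun y y' => by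
        change SecTwist.tmul _ _ V _ (unitSec q N e₂ (_ + _)) = _
        rw [LimTop61.unitSec_add]
        exact Mum71.SecTwistTmul.add_right _ _ V _ _ _)
      fun x x' => AddMonoidHom.ext fun y => by
        change SecTwist.tmul _ _ V (unitSec p M e₁ (_ + _)) _ = _
        rw [LimTop61.unitSec_add]
        exact Mum71.SecTwistTmul.add_left _ _ V _ _ _)
    fun a x y => bx_smul M N e₁ e₂ w a x y

lemma bxMap_tmul (w : p ≫ f₁ = q ≫ f₂) (x : Γ(M, V₁)) (y : Γ(N, V₂)) :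
    bxMap M N e₁ e₂ w ((show secA f₁ M V₁ from x) ⊗ₜ[A] (show secA f₂ N V₂ from y)) = bx M N e₁ e₂ x y :=
  rfl

lemma res_bx {V₁' : X₁.Opens} {V₂' : X₂.Opens} {V' : Z.Opens} (e₁' : V' ≤ p ⁻¹ᵁ V₁') (e₂' : V' ≤ q ⁻¹ᵁ V₂')
    (h₁ : V₁' ≤ V₁) (h₂ : V₂' ≤ V₂) (h : V' ≤ V) (x : Γ(M, V₁)) (y : Γ(N, V₂)) :
    Cx47.res (box p q M N) h (bx M N e₁ e₂ x y) =
      bx M N e₁' e₂' (Cx47.res M h₁ x) (Cx47.res N h₂ y) := by
  refine (SecTwist.map_tmul _ _ (homOfLE h) _ _).trans ?_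
  exact congrArg₂ (SecTwist.tmul _ _ V') (LimTop61.unitSec_res p M e₁ e₁' h₁ h x).symm
    (LimTop61.unitSec_res q N e₂ e₂' h₂ h y).symm

lemma map_left_bx {M' : X₁.Modules} (g : M ⟶ M') (x : Γ(M, V₁)) (y : Γ(N, V₂)) :
    ((DCoh.tensorBi.map ((Scheme.Modules.pullback p).map g)).app ((Scheme.Modules.pullback q).obj N)).app V
      (bx M N e₁ e₂ x y) = bx M' N e₁ e₂ (g.app V₁ x) y := by
  refine (Mum71.tensorRightMod_map_tmul _ ((Scheme.Modules.pullback p).map g) V _ _).trans ?_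
  rw [LimTop61.pullback_map_app_unitSec]
  rfl

open MonoidalCategory in
lemma map_right_bx {N' : X₂.Modules} (g : N ⟶ N') (x : Γ(M, V₁)) (y : Γ(N, V₂)) :
    ((DCoh.tensorBi.obj ((Scheme.Modules.pullback p).obj M)).map ((Scheme.Modules.pullback q).map g)).app V
      (bx M N e₁ e₂ x y) = bx M N' e₁ e₂ x (g.app V₂ y) := by
  refine (congrArg (fun h => h.app (op V) (Mero90.tq (unitSec p M e₁ x) (unitSec q N e₂ y)))
    (Mod48.shfU_naturality (O := Z.sheaf)
      (CohB1.toPMod ((Scheme.Modules.pullback p).obj M) ◁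
        (Mod48.fgt (O := Z.sheaf)).map ((Scheme.Modules.pullback q).map g))).symm :).trans ?_
  refine congrArg (SecTwist.tmul ((Scheme.Modules.pullback p).obj M) ((Scheme.Modules.pullback q).obj N') V
    (unitSec p M e₁ x)) ?_
  exact LimTop61.pullback_map_app_unitSec q g e₂ y

/-- Sections of an external tensor product over a product of affine opens. -/
theorem bxMap_bijective (H : IsPullback p q f₁ f₂) [M.IsQuasicoherent] [N.IsQuasicoherent]
    (hV₁ : IsAffineOpen V₁) (hV₂ : IsAffineOpen V₂) (hV : V = p ⁻¹ᵁ V₁ ⊓ q ⁻¹ᵁ V₂) (hVa : IsAffineOpen V) :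
    Function.Bijective (bxMap M N e₁ e₂ H.w) := by
  let _ : Algebra A Γ(X₁, V₁) := (sA f₁ V₁).toAlgebra
  let _ : Algebra A Γ(X₂, V₂) := (sA f₂ V₂).toAlgebra
  let _ : Algebra A Γ(Z, V) := (sA (p ≫ f₁) V).toAlgebra
  let _ : Algebra Γ(X₁, V₁) Γ(Z, V) := (p.appLE V₁ V e₁).hom.toAlgebra
  let _ : Algebra Γ(X₂, V₂) Γ(Z, V) := (q.appLE V₂ V e₂).hom.toAlgebra
  haveI : IsScalarTower A Γ(X₁, V₁) Γ(Z, V) :=
    .of_algebraMap_eq fun a => (appLE_sA f₁ p rfl e₁ a).symm
  haveI : IsScalarTower A Γ(X₂, V₂) Γ(Z, V) :=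
    .of_algebraMap_eq fun a => (appLE_sA f₂ q H.w.symm e₂ a).symm
  have hpo := (isIso_pushoutSection_iff H (US := ⊤) (UT := V₂) (UX := V₁) le_top le_top hV).1
    (isIso_pushoutSection_of_isAffineOpen H _ _ hV (isAffineOpen_top _) hV₂ hV₁)
  haveI : Algebra.IsPushout A Γ(X₁, V₁) Γ(X₂, V₂) Γ(Z, V) := CommRingCat.isPushout_iff_isPushout.1 <| by
    refine IsPushout.of_iso hpo (Scheme.ΓSpecIso _) (Iso.refl _) (Iso.refl _) (Iso.refl _) ?_ ?_ ?_ ?_
    · ext a
      simp [RingHom.algebraMap_toAlgebra, sA]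
    · ext a
      simp [RingHom.algebraMap_toAlgebra, sA]
    · simp [RingHom.algebraMap_toAlgebra]
    · simp [RingHom.algebraMap_toAlgebra]
  haveI := QCPull72.isQuasicoherent_pullback p M
  haveI := QCPull72.isQuasicoherent_pullback q N
  obtain ⟨ES, hES⟩ := LimTop61.exists_baseChange_equiv p M hV₁ hVa e₁
  obtain ⟨ET, hET⟩ := LimTop61.exists_baseChange_equiv q N hV₂ hVa e₂
  obtain ⟨E, hE⟩ := Mum71.exists_tensor_equiv ((Scheme.Modules.pullback p).obj M)
    ((Scheme.Modules.pullback q).obj N) hVa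
  exact bijective_boxTensor (M := secA f₁ M V₁) (N := secA f₂ N V₂) (fun _ _ => rfl) (fun _ _ => rfl)
    ES ET E (bxMap M N e₁ e₂ H.w) fun x y => by
      refine ((hE (unitSec p M e₁ x) (unitSec q N e₂ y)).symm.trans ?_)
      exact congrArg₂ (fun a b => E (a ⊗ₜ b)) ((LinearEquiv.eq_symm_apply ES).2 (hES x))
        ((LinearEquiv.eq_symm_apply ET).2 (hET y))

end Groth.Agent.HTor49
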