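import Groth.Agent.HTor49.AffSec
import Groth.Agent.Coh69.QcInd
import Groth.Agent.Crv77.HH
import Groth.Agent.SiteMod.Injective
import Groth.Agent.CohDer42.FiniteDim

/-!
Sections of an acyclic complex of acyclic modules over a quasi-compact quasi-separated scheme.
-/

set_option autoImplicit false
set_option backward.isDefEq.respectTransparency false
set_option backward.isDefEq.respectTransparency.types false
set_option synthInstance.maxHeartbeats 200000
set_option linter.style.haveILetI false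

noncomputable section

universe u

open CategoryTheory CategoryTheory.Limits Opposite AlgebraicGeometry TopologicalSpace CategoryTheory.Abelian

namespace Groth.Agent.HTor49

open Groth.Agent.Mod48 Groth.Agent.Coh69

variable {X : Scheme.{u}}

/-- Higher cohomology over `U` vanishes. -/
def AcyAt (U : X.Opens) (M : X.Modules) : Prop := ∀ k : ℕ, Subsingleton (HE (Coh.toAb M) (k + 1) U)

lemma acyAt_of_injective (U : X.Opens) (M : X.Modules) [Injective M] : AcyAt U M := fun k =>
  SiteCoh.hu_subsingleton_of_isTotallyAcyclic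
    (SiteMod.isTotallyAcyclic_toSheaf_injective X.ringCatSheaf M) U k

lemma acyAt_of_qcoh {U : X.Opens} (hU : IsAffineOpen U) (M : X.Modules) (hM : Coh.IsQCoh M) : AcyAt U M :=
  fun k => haveI := hM; qcoh_subsingleton_HE M hU k

lemma acyAt_of_shortExact {U : X.Opens} {S : ShortComplex X.Modules} (hS : S.ShortExact)
    (h₁ : AcyAt U S.X₁) (h₃ : AcyAt U S.X₃) : AcyAt U S.X₂ := fun k => by
  have : Subsingleton (Ext.{u} (CohCx.freeSheaf (Opens.grothendieckTopology X) U)
      (Crv77.abComplex S).X₁ (k + 1)) := h₁ k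
  have : Subsingleton (Ext.{u} (CohCx.freeSheaf (Opens.grothendieckTopology X) U)
      (Crv77.abComplex S).X₃ (k + 1)) := h₃ k
  exact Coh69.ext_subsingleton_X₂ (Crv77.abComplex_shortExact hS) _ (k + 1)

lemma acyAt_biprod {U : X.Opens} {M N : X.Modules} (hM : AcyAt U M) (hN : AcyAt U N) :
    AcyAt U (M ⊞ N) :=
  acyAt_of_shortExact (ShortComplex.Splitting.ofHasBinaryBiproduct M N).shortExact hM hN

lemma ext_subsingleton_of_iso {A : Type*} [Category A] [Abelian A] [HasExt.{u} A] {Z P Q : A} {n : ℕ}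
    (e : P ≅ Q) [Subsingleton (Ext.{u} Z P n)] : Subsingleton (Ext.{u} Z Q n) :=
  subsingleton_of_forall_eq 0 fun x => by
    rw [← Ext.comp_mk₀_id x, ← e.inv_hom_id, ← Ext.mk₀_comp_mk₀, ← Ext.comp_assoc_of_second_deg_zero,
      Subsingleton.elim (x.comp (Ext.mk₀ e.inv) (add_zero n)) 0, Ext.zero_comp]

lemma acyAt_of_iso {U : X.Opens} {M N : X.Modules} (e : M ≅ N) (h : AcyAt U M) : AcyAt U N := fun k =>
  haveI := h k
  ext_subsingleton_of_iso ((SheafOfModules.toSheaf X.ringCatSheaf).mapIso e)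

variable (C : CochainComplex X.Modules ℤ)

lemma eqToHom_d {k l m : ℤ} (h : k = l) : eqToHom (congrArg C.X h) ≫ C.d l m = C.d k m := by
  subst h; simp

/-- The short exact sequences of cycles. -/
abbrev cycS (i : ℤ) : ShortComplex X.Modules := CohDer42.FiniteDim.cycSC C i (i + 1)

lemma cycS_shortExact (hC : ∀ i, C.ExactAt i) (i : ℤ) : (cycS C i).ShortExact :=
  CohDer42.FiniteDim.shortExact_cycSC C i (i + 1) (by simp) (by simp) (hC _)

variable {C}

/-- Over an open where sections are acyclic and the terms are acyclic, so are the cycles. -/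
lemma acyAt_cycles {U : X.Opens} (hC : ∀ i, C.ExactAt i) (hsec : SecAcyclic (FV U) C)
    (hU : ∀ i, AcyAt U (C.X i)) : ∀ i, AcyAt U (C.cycles i) := by
  suffices ∀ k i, Subsingleton (HE (Coh.toAb (C.cycles i)) (k + 1) U) from fun i k => this k i
  intro k
  induction k with
  | zero =>
    intro i
    have : Subsingleton (HE (Crv77.abComplex (cycS C i)).X₂ 1 U) := hU i 0
    refine Coh69.subsingleton_H1_of_surjective (Crv77.abComplex_shortExact (cycS_shortExact C hC i)) U
      fun s => ?_
    change Γ(C.cycles (i + 1), U) at s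
    let z : FV U ⟶ C.cycles (i + 1) := (fvEquiv U _).symm s
    obtain ⟨b, hb⟩ := hsec (i + 1) (z ≫ C.iCycles (i + 1)) (by
      rw [Category.assoc, HomologicalComplex.iCycles_d, comp_zero])
    let b' : FV U ⟶ C.X i := b ≫ eqToHom (congrArg C.X (by omega : i + 1 - 1 = i))
    refine ⟨fvEquiv U _ b', ?_⟩
    change (C.toCycles i (i + 1)).app U (fvEquiv U (C.X i) b') = s
    rw [← fvEquiv_comp, ← Equiv.eq_symm_apply]
    change b' ≫ _ = z
    simp only [b']
    rw [← cancel_mono (C.iCycles (i + 1)), ← hb, Category.assoc, Category.assoc,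
      HomologicalComplex.toCycles_i]
    congr 1
    exact eqToHom_d C (by omega : i + 1 - 1 = i)
  | succ k ih =>
    intro i
    have : Subsingleton (Ext.{u} (CohCx.freeSheaf (Opens.grothendieckTopology X) U)
        (Crv77.abComplex (cycS C i)).X₂ (k + 1 + 1)) := hU i (k + 1)
    have : Subsingleton (Ext.{u} (CohCx.freeSheaf (Opens.grothendieckTopology X) U)
        (Crv77.abComplex (cycS C i)).X₃ (k + 1)) := ih (i + 1)
    exact Coh69.ext_subsingleton_X₁_succ (Crv77.abComplex_shortExact (cycS_shortExact C hC i)) _ (k + 1)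

/-- Sheaves acyclic on affine opens have bounded cohomology on quasi-compact opens. -/
lemma exists_bound_acy [QuasiSeparatedSpace X] (U : X.Opens) (hU : IsCompact (U : Set X)) :
    ∃ d : ℕ, ∀ (M : X.Modules), (∀ V : X.Opens, IsAffineOpen V → AcyAt V M) → ∀ p, d ≤ p →
      Subsingleton (HE (Coh.toAb M) p U) := by
  refine qc_induction (fun U => ∃ d : ℕ, ∀ (M : X.Modules), (∀ V : X.Opens, IsAffineOpen V → AcyAt V M) →
    ∀ p, d ≤ p → Subsingleton (HE (Coh.toAb M) p U)) (fun U hU => ⟨1, fun M hM p hp => ?_⟩) ?_ U hU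
  · obtain ⟨m, rfl⟩ : ∃ m, p = m + 1 := ⟨p - 1, by omega⟩
    exact hM U hU m
  · rintro U V - - ⟨a, ha⟩ ⟨b, hb⟩ ⟨c, hc⟩
    refine ⟨a + b + c + 1, fun M hM p hp => ?_⟩
    obtain ⟨m, rfl⟩ : ∃ m, p = m + 1 := ⟨p - 1, by omega⟩
    exact subsingleton_HE_sup _ U V m (hc M hM m (by omega)) (ha M hM _ (by omega))
      (hb M hM _ (by omega))

/-- Sections over a quasi-compact open of an acyclic complex of acyclic modules are acyclic. -/
theorem secAcyclic_qc [QuasiSeparatedSpace X] (hC : ∀ i, C.ExactAt i)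
    (haff : ∀ V : X.Opens, IsAffineOpen V → SecAcyclic (FV V) C ∧ ∀ i, AcyAt V (C.X i))
    {U : X.Opens} (hUc : IsCompact (U : Set X)) (hU : ∀ i, AcyAt U (C.X i)) : SecAcyclic (FV U) C := by
  obtain ⟨d, hd⟩ := exists_bound_acy U hUc
  have hZ : ∀ (i : ℤ) (V : X.Opens), IsAffineOpen V → AcyAt V (C.cycles i) := fun i V hV =>
    acyAt_cycles hC (haff V hV).1 (haff V hV).2 i
  have key : ∀ (r p : ℕ), d ≤ p + r → ∀ i, Subsingleton (HE (Coh.toAb (C.cycles i)) (p + 1) U) := by
    intro r
    induction r with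
    | zero => exact fun p hp i => hd _ (hZ i) (p + 1) (by omega)
    | succ r ih =>
      intro p hp i
      obtain ⟨j, rfl⟩ : ∃ j, i = j + 1 := ⟨i - 1, by omega⟩
      have : Subsingleton (Ext.{u} (CohCx.freeSheaf (Opens.grothendieckTopology X) U)
          (Crv77.abComplex (cycS C j)).X₂ (p + 1)) := hU j p
      have : Subsingleton (Ext.{u} (CohCx.freeSheaf (Opens.grothendieckTopology X) U)
          (Crv77.abComplex (cycS C j)).X₁ (p + 1 + 1)) := ih (p + 1) (by omega) j
      exact Coh69.ext_subsingleton_X₃ (Crv77.abComplex_shortExact (cycS_shortExact C hC j)) _ (p + 1)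
  intro m a ha
  obtain ⟨j, rfl⟩ : ∃ j, m = j + 1 := ⟨m - 1, by omega⟩
  let z : FV U ⟶ C.cycles (j + 1) := C.liftCycles a (j + 1 + 1) (by simp) ha
  have : Subsingleton (HE (Crv77.abComplex (cycS C j)).X₁ 1 U) := key d 0 (by omega) j
  obtain ⟨t, ht⟩ := Coh69.surjective_of_subsingleton_H1
    (Crv77.abComplex_shortExact (cycS_shortExact C hC j)) U (fvEquiv U _ z)
  let b : FV U ⟶ C.X j := (fvEquiv U _).symm t
  have hb : b ≫ C.toCycles j (j + 1) = z := by
    refine (fvEquiv U _).injective ?_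
    rw [fvEquiv_comp, Equiv.apply_symm_apply]
    exact ht
  refine ⟨b ≫ eqToHom (congrArg C.X (by omega : j = j + 1 - 1)), ?_⟩
  have h1 : b ≫ C.d j (j + 1) = a := by
    rw [← C.toCycles_i j (j + 1), reassoc_of% hb, HomologicalComplex.liftCycles_i]
  rw [← h1, Category.assoc]
  congr 1
  exact eqToHom_d C (by omega : j = j + 1 - 1)

end Groth.Agent.HTor49
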