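import Groth.Agent.HTor49.CocCls
import Groth.Agent.DerComp18.AffineSec
import Groth.Agent.Rlim44.KInjSections
import Groth.Agent.Om3.EulerLift
import Groth.Agent.QC70.Closure

/-!
Sections over affine opens of a K-injective resolution of a complex of quasi-coherent modules.
-/

set_option autoImplicit false
set_option backward.isDefEq.respectTransparency false
set_option backward.isDefEq.respectTransparency.types false
set_option synthInstance.maxHeartbeats 200000
set_option linter.style.haveILetI false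

noncomputable section

universe u

open CategoryTheory CategoryTheory.Limits Opposite AlgebraicGeometry TopologicalSpace HomologicalComplex

attribute [local instance] HasDerivedCategory.standard

namespace Groth.Agent.HTor49

open Groth.Agent.Mod48

variable {X : Scheme.{u}} {V : X.Opens}

/-- `j_! O_V`. -/
abbrev FV (V : X.Opens) : X.Modules := ModSite.freeOn X.sheaf V

/-- Maps out of `j_! O_V` as sections. -/
def fvEquiv (V : X.Opens) (M : X.Modules) : (FV V ⟶ M) ≃ Γ(M, V) := freeOnEquiv (O := X.sheaf) V M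

lemma fvEquiv_comp {M N : X.Modules} (a : FV V ⟶ M) (p : M ⟶ N) :
    fvEquiv V N (a ≫ p) = p.app V (fvEquiv V M a) := freeOnEquiv_comp V a p

lemma exists_lift_of_epi {M N : X.Modules} (p : M ⟶ N) [Epi p] [M.IsQuasicoherent] [N.IsQuasicoherent]
    (hV : IsAffineOpen V) (c : FV V ⟶ N) : ∃ b : FV V ⟶ M, b ≫ p = c := by
  obtain ⟨y, hy⟩ := Om3.EulerLift.app_surjective_of_epi p hV (fvEquiv V N c)
  refine ⟨(fvEquiv V M).symm y, (fvEquiv V N).injective ?_⟩
  rw [fvEquiv_comp, Equiv.apply_symm_apply, hy]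

variable (C : CochainComplex X.Modules ℤ)

lemma isQCoh_cycles (hC : ∀ i, Coh.IsQCoh (C.X i)) (i : ℤ) : Coh.IsQCoh (C.cycles i) :=
  haveI := hC i
  haveI := hC (i + 1)
  haveI := QC70.isQuasicoherent_kernel (C.d i (i + 1))
  QC70.isQuasicoherent_of_iso
    ((kernelIsKernel (C.d i (i + 1))).conePointUniqueUpToIso (C.cyclesIsKernel i (i + 1) (by simp))) this

lemma isQCoh_homology (hC : ∀ i, Coh.IsQCoh (C.X i)) (i : ℤ) : Coh.IsQCoh (C.homology i) :=
  haveI := hC (i - 1)
  haveI := isQCoh_cycles C hC i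
  haveI := QC70.isQuasicoherent_cokernel (C.toCycles (i - 1) i)
  QC70.isQuasicoherent_of_iso
    ((cokernelIsCokernel (C.toCycles (i - 1) i)).coconePointUniqueUpToIso
      (C.homologyIsCokernel (i - 1) i (by simp))) this

/-- On an affine open, a cocycle with zero class is a coboundary. -/
lemma clsBd_qcoh (hC : ∀ i, Coh.IsQCoh (C.X i)) (hV : IsAffineOpen V) : ClsBd (FV V) C := by
  intro m a ha h
  have hex : (ShortComplex.mk (C.toCycles (m - 1) m) (C.homologyπ m) (C.toCycles_comp_homologyπ _ _)).Exact :=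
    ShortComplex.exact_of_g_is_cokernel _ (C.homologyIsCokernel (m - 1) m (by simp))
  have := hex.epi_kernelLift
  haveI := hC (m - 1)
  haveI := isQCoh_cycles C hC m
  haveI := isQCoh_homology C hC m
  haveI := QC70.isQuasicoherent_kernel (C.homologyπ m)
  obtain ⟨b, hb⟩ := exists_lift_of_epi
    (kernel.lift (C.homologyπ m) (C.toCycles (m - 1) m) (C.toCycles_comp_homologyπ _ _)) hV
    (kernel.lift (C.homologyπ m) (C.liftCycles a (m + 1) (by simp) ha) h)
  refine ⟨b, ?_⟩
  have h1 := congrArg (· ≫ kernel.ι (C.homologyπ m)) hb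
  simp only [Category.assoc, kernel.lift_ι] at h1
  rw [← C.toCycles_i (m - 1) m, ← Category.assoc, h1, liftCycles_i]

/-- On an affine open, sections of cohomology sheaves lift to cocycles. -/
lemma clsLift_qcoh (hC : ∀ i, Coh.IsQCoh (C.X i)) (hV : IsAffineOpen V) : ClsLift (FV V) C := by
  intro m c
  haveI := isQCoh_cycles C hC m
  haveI := isQCoh_homology C hC m
  obtain ⟨z, hz⟩ := exists_lift_of_epi (C.homologyπ m) hV c
  have ha : (z ≫ C.iCycles m) ≫ C.d m (m + 1) = 0 := by rw [Category.assoc, iCycles_d, comp_zero]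
  refine ⟨z ≫ C.iCycles m, ha, ?_⟩
  rw [ccls, ← hz]
  congr 1
  rw [← cancel_mono (C.iCycles m), liftCycles_i]

lemma isQCohD_toD (hC : ∀ i, Coh.IsQCoh (C.X i)) : DCoh.IsQCohD (DCoh.toD X C) := fun i =>
  QC70.isQuasicoherent_of_iso ((DerivedCategory.homologyFunctorFactors X.Modules i).app C).symm
    (isQCoh_homology C hC i)

lemma isQCohD_shift (K : DCoh.D X) (hK : DCoh.IsQCohD K) (n : ℤ) : DCoh.IsQCohD (K⟦n⟧) := fun i =>
  QC70.isQuasicoherent_of_iso
    (((DerivedCategory.homologyFunctor X.Modules 0).shiftIso n i (n + i) rfl).app K).symm (hK (n + i))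

/-- Degree zero case of `clsBd_kinj`. -/
lemma exists_bd_zero (I : CochainComplex X.Modules ℤ) [I.IsKInjective] (hI : DCoh.IsQCohD (DCoh.toD X I))
    (hV : IsAffineOpen V) (a : FV V ⟶ I.X 0) (z : FV V ⟶ I.cycles 0) (hz : z ≫ I.iCycles 0 = a)
    (h : z ≫ I.homologyπ 0 = 0) : ∃ b : FV V ⟶ I.X (-1), b ≫ I.d (-1) 0 = a := by
  have hev : LocGen.ev (DerivedCategory.Q.map (LocGen.cycleHom z)) = 0 := by
    rw [LocGen.ev_Q_map, ← Category.assoc, LocGen.homologyMap_cycleHom, h, zero_comp]
  have hz0 : LocGen.ev (0 : LocGen.Pd (FV V) 0 ⟶ DerivedCategory.Q.obj I) = 0 := by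
    rw [LocGen.ev, Functor.map_zero, comp_zero]
  have h0 : DerivedCategory.Q.map (LocGen.cycleHom z) = 0 :=
    (DerComp18.ev_bijective_affine hV (DerivedCategory.Q.obj I) hI).1 (hev.trans hz0.symm)
  have hh := HomotopyCategory.homotopyOfEq _ _
    (Rlim44.quotient_map_eq_of_Q_map_eq (z' := 0) (h0.trans (DerivedCategory.Q.map_zero _ _).symm))
  have hc := hh.comm 0
  rw [zero_f, add_zero, dNext_eq _ (show (ComplexShape.up ℤ).Rel 0 1 from rfl),
    prevD_eq _ (show (ComplexShape.up ℤ).Rel (-1) 0 by simp),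
    (HomologicalComplex.isZero_single_obj_X (ComplexShape.up ℤ) 0 (FV V) 1 one_ne_zero).eq_of_src (hh.hom 1 0) 0,
    comp_zero, zero_add, LocGen.cycleHom_f] at hc
  refine ⟨(singleObjXSelf (ComplexShape.up ℤ) 0 (FV V)).inv ≫ hh.hom 0 (-1), ?_⟩
  rw [Category.assoc, ← hc, Iso.inv_hom_id_assoc, hz]

/-- On an affine open, cocycles with zero class of a K-injective complex with quasi-coherent cohomology
are coboundaries. -/
lemma clsBd_kinj (I : CochainComplex X.Modules ℤ) [I.IsKInjective] (hI : DCoh.IsQCohD (DCoh.toD X I))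
    (hV : IsAffineOpen V) : ClsBd (FV V) I := by
  intro m a ha h
  have hI' : DCoh.IsQCohD (DCoh.toD X (I⟦m⟧)) := fun i =>
    QC70.isQuasicoherent_of_iso
      ((DerivedCategory.homologyFunctor X.Modules i).mapIso ((DerivedCategory.Q.commShiftIso m).app I)).symm
      (isQCohD_shift _ hI m i)
  let e : I.X m ≅ (I⟦m⟧).X 0 := eqToIso (congrArg I.X (zero_add m).symm)
  let φ : FV V ⟶ (I⟦m⟧).X 0 := a ≫ e.hom
  have hφ : φ ≫ (I⟦m⟧).d 0 (0 + 1) = 0 := by
    change (a ≫ eqToHom (congrArg I.X (zero_add m).symm)) ≫ (m.negOnePow • I.d (0 + m) (0 + 1 + m)) = 0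
    have : ∀ (k l : ℤ) (hk : k = m) (hl : l = m + 1),
        (a ≫ eqToHom (congrArg I.X hk.symm)) ≫ I.d k l = 0 := by
      intro k l hk hl
      subst hk hl
      simpa using ha
    rw [Linear.comp_units_smul, this _ _ (zero_add m) (by omega), smul_zero]
  have hloc : ccls (I⟦m⟧) φ hφ = 0 := by
    have hex : (ShortComplex.mk (I.toCycles (m - 1) m) (I.homologyπ m) (I.toCycles_comp_homologyπ _ _)).Exact :=
      ShortComplex.exact_of_g_is_cokernel _ (I.homologyIsCokernel (m - 1) m (by simp))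
    obtain ⟨W, π, hπ, t, ht⟩ := hex.exact_up_to_refinements (I.liftCycles a (m + 1) (by simp) ha) h
    rw [← cancel_epi π, comp_zero]
    have h2 : π ≫ φ = (t ≫ eqToHom (congrArg I.X (by omega : m - 1 = -1 + m))) ≫
        I.d (-1 + m) (0 + m) := by
      have h1 : π ≫ a = t ≫ I.d (m - 1) m := by
        have := congrArg (· ≫ I.iCycles m) ht
        simpa using this
      have : ∀ (k l : ℤ) (hk : m - 1 = k) (hl : m = l),
          π ≫ a ≫ eqToHom (congrArg I.X hl) = (t ≫ eqToHom (congrArg I.X hk)) ≫ I.d k l := by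
        intro k l hk hl
        subst hk hl
        simpa using h1
      exact this _ _ (by omega) (zero_add m).symm
    have h3 : π ≫ φ = ((m.negOnePow • (t ≫ eqToHom (congrArg I.X (by omega : m - 1 = -1 + m)))) :
        W ⟶ (I⟦m⟧).X (-1)) ≫ (I⟦m⟧).d (-1) 0 := by
      change _ = (m.negOnePow • _) ≫ (m.negOnePow • I.d (-1 + m) (0 + m))
      rw [Linear.units_smul_comp, Linear.comp_units_smul, smul_smul, Int.units_mul_self, one_smul]
      exact h2
    rw [ccls, ← Category.assoc]
    have h4 : π ≫ (I⟦m⟧).liftCycles φ (0 + 1) (by simp) hφ =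
        ((m.negOnePow • (t ≫ eqToHom (congrArg I.X (by omega : m - 1 = -1 + m)))) :
          W ⟶ (I⟦m⟧).X (-1)) ≫ (I⟦m⟧).toCycles (-1) 0 := by
      rw [← cancel_mono ((I⟦m⟧).iCycles 0), Category.assoc, liftCycles_i, Category.assoc, toCycles_i]
      exact h3
    rw [h4, Category.assoc, toCycles_comp_homologyπ, comp_zero]
  obtain ⟨b, hb⟩ := exists_bd_zero (I⟦m⟧) hI' hV φ _ (liftCycles_i _ _ _ _ _) hloc
  have hb' : (m.negOnePow • b) ≫ I.d (-1 + m) (0 + m) = a ≫ eqToHom (congrArg I.X (zero_add m).symm) := by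
    change b ≫ (m.negOnePow • I.d (-1 + m) (0 + m)) = φ at hb
    rw [Linear.units_smul_comp]
    rw [Linear.comp_units_smul] at hb
    exact hb
  refine ⟨(m.negOnePow • b) ≫ eqToHom (congrArg I.X (by omega : -1 + m = m - 1)), ?_⟩
  have : ∀ (k l : ℤ) (hk : k = m - 1) (hl : l = m) (c : FV V ⟶ I.X k),
      c ≫ I.d k l = a ≫ eqToHom (congrArg I.X hl.symm) →
        (c ≫ eqToHom (congrArg I.X hk)) ≫ I.d (m - 1) m = a := by
    intro k l hk hl c hc
    subst hk hl
    simpa using hc
  exact this (-1 + m) (0 + m) (by omega) (zero_add m) _ hb'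

/-- Sections over affine opens of a resolution of a complex of quasi-coherent modules. -/
theorem secAcyclic_cone_affine {P I : CochainComplex X.Modules ℤ} (r : P ⟶ I) [QuasiIso r] [I.IsKInjective]
    (hP : ∀ i, Coh.IsQCoh (P.X i)) (hV : IsAffineOpen V) :
    SecAcyclic (FV V) (CochainComplex.mappingCone r) :=
  haveI : IsIso (DerivedCategory.Q.map r) :=
    (DerivedCategory.isIso_Q_map_iff_quasiIso _ r).2 inferInstance
  have hI : DCoh.IsQCohD (DCoh.toD X I) := fun i =>
    QC70.isQuasicoherent_of_iso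
      ((DerivedCategory.homologyFunctor X.Modules i).mapIso (asIso (DerivedCategory.Q.map r)))
      (isQCohD_toD P hP i)
  secAcyclic_cone r (secInj_of_clsBd r (clsBd_qcoh P hP hV))
    (secSurj_of_cls r (clsLift_qcoh P hP hV) (clsBd_kinj I hI hV))

end Groth.Agent.HTor49
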