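import Groth.Agent.FCx40.Bc
import Groth.Agent.S3535
import Mathlib.Algebra.Category.ModuleCat.Monoidal.Adjunction
import Mathlib.Algebra.Homology.QuasiIso

/-!
# Base change of `Tor` along an arbitrary ring map, when the higher `Tor_q(P, A')` vanish
-/

set_option autoImplicit false
set_option linter.style.haveILetI false
set_option linter.style.longLine false
universe u

open CategoryTheory CategoryTheory.Limits MonoidalCategory TensorProduct

namespace Groth.Agent.HTor49

variable {A A' : Type u} [CommRing A] [CommRing A'] [Algebra A A']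

section
variable (Q' : Type u) [AddCommGroup Q'] [Module A' Q'] [Module A Q'] [IsScalarTower A A' Q']

/-- `(A' ⊗_A X) ⊗_{A'} Q' ≃ Q' ⊗_A X`. -/
noncomputable def cancelLin (X : ModuleCat.{u} A) :
    TensorProduct A' ((ModuleCat.extendScalars (algebraMap A A')).obj X : Type u) Q' ≃ₗ[A']
      TensorProduct A Q' (X : Type u) :=
  ((TensorProduct.comm A' _ Q').trans
      (TensorProduct.congr (LinearEquiv.refl A' Q') (FCx40.extEquiv A' X))).trans
        (TensorProduct.AlgebraTensorModule.cancelBaseChange A A' A' Q' (X : Type u))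

/-- `(A' ⊗_A X) ⊗_{A'} Q' ≃ X ⊗_A Q'`. -/
noncomputable def cancelAdd (X : ModuleCat.{u} A) :
    TensorProduct A' ((ModuleCat.extendScalars (algebraMap A A')).obj X : Type u) Q' ≃+
      TensorProduct A (X : Type u) Q' :=
  (cancelLin Q' X).toAddEquiv.trans (TensorProduct.comm A Q' (X : Type u)).toAddEquiv

theorem cancelAdd_smul (X : ModuleCat.{u} A) (a : A)
    (z : TensorProduct A' ((ModuleCat.extendScalars (algebraMap A A')).obj X : Type u) Q') :
    cancelAdd Q' X (algebraMap A A' a • z) = a • cancelAdd Q' X z := by
  show TensorProduct.comm A Q' (X : Type u) (cancelLin Q' X (algebraMap A A' a • z)) =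
    a • TensorProduct.comm A Q' (X : Type u) (cancelLin Q' X z)
  rw [map_smul, algebraMap_smul, map_smul]

open scoped ChangeOfRings in
theorem cancelAdd_tmul (X : ModuleCat.{u} A) (b : A') (x : X) (q : Q') :
    cancelAdd Q' X ((b ⊗ₜ[A,(algebraMap A A')] x) ⊗ₜ[A'] q) = x ⊗ₜ[A] (b • q) :=
  (congrArg (TensorProduct.comm A Q' (X : Type u))
    (TensorProduct.AlgebraTensorModule.cancelBaseChange_tmul A A' A' q x b)).trans
      (TensorProduct.comm_tmul A _ _ _ _)

theorem cancelAdd_natural {X Y : ModuleCat.{u} A} (g : X ⟶ Y)
    (z : TensorProduct A' ((ModuleCat.extendScalars (algebraMap A A')).obj X : Type u) Q') :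
    cancelAdd Q' Y (LinearMap.rTensor Q' ((ModuleCat.extendScalars (algebraMap A A')).map g).hom z) =
      LinearMap.rTensor Q' g.hom (cancelAdd Q' X z) := by
  induction z using TensorProduct.induction_on with
  | zero => simp
  | add x y hx hy => simp only [map_add, hx, hy]
  | tmul u q =>
    induction u using FCx40.ext_induction A' with
    | h0 => simp
    | ha x y hx hy => simp only [TensorProduct.add_tmul, map_add, hx, hy]
    | ht b x =>
      rw [LinearMap.rTensor_tmul, cancelAdd_tmul, LinearMap.rTensor_tmul]
      exact cancelAdd_tmul Q' Y b (g.hom x) q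

/-- `(A' ⊗_A -) ⊗_{A'} Q'`, restricted to `A`, is `- ⊗_A Q'`. -/
noncomputable def cancelIso :
    ModuleCat.extendScalars.{u, u, u} (algebraMap A A') ⋙ tensorRight (ModuleCat.of A' Q') ⋙
      ModuleCat.restrictScalars.{u} (algebraMap A A') ≅ tensorRight (ModuleCat.of A Q') :=
  NatIso.ofComponents
    (fun X => (AddEquiv.toLinearEquiv (R := A)
      (M := ((ModuleCat.restrictScalars.{u} (algebraMap A A')).obj
        ((tensorRight (ModuleCat.of A' Q')).obj ((ModuleCat.extendScalars.{u, u, u} (algebraMap A A')).obj X)) : Type u))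
      (cancelAdd Q' X) (fun a z => cancelAdd_smul Q' X a z)).toModuleIso)
    (fun {X Y} g => ModuleCat.hom_ext (LinearMap.ext fun z => cancelAdd_natural Q' g z))

/-- The homology of `(A' ⊗_A R) ⊗_{A'} Q'` is that of `R ⊗_A Q'`. -/
theorem nonempty_homology_iso (R : ChainComplex (ModuleCat.{u} A) ℕ) (n : ℕ) :
    Nonempty ((ModuleCat.restrictScalars.{u} (algebraMap A A')).obj
      ((((tensorRight (ModuleCat.of A' Q')).mapHomologicalComplex _).obj
        (((ModuleCat.extendScalars.{u, u, u} (algebraMap A A')).mapHomologicalComplex _).obj R)).homology n) ≅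
      (((tensorRight (ModuleCat.of A Q')).mapHomologicalComplex (ComplexShape.down ℕ)).obj R).homology n) := by
  let F := ModuleCat.extendScalars.{u, u, u} (algebraMap A A')
  let G := ModuleCat.restrictScalars.{u} (algebraMap A A')
  haveI : G.Additive := inferInstance
  haveI : F.Additive := by
    haveI : F.IsLeftAdjoint := (ModuleCat.extendRestrictScalarsAdj _).isLeftAdjoint
    exact Functor.additive_of_preserves_binary_products _
  let C := ((tensorRight (ModuleCat.of A' Q')).mapHomologicalComplex (ComplexShape.down ℕ)).obj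
    ((F.mapHomologicalComplex _).obj R)
  exact ⟨((C.sc n).mapHomologyIso G).symm ≪≫ (HomologicalComplex.homologyFunctor _ _ n).mapIso
    ((NatIso.mapHomologicalComplex (cancelIso (A := A) Q') (ComplexShape.down ℕ)).app R)⟩

end

section
variable (P : Type u) [AddCommGroup P] [Module A P]

/-- The base change of a resolution is a resolution when `Tor_q(P, A') = 0` for `q ≥ 1`. -/
theorem exists_resolution_of_torVanishing (hP : ∀ q : ℕ, 0 < q → Subsingleton (DRing.Tor A q P A')) :
    ∃ R' : ProjectiveResolution ((ModuleCat.extendScalars.{u, u, u} (algebraMap A A')).obj (ModuleCat.of A P)),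
      Nonempty (R'.complex ≅ ((ModuleCat.extendScalars.{u, u, u} (algebraMap A A')).mapHomologicalComplex _).obj
        (projectiveResolution (ModuleCat.of A P)).complex) := by
  let f := algebraMap A A'
  let F := ModuleCat.extendScalars.{u, u, u} f
  let G := ModuleCat.restrictScalars.{u} f
  haveI : F.IsLeftAdjoint := (ModuleCat.extendRestrictScalarsAdj f).isLeftAdjoint
  haveI : F.Additive := Functor.additive_of_preserves_binary_products _
  let R := projectiveResolution (ModuleCat.of A P)
  let C := (F.mapHomologicalComplex (ComplexShape.down ℕ)).obj R.complex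
  have hex : ∀ n : ℕ, C.ExactAt (n + 1) := by
    intro n
    rw [HomologicalComplex.exactAt_iff_isZero_homology]
    obtain ⟨e⟩ := nonempty_homology_iso (A := A) (A' := A') A' R.complex (n + 1)
    obtain ⟨t⟩ := S3535.result A (ModuleCat.of A P) (ModuleCat.of A A') R (n + 1)
    haveI := hP (n + 1) n.succ_pos
    have hz : IsZero (G.obj ((((tensorRight (ModuleCat.of A' A')).mapHomologicalComplex _).obj C).homology (n + 1))) :=
      (ModuleCat.isZero_of_subsingleton _).of_iso (e ≪≫ t.symm)
    haveI : Subsingleton ((((tensorRight (ModuleCat.of A' A')).mapHomologicalComplex _).obj C).homology (n + 1) : Type u) :=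
      ModuleCat.subsingleton_of_isZero (M := G.obj ((((tensorRight (ModuleCat.of A' A')).mapHomologicalComplex _).obj C).homology (n + 1))) hz
    exact IsZero.of_iso (ModuleCat.isZero_of_subsingleton ((((tensorRight (ModuleCat.of A' A')).mapHomologicalComplex _).obj C).homology (n + 1))) ((HomologicalComplex.homologyFunctor _ _ (n + 1)).mapIso
      ((NatIso.mapHomologicalComplex (rightUnitorNatIso (ModuleCat.{u} A') : tensorRight (ModuleCat.of A' A') ≅ 𝟭 _).symm (ComplexShape.down ℕ)).app C))
  let π' := (F.mapHomologicalComplex _).map R.π ≫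
    (HomologicalComplex.singleMapHomologicalComplex F (ComplexShape.down ℕ) 0).hom.app (ModuleCat.of A P)
  refine ⟨{ complex := C
            projective := fun i => (ModuleCat.extendRestrictScalarsAdj f).map_projective _ (R.projective i)
            π := π'
            quasiIso := ?_ }, ⟨Iso.refl _⟩⟩
  haveI : QuasiIso ((F.mapHomologicalComplex (ComplexShape.down ℕ)).map R.π) := by
    refine ⟨fun n => ?_⟩
    cases n with
    | zero =>
      rw [ChainComplex.quasiIsoAt₀_iff, ShortComplex.quasiIso_iff_of_zeros']
      rotate_left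
      · exact ((F.mapHomologicalComplex (ComplexShape.down ℕ)).obj R.complex).shape 0 0
          (fun h => Nat.succ_ne_zero 0 h)
      · exact F.map_zero _ _
      · exact F.map_zero _ _
      refine ⟨?_, ?_⟩
      · have h := R.exact₀
        haveI : Epi (R.π.f 0) := inferInstance
        exact ShortComplex.exact_of_g_is_cokernel _
          (CokernelCofork.mapIsColimit _ h.gIsCokernel F)
      · exact F.map_epi (R.π.f 0)
    | succ n =>
      rw [quasiIsoAt_iff_exactAt' _ _]
      · exact hex n
      · rw [HomologicalComplex.exactAt_iff_isZero_homology]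
        exact (HomologicalComplex.isZero_single_obj_homology _ 0 _ (n + 1) (by simp)).of_iso
          ((HomologicalComplex.homologyFunctor _ _ (n + 1)).mapIso
            ((HomologicalComplex.singleMapHomologicalComplex F (ComplexShape.down ℕ) 0).app _))
  exact quasiIso_comp _ _

/-- Base change of `Tor`. -/
theorem exists_semilinear (Q' : Type u) [AddCommGroup Q'] [Module A' Q'] [Module A Q']
    [IsScalarTower A A' Q'] (hP : ∀ q : ℕ, 0 < q → Subsingleton (DRing.Tor A q P A')) (n : ℕ) :
    ∃ φ : DRing.Tor A n P Q' →ₛₗ[algebraMap A A'] DRing.Tor A' n (TensorProduct A A' P) Q',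
      Function.Bijective φ := by
  obtain ⟨R', ⟨eC⟩⟩ := exists_resolution_of_torVanishing P hP
  obtain ⟨e⟩ := nonempty_homology_iso (A := A) (A' := A') Q' (projectiveResolution (ModuleCat.of A P)).complex n
  obtain ⟨t⟩ := S3535.result A (ModuleCat.of A P) (ModuleCat.of A Q') (projectiveResolution (ModuleCat.of A P)) n
  obtain ⟨t'⟩ := S3535.result A' _ (ModuleCat.of A' Q') R' n
  let i : ((CategoryTheory.Tor (ModuleCat.{u} A') n).obj
      ((ModuleCat.extendScalars.{u, u, u} (algebraMap A A')).obj (ModuleCat.of A P))).obj (ModuleCat.of A' Q') ≅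
      ((CategoryTheory.Tor (ModuleCat.{u} A') n).obj
      (ModuleCat.of A' (TensorProduct A A' P))).obj (ModuleCat.of A' Q') :=
    ((CategoryTheory.Tor (ModuleCat.{u} A') n).mapIso
      (FCx40.extEquiv A' (ModuleCat.of A P)).toModuleIso).app _
  let E : ((CategoryTheory.Tor (ModuleCat.{u} A) n).obj (ModuleCat.of A P)).obj (ModuleCat.of A Q') ≅
      (ModuleCat.restrictScalars.{u} (algebraMap A A')).obj
      (((CategoryTheory.Tor (ModuleCat.{u} A') n).obj
        (ModuleCat.of A' (TensorProduct A A' P))).obj (ModuleCat.of A' Q')) :=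
    t ≪≫ e.symm ≪≫ (ModuleCat.restrictScalars.{u} (algebraMap A A')).mapIso
      (((HomologicalComplex.homologyFunctor _ _ n).mapIso
        (((tensorRight (ModuleCat.of A' Q')).mapHomologicalComplex _).mapIso eC.symm)) ≪≫ t'.symm ≪≫ i)
  exact ⟨{ toFun := fun x => E.hom x
           map_add' := fun x y => map_add E.hom.hom x y
           map_smul' := fun a x => E.hom.hom.map_smul a x },
    (ConcreteCategory.bijective_of_isIso E.hom)⟩

end

end Groth.Agent.HTor49
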