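import Groth.Agent.HTor49.BoxTot
import Mathlib.Algebra.Category.ModuleCat.ChangeOfRings
import Groth.Agent.HTor49.BoxMain

/-!
Base change of sections along a map of affine bases.
-/

set_option autoImplicit false
set_option backward.isDefEq.respectTransparency false
set_option backward.isDefEq.respectTransparency.types false
set_option synthInstance.maxHeartbeats 400000
set_option maxSynthPendingDepth 6
set_option linter.style.haveILetI false

noncomputable section

universe u

open CategoryTheory CategoryTheory.Limits Opposite AlgebraicGeometry TopologicalSpace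
open HomologicalComplex TensorProduct
open Groth.Agent.QC70 Groth.Agent.QCPull72
open Groth.Agent.Mod48 (SecAcyclic)

attribute [local instance] HasDerivedCategory.standard

namespace Groth.Agent.HTor49

variable {A A' : Type u} [CommRing A] [CommRing A'] {φ : A →+* A'}

section Sections

variable {X : Scheme.{u}} (f : X ⟶ Spec (CommRingCat.of A))

lemma sA_comp_SpecMap {Z : Scheme.{u}} (h : Z ⟶ Spec (CommRingCat.of A')) (V : Z.Opens) (a : A) :
    sA (h ≫ Spec.map (CommRingCat.ofHom φ)) V a = sA h V (φ a) := by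
  rw [← appLE_sA (Spec.map (CommRingCat.ofHom φ)) h rfl (U := ⊤) (le_top : V ≤ h ⁻¹ᵁ ⊤) a]
  simp only [sA, CommRingCat.hom_comp, RingHom.comp_apply, ← Scheme.Hom.app_eq_appLE,
    Scheme.Hom.preimage_top]
  exact congrArg (h.appLE ⊤ V le_top).hom
    (congr($(Scheme.ΓSpecIso_inv_naturality (CommRingCat.ofHom φ)) a)).symm

/-- Restriction of sections, as a map of modules over the base. -/
def resHom (M : X.Modules) {V V' : X.Opens} (h : V' ≤ V) : (secFun f V).obj M ⟶ (secFun f V').obj M :=
  ModuleCat.ofHom (X := secA f M V) (Y := secA f M V') (resA f M h)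

lemma isIso_resHom (M : X.Modules) {V V' : X.Opens} (h : V' ≤ V) (hb : Function.Bijective (Cx47.res M h)) :
    IsIso (resHom f M h) :=
  (ConcreteCategory.isIso_iff_bijective _).2 hb

/-- Global sections are sections over the preimage of the base. -/
def gsIso : HTor.globalSectionsA f ≅ secFun f (topU f) :=
  NatIso.ofComponents (fun M => (gsEquiv f M).toModuleIso) (fun _ => rfl)

end Sections

variable {X X' : Scheme.{u}} (g : X' ⟶ X) (f : X ⟶ Spec (CommRingCat.of A))
  (f' : X' ⟶ Spec (CommRingCat.of A')) (w : g ≫ f = f' ≫ Spec.map (CommRingCat.ofHom φ))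

/-- Pullback of sections, semilinearly. -/
def pullSec {V : X.Opens} {V' : X'.Opens} (e : V' ≤ g ⁻¹ᵁ V) (M : X.Modules) :
    (secFun f V).obj M ⟶
      (ModuleCat.restrictScalars φ).obj ((secFun f' V').obj ((Scheme.Modules.pullback g).obj M)) :=
  ModuleCat.ofHom (X := secA f M V)
    (Y := (ModuleCat.restrictScalars φ).obj (secA f' ((Scheme.Modules.pullback g).obj M) V'))
    { toFun := fun x => unitSec g M e x
      map_add' := LimTop61.unitSec_add g M e
      map_smul' := fun a x => by
        refine (LimTop61.unitSec_smul g M e (sA f V a) x).trans ?_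
        rw [appLE_sA f g w e a, sA_comp_SpecMap f' V' a]
        rfl }

/-- The base change map on sections. -/
def bcHom {V : X.Opens} {V' : X'.Opens} (e : V' ≤ g ⁻¹ᵁ V) (M : X.Modules) :
    (ModuleCat.extendScalars φ).obj ((secFun f V).obj M) ⟶
      (secFun f' V').obj ((Scheme.Modules.pullback g).obj M) :=
  ((ModuleCat.extendRestrictScalarsAdj φ).homEquiv _ _).symm (pullSec g f f' w e M)

lemma homEquiv_bcHom {V : X.Opens} {V' : X'.Opens} (e : V' ≤ g ⁻¹ᵁ V) (M : X.Modules) :
    (ModuleCat.extendRestrictScalarsAdj φ).homEquiv _ _ (bcHom g f f' w e M) = pullSec g f f' w e M :=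
  Equiv.apply_symm_apply _ _

lemma bcHom_naturality {V : X.Opens} {V' : X'.Opens} (e : V' ≤ g ⁻¹ᵁ V) {M N : X.Modules} (h : M ⟶ N) :
    (ModuleCat.extendScalars φ).map ((secFun f V).map h) ≫ bcHom g f f' w e N =
      bcHom g f f' w e M ≫ (secFun f' V').map ((Scheme.Modules.pullback g).map h) := by
  apply ((ModuleCat.extendRestrictScalarsAdj φ).homEquiv _ _).injective
  refine (Adjunction.homEquiv_naturality_left _ _ _).trans ((?_ : _ = _).trans
    (Adjunction.homEquiv_naturality_right _ _ _).symm)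
  rw [homEquiv_bcHom, homEquiv_bcHom]
  ext x
  exact (LimTop61.pullback_map_app_unitSec g h e x).symm

/-- The base change map on sections, as a natural transformation. -/
def bcSecNat {V : X.Opens} {V' : X'.Opens} (e : V' ≤ g ⁻¹ᵁ V) :
    secFun f V ⋙ ModuleCat.extendScalars φ ⟶ Scheme.Modules.pullback g ⋙ secFun f' V' where
  app := bcHom g f f' w e
  naturality _ _ h := bcHom_naturality g f f' w e h

lemma res_bcHom {V₁ V₂ : X.Opens} {V₁' V₂' : X'.Opens} (e₁ : V₁' ≤ g ⁻¹ᵁ V₁) (e₂ : V₂' ≤ g ⁻¹ᵁ V₂)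
    (h : V₂ ≤ V₁) (h' : V₂' ≤ V₁') (M : X.Modules) :
    bcHom g f f' w e₁ M ≫ resHom f' ((Scheme.Modules.pullback g).obj M) h' =
      (ModuleCat.extendScalars φ).map (resHom f M h) ≫ bcHom g f f' w e₂ M := by
  apply ((ModuleCat.extendRestrictScalarsAdj φ).homEquiv _ _).injective
  erw [Adjunction.homEquiv_naturality_left, Adjunction.homEquiv_naturality_right, homEquiv_bcHom, homEquiv_bcHom]
  ext x
  exact (LimTop61.unitSec_res g M e₁ e₂ h h' x).symm

variable {g f f'} (H : IsPullback g f' f (Spec.map (CommRingCat.ofHom φ)))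

include H in
lemma isAffineOpen_preimage_bc {V : X.Opens} (hV : IsAffineOpen V) : IsAffineOpen (g ⁻¹ᵁ V) :=
  haveI : IsAffineHom g := (isAffineHom_isStableUnderBaseChange.{u}).of_isPullback H.flip inferInstance
  hV.preimage g

include H in
/-- Sections over affine opens commute with base change. -/
theorem isIso_bcHom_affine {V : X.Opens} (hV : IsAffineOpen V) (M : X.Modules) [M.IsQuasicoherent] :
    IsIso (bcHom g f f' H.w (le_refl (g ⁻¹ᵁ V)) M) := by
  let V' := g ⁻¹ᵁ V
  have hUY : V' = g ⁻¹ᵁ V ⊓ f' ⁻¹ᵁ ⊤ := by simp [V']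
  have h1 : (⊤ : (Spec (CommRingCat.of A')).Opens) ≤ Spec.map (CommRingCat.ofHom φ) ⁻¹ᵁ ⊤ := le_top
  have hpo := (isIso_pushoutSection_iff H h1 (le_top : V ≤ f ⁻¹ᵁ ⊤) hUY).1
    (isIso_pushoutSection_of_isAffineOpen H h1 _ hUY (isAffineOpen_top _) (isAffineOpen_top _) hV)
  letI : Algebra A A' := φ.toAlgebra
  letI : Algebra A Γ(X, V) := (sA f V).toAlgebra
  letI : Algebra A Γ(X', V') := (sA (g ≫ f) V').toAlgebra
  letI : Algebra A' Γ(X', V') := (sA f' V').toAlgebra
  letI : Algebra Γ(X, V) Γ(X', V') := (g.appLE V V' le_rfl).hom.toAlgebra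
  haveI : IsScalarTower A Γ(X, V) Γ(X', V') := .of_algebraMap_eq fun a => (appLE_sA f g rfl _ a).symm
  haveI : IsScalarTower A A' Γ(X', V') :=
    .of_algebraMap_eq fun a => (congrArg (fun t => sA t V' a) H.w).trans (sA_comp_SpecMap f' V' a)
  haveI : Algebra.IsPushout A A' Γ(X, V) Γ(X', V') :=
    CommRingCat.isPushout_iff_isPushout.1 <| IsPushout.flip <| by
      refine IsPushout.of_iso hpo (Scheme.ΓSpecIso _) (Iso.refl _) (Scheme.ΓSpecIso _) (Iso.refl _) ?_ ?_ ?_ ?_
      · ext a
        simp [RingHom.algebraMap_toAlgebra, sA]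
      · rw [show (Spec.map (CommRingCat.ofHom φ)).appLE ⊤ ⊤ h1 = (Spec.map (CommRingCat.ofHom φ)).appTop from
          (Scheme.Hom.app_eq_appLE _).symm]
        exact Scheme.ΓSpecIso_naturality (CommRingCat.ofHom φ)
      · simp [RingHom.algebraMap_toAlgebra]
      · ext a
        simp [RingHom.algebraMap_toAlgebra, sA]
  obtain ⟨ES, hES⟩ := LimTop61.exists_baseChange_equiv g M hV (isAffineOpen_preimage_bc H hV)
    (e := le_refl (g ⁻¹ᵁ V))
  letI : Module A Γ(M, V) := Module.compHom _ (sA f V)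
  haveI : IsScalarTower A Γ(X, V) Γ(M, V) := IsScalarTower.of_algebraMap_smul fun _ _ => rfl
  let C := Algebra.IsPushout.cancelBaseChange A A' Γ(X, V) Γ(X', V') Γ(M, V)
  let Ψ : A' ⊗[A] Γ(M, V) → Γ((Scheme.Modules.pullback g).obj M, V') := fun z => ES.symm (C.symm z)
  have hΨ : Function.Bijective Ψ := ES.symm.bijective.comp C.symm.bijective
  refine (ConcreteCategory.isIso_iff_bijective _).2 ?_
  have key : (bcHom g f f' H.w (le_refl (g ⁻¹ᵁ V)) M).hom.toFun = Ψ := by
    funext z
    induction z using TensorProduct.induction_on with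
    | zero => exact (map_zero (bcHom g f f' H.w (le_refl (g ⁻¹ᵁ V)) M).hom).trans (by simp [Ψ])
    | add a b ha hb =>
      exact (map_add (bcHom g f f' H.w (le_refl (g ⁻¹ᵁ V)) M).hom a b).trans
        ((congrArg₂ (· + ·) ha hb).trans (by simp [Ψ]))
    | tmul b₀ x₀ =>
      let b : A' := b₀
      let x : Γ(M, V) := x₀
      change b • (show secA f' ((Scheme.Modules.pullback g).obj M) V' from
        unitSec g M (le_refl (g ⁻¹ᵁ V)) x) = ES.symm (C.symm (b ⊗ₜ[A] x))
      have h2 : C.symm (b ⊗ₜ x) = algebraMap A' Γ(X', V') b • ((1 : Γ(X', V')) ⊗ₜ[Γ(X, V)] x) := by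
        rw [algebraMap_smul, LinearEquiv.symm_apply_eq, map_smul]
        refine Eq.trans ?_ (congrArg (b • ·)
          (Algebra.IsPushout.cancelBaseChange_tmul A A' Γ(X, V) Γ(X', V') Γ(M, V) x).symm)
        rw [TensorProduct.smul_tmul', smul_eq_mul, mul_one]
      rw [h2, map_smul, (LinearEquiv.symm_apply_eq ES).2 (hES x).symm]
      rfl
  change Function.Bijective (bcHom g f f' H.w (le_refl (g ⁻¹ᵁ V)) M).hom.toFun
  rw [key]
  exact hΨ

variable [X.IsSeparated] [X'.IsSeparated]

include H in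
/-- Pullback along a base change keeps direct images from affine opens. -/
theorem loc_pullback {W : X.Opens} (hW : IsAffineOpen W) {M : X.Modules} (hM : Coh.IsQCoh M) (hl : Loc W M) :
    Loc (g ⁻¹ᵁ W) ((Scheme.Modules.pullback g).obj M) := by
  haveI := hM
  let W' := g ⁻¹ᵁ W
  let N := (Scheme.Modules.pullback g).obj M
  haveI hN : N.IsQuasicoherent := QCPull72.isQuasicoherent_pullback g M
  haveI : ((CechOX.pushRestr W').obj N).IsQuasicoherent :=
    isQCoh_pushRestr (isAffineOpen_preimage_bc H hW) _ hN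
  haveI : ((𝟭 X'.Modules).obj N).IsQuasicoherent := hN
  haveI : IsIso ((jUnit W').app N) := by
    refine isIso_of_affine_cover _ fun z => ?_
    obtain ⟨V, hV, hz, -⟩ := exists_isAffineOpen_mem_and_subset (X := X) (x := g z) (U := ⊤) trivial
    refine ⟨g ⁻¹ᵁ V, hz, isAffineOpen_preimage_bc H hV, jUnit_app_bijective W' fun hle => ?_⟩
    have hsq := res_bcHom g f f' H.w (le_refl (g ⁻¹ᵁ V)) (le_refl (g ⁻¹ᵁ (W ⊓ V))) inf_le_right
      (g.preimage_mono inf_le_right) M
    haveI := isIso_bcHom_affine H hV M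
    haveI := isIso_bcHom_affine H (hW.inf hV) M
    haveI := isIso_resHom f M (inf_le_right : W ⊓ V ≤ V) (hl V)
    haveI : IsIso (bcHom g f f' H.w (le_refl (g ⁻¹ᵁ V)) M ≫ resHom f' N (g.preimage_mono inf_le_right)) := by
      rw [hsq]; infer_instance
    haveI : IsIso (resHom f' N (g.preimage_mono (inf_le_right : W ⊓ V ≤ V))) :=
      IsIso.of_isIso_comp_left (bcHom g f f' H.w (le_refl (g ⁻¹ᵁ V)) M) _
    have h1 : Function.Bijective (Cx47.res N (g.preimage_mono (inf_le_right : W ⊓ V ≤ V))) :=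
      ConcreteCategory.bijective_of_isIso (resHom f' N (g.preimage_mono (inf_le_right : W ⊓ V ≤ V)))
    have he : W'.ι ''ᵁ (W'.ι ⁻¹ᵁ (g ⁻¹ᵁ V)) = g ⁻¹ᵁ (W ⊓ V) :=
      (image_preimage W' (g ⁻¹ᵁ V)).trans (Scheme.Hom.preimage_inf g).symm
    have h2 := res_bijective_of_eq N he.le he
    rw [show Cx47.res N hle = Cx47.res N he.le ∘ Cx47.res N (g.preimage_mono inf_le_right) from
      funext fun x => (Cx47.res_res N _ _ x).symm]
    exact h2.comp h1
  exact loc_of_isIso_jUnit

include H in
theorem cls_pullback {M : X.Modules} (h : Cls M) : Cls ((Scheme.Modules.pullback g).obj M) := by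
  induction h with
  | zero h => exact .zero (Functor.map_isZero _ h)
  | @loc M W hW hq hl =>
    exact .loc _ (isAffineOpen_preimage_bc H hW) (haveI := hq; QCPull72.isQuasicoherent_pullback g M)
      (loc_pullback H hW hq hl)
  | @biprod M N _ _ h1 h2 =>
    haveI : PreservesBinaryBiproducts (Scheme.Modules.pullback g) :=
      preservesBinaryBiproducts_of_preservesBiproducts _
    exact .iso ((Scheme.Modules.pullback g).mapBiprod M N).symm (.biprod h1 h2)
  | iso e _ h => exact .iso ((Scheme.Modules.pullback g).mapIso e) h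

omit [X.IsSeparated] [X'.IsSeparated] in
lemma topU_bc : topU f' ≤ g ⁻¹ᵁ topU f := fun _ _ => trivial

include H in
/-- Global sections of sums of direct images from affine opens commute with base change. -/
theorem isIso_bcHom_top {M : X.Modules} (h : Cls M) : IsIso (bcHom g f f' H.w (topU_bc (g := g) (f := f) (f' := f')) M) := by
  refine Cls.bijective_app _ _ (bcSecNat g f f' H.w (topU_bc (g := g) (f := f) (f' := f'))) h
    fun N W hW hq hl => ?_
  haveI := hq
  change IsIso (bcHom g f f' H.w (topU_bc (g := g) (f := f) (f' := f')) N)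
  have hsq := res_bcHom g f f' H.w (topU_bc (g := g) (f := f) (f' := f')) (le_refl (g ⁻¹ᵁ W)) (le_top : W ≤ topU f)
    (le_top : g ⁻¹ᵁ W ≤ topU f') N
  haveI := isIso_bcHom_affine H hW N
  haveI := isIso_resHom f N (le_top : W ≤ topU f) (loc_res_bijective hl _ inf_le_left)
  haveI := isIso_resHom f' _ (le_top : g ⁻¹ᵁ W ≤ topU f')
    (loc_res_bijective (loc_pullback H hW hq hl) _ inf_le_left)
  haveI : IsIso (bcHom g f f' H.w (topU_bc (g := g) (f := f) (f' := f')) N ≫
      resHom f' ((Scheme.Modules.pullback g).obj N) (le_top : g ⁻¹ᵁ W ≤ topU f')) := by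
    rw [hsq]; infer_instance
  exact IsIso.of_isIso_comp_right _ (resHom f' _ (le_top : g ⁻¹ᵁ W ≤ topU f'))

omit [X.IsSeparated] [X'.IsSeparated] in
include H in
/-- Pullback along a base change preserves quasi-isomorphisms of bounded above complexes of flat quasi-coherent
modules. -/
theorem quasiIso_pullCx {K L : CochainComplex X.Modules ℤ} (η : K ⟶ L) [QuasiIso η]
    (hK : ∀ i, Coh.IsQCoh (K.X i)) (hL : ∀ i, Coh.IsQCoh (L.X i)) {a b : ℤ}
    (ha : ∀ i, a < i → IsZero (K.X i)) (hb : ∀ i, b < i → IsZero (L.X i))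
    (hfK : ∀ i, FlatA f (K.X i)) (hfL : ∀ i, FlatA f (L.X i)) :
    QuasiIso (((Scheme.Modules.pullback g).mapHomologicalComplex (ComplexShape.up ℤ)).map η) := by
  have hp : ∀ (N : CochainComplex X.Modules ℤ), (∀ i, Coh.IsQCoh (N.X i)) → ∀ i,
      Coh.IsQCoh ((((Scheme.Modules.pullback g).mapHomologicalComplex (ComplexShape.up ℤ)).obj N).X i) :=
    fun N h i => haveI := h i; QCPull72.isQuasicoherent_pullback g _
  let pη := ((Scheme.Modules.pullback g).mapHomologicalComplex (ComplexShape.up ℤ)).map η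
  refine quasiIso_of_acyclic_cone _ (acyclic_of_affine_cover _ (isQCoh_cone pη (hp K hK) (hp L hL)) fun z => ?_)
  obtain ⟨V, hV, hz, -⟩ := exists_isAffineOpen_mem_and_subset (X := X) (x := g z) (U := ⊤) trivial
  refine ⟨g ⁻¹ᵁ V, hz, isAffineOpen_preimage_bc H hV, secAcyclic_of_acyclic f' _ _ ?_⟩
  let G := secFun f' (g ⁻¹ᵁ V)
  let τ := NatTrans.mapHomologicalComplex (bcSecNat g f f' H.w (le_refl (g ⁻¹ᵁ V))) (ComplexShape.up ℤ)
  have hi : ∀ (N : CochainComplex X.Modules ℤ), (∀ i, Coh.IsQCoh (N.X i)) → IsIso (τ.app N) := fun N h => by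
    haveI : ∀ i, IsIso ((τ.app N).f i) := fun i =>
      haveI := h i
      isIso_bcHom_affine H hV (N.X i)
    exact HomologicalComplex.Hom.isIso_of_components _
  haveI := hi K hK
  haveI := hi L hL
  haveI := quasiIso_secFun_map f η hK hL hV
  haveI := DR39.quasiIso_extendScalars_of_kflat φ (isKFlat_secFun f ha hfK hV) (isKFlat_secFun f hb hfL hV)
    (((secFun f V).mapHomologicalComplex (ComplexShape.up ℤ)).map η)
  haveI : QuasiIso ((G.mapHomologicalComplex (ComplexShape.up ℤ)).map pη) := by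
    have hn := τ.naturality η
    haveI : QuasiIso (((secFun f V ⋙ ModuleCat.extendScalars φ).mapHomologicalComplex (ComplexShape.up ℤ)).map η) :=
      inferInstanceAs (QuasiIso (((ModuleCat.extendScalars φ).mapHomologicalComplex (ComplexShape.up ℤ)).map
        (((secFun f V).mapHomologicalComplex (ComplexShape.up ℤ)).map η)))
    haveI : QuasiIso (τ.app K ≫
        ((Scheme.Modules.pullback g ⋙ G).mapHomologicalComplex (ComplexShape.up ℤ)).map η) := by
      rw [← hn]; infer_instance
    exact quasiIso_of_comp_left (τ.app K)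
      (((Scheme.Modules.pullback g ⋙ G).mapHomologicalComplex (ComplexShape.up ℤ)).map η)
  exact fun i => (HomologicalComplex.exactAt_iff_isZero_homology _ i).2
    (((HomologicalComplex.exactAt_iff_isZero_homology _ i).1 (acyclic_cone_of_quasiIso _ i)).of_iso
      ((HomologicalComplex.homologyFunctor _ _ i).mapIso
        (CochainComplex.mappingCone.mapHomologicalComplexIso pη G)))

end Groth.Agent.HTor49
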