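import Groth.Agent.Mod48.SecQis

/-!
Classes of cocycles of sections in cohomology objects; a criterion for quasi-isomorphisms on sections.
-/

set_option autoImplicit false

universe v u

open CategoryTheory CategoryTheory.Limits HomologicalComplex

namespace Groth.Agent.HTor49

open Groth.Agent.Mod48

variable {A : Type u} [Category.{v} A] [Abelian A] {T : A}

/-- The class of a cocycle. -/
noncomputable def ccls (C : CochainComplex A ℤ) {m : ℤ} (a : T ⟶ C.X m) (ha : a ≫ C.d m (m + 1) = 0) :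
    T ⟶ C.homology m :=
  C.liftCycles a (m + 1) (by simp) ha ≫ C.homologyπ m

lemma ccls_map {C D : CochainComplex A ℤ} (r : C ⟶ D) {m : ℤ} (a : T ⟶ C.X m) (ha : a ≫ C.d m (m + 1) = 0) :
    ccls C a ha ≫ homologyMap r m =
      ccls D (a ≫ r.f m) (by rw [Category.assoc, r.comm, reassoc_of% ha, zero_comp]) := by
  rw [ccls, ccls, Category.assoc, homologyπ_naturality, ← Category.assoc]
  congr 1
  rw [← cancel_mono (D.iCycles m), Category.assoc, cyclesMap_i, liftCycles_i_assoc, liftCycles_i]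

lemma ccls_eq_zero_of_eq_d (C : CochainComplex A ℤ) {m : ℤ} (a : T ⟶ C.X m) (ha : a ≫ C.d m (m + 1) = 0)
    (b : T ⟶ C.X (m - 1)) (hb : b ≫ C.d (m - 1) m = a) : ccls C a ha = 0 := by
  have : C.liftCycles a (m + 1) (by simp) ha = b ≫ C.toCycles (m - 1) m := by
    rw [← cancel_mono (C.iCycles m), liftCycles_i, Category.assoc, toCycles_i, hb]
  rw [ccls, this, Category.assoc, toCycles_comp_homologyπ, comp_zero]

lemma ccls_sub (C : CochainComplex A ℤ) {m : ℤ} (a a' : T ⟶ C.X m) (ha : a ≫ C.d m (m + 1) = 0)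
    (ha' : a' ≫ C.d m (m + 1) = 0) :
    ccls C (a - a') (by rw [Preadditive.sub_comp, ha, ha', sub_zero]) = ccls C a ha - ccls C a' ha' := by
  rw [ccls, ccls, ccls]
  refine (congrArg (· ≫ C.homologyπ m) ?_).trans (Preadditive.sub_comp _ _ _)
  rw [← cancel_mono (C.iCycles m), liftCycles_i]
  exact (((Preadditive.sub_comp _ _ _).trans (congrArg₂ (· - ·) (liftCycles_i _ _ _ _ _) (liftCycles_i _ _ _ _ _)))).symm

/-- Cocycles of sections with zero class are coboundaries. -/
def ClsBd (T : A) (C : CochainComplex A ℤ) : Prop :=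
  ∀ (m : ℤ) (a : T ⟶ C.X m) (ha : a ≫ C.d m (m + 1) = 0), ccls C a ha = 0 →
    ∃ b : T ⟶ C.X (m - 1), b ≫ C.d (m - 1) m = a

/-- Sections of cohomology objects lift to cocycles of sections. -/
def ClsLift (T : A) (C : CochainComplex A ℤ) : Prop :=
  ∀ (m : ℤ) (c : T ⟶ C.homology m), ∃ (a : T ⟶ C.X m) (ha : a ≫ C.d m (m + 1) = 0), ccls C a ha = c

variable {C D : CochainComplex A ℤ} (r : C ⟶ D) [QuasiIso r]

lemma secInj_of_clsBd (h : ClsBd T C) : SecInj T r := by
  rintro m c hc ⟨b, hb⟩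
  refine h m c hc ?_
  rw [← cancel_mono (homologyMap r m), zero_comp, ccls_map]
  exact ccls_eq_zero_of_eq_d D _ _ b hb

lemma secSurj_of_cls (hC : ClsLift T C) (hD : ClsBd T D) : SecSurj T r := by
  intro m c' hc'
  obtain ⟨a, ha, hcl⟩ := hC m (ccls D c' hc' ≫ inv (homologyMap r m))
  refine ⟨a, ha, ?_⟩
  have ha' : (a ≫ r.f m) ≫ D.d m (m + 1) = 0 := by
    rw [Category.assoc, r.comm, reassoc_of% ha, zero_comp]
  refine hD m (a ≫ r.f m - c') (by rw [Preadditive.sub_comp, ha', hc', sub_zero]) ?_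
  rw [ccls_sub D _ _ ha' hc', ← ccls_map r a ha, hcl, Category.assoc, IsIso.inv_hom_id, Category.comp_id,
    sub_self]

omit [QuasiIso r] in
lemma secInj_apply (h : SecInj T r) {l m : ℤ} (hlm : l + 1 = m) (c : T ⟶ C.X m)
    (hc : c ≫ C.d m (m + 1) = 0) (b : T ⟶ D.X l) (hb : b ≫ D.d l m = c ≫ r.f m) :
    ∃ b' : T ⟶ C.X l, b' ≫ C.d l m = c := by
  obtain rfl : l = m - 1 := by omega
  exact h m c hc ⟨b, hb⟩

omit [QuasiIso r] in
open CochainComplex in
/-- Acyclicity of sections of the cone. -/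
lemma secAcyclic_cone (hi : SecInj T r) (hs : SecSurj T r) : SecAcyclic T (mappingCone r) := by
  intro m c hc
  let x : T ⟶ C.X (m + 1) := c ≫ (mappingCone.fst r).1.v m (m + 1) rfl
  let y : T ⟶ D.X m := c ≫ (mappingCone.snd r).v m m (add_zero m)
  have hx : x ≫ C.d (m + 1) (m + 1 + 1) = 0 := by
    have := congrArg (· ≫ (mappingCone.fst r).1.v (m + 1) (m + 1 + 1) rfl) hc
    simp only [Category.assoc, zero_comp, mappingCone.d_fst_v r m (m + 1) (m + 1 + 1) rfl rfl] at this
    simpa [x] using this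
  have hxy : y ≫ D.d m (m + 1) = -(x ≫ r.f (m + 1)) := by
    have := congrArg (· ≫ (mappingCone.snd r).v (m + 1) (m + 1) (add_zero _)) hc
    simp only [Category.assoc, zero_comp, mappingCone.d_snd_v r m (m + 1) rfl, Preadditive.comp_add] at this
    rw [Category.assoc, eq_neg_iff_add_eq_zero]
    simpa [x, y, add_comm] using this
  obtain ⟨u', hu'⟩ := secInj_apply r hi (show m + 1 = m + 1 from rfl) x hx (-y)
    (by rw [Preadditive.neg_comp, hxy, neg_neg])
  have hy' : (y + u' ≫ r.f m) ≫ D.d m (m + 1) = 0 := by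
    have : (u' ≫ r.f m) ≫ D.d m (m + 1) = x ≫ r.f (m + 1) := by
      rw [Category.assoc, r.comm, reassoc_of% hu']
    rw [Preadditive.add_comp, hxy, this, neg_add_cancel]
  obtain ⟨w, hw, e, he⟩ := hs m (y + u' ≫ r.f m) hy'
  refine ⟨(w - u') ≫ (mappingCone.inl r).v m (m - 1) (by omega) - e ≫ (mappingCone.inr r).f (m - 1), ?_⟩
  have h1 : (w - u') ≫ C.d m (m + 1) = -x := by
    rw [Preadditive.sub_comp, hw, hu', zero_sub]
  have h2 : c = x ≫ (mappingCone.inl r).v (m + 1) m (by omega) + y ≫ (mappingCone.inr r).f m := by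
    rw [Category.assoc, Category.assoc, ← Preadditive.comp_add,
      mappingCone.id_X r m (m + 1) rfl, Category.comp_id]
  simp only [Preadditive.sub_comp, Category.assoc, mappingCone.inr_f_d, reassoc_of% he,
    mappingCone.inl_v_d r m (m - 1) (m + 1) (by omega) (by omega), Preadditive.comp_sub, reassoc_of% h1,
    Preadditive.neg_comp]
  rw [h2]
  have h3 : (w ≫ C.d m (m + 1)) ≫ (mappingCone.inl r).v (m + 1) m (by omega) = 0 := by rw [hw, zero_comp]
  rw [Category.assoc] at h3
  simp only [Preadditive.add_comp, Category.assoc, h3, reassoc_of% hu', zero_sub, sub_zero]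
  abel

end Groth.Agent.HTor49
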