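import Groth.Agent.DCX42.LpullLoc
import Groth.Agent.DCX42.KInjPush
import Groth.Agent.DerComp18.CohPC
import Groth.Agent.IntMult12.CohTensorD
import Groth.Agent.E4O.InfDescent
import Groth.Agent.Mod48.TruncTower
import Groth.Agent.QC70.ExtCoh
import Groth.Prelude.Def_HTor

/-!
Bounded above objects with coherent cohomology on locally Noetherian schemes are pseudo-coherent;
derived inverse images of such objects.
-/

set_option autoImplicit false
set_option linter.style.haveILetI false
set_option backward.isDefEq.respectTransparency false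
set_option backward.isDefEq.respectTransparency.types false

noncomputable section

universe u

open CategoryTheory CategoryTheory.Limits AlgebraicGeometry TopologicalSpace Pretriangulated DerivedCategory

attribute [local instance] HasDerivedCategory.standard

namespace Groth.Agent.HTor49

open Groth.Agent.DCX42

variable {X : Scheme.{u}}

/-- Pseudo-coherence is local. -/
lemma isPC_of_local {m : ℤ} {K : DCoh.D X}
    (h : ∀ x : X, ∃ V : X.Opens, x ∈ V ∧ DCoh.IsPseudoCoherentD m ((resD V.ι).obj K)) :
    DCoh.IsPseudoCoherentD m K := by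
  rw [isPC_iff]
  intro x
  obtain ⟨V, hx, hV⟩ := h x
  obtain ⟨W, hW, hWP⟩ := (isPC_iff m _).1 hV (⟨x, hx⟩ : V)
  exact exists_open_of_pieces (P := fun {_} A => HasPCApprox m A) (fun h e => h.of_iso e)
    (fun j _ h => h.restrict j) K V W hx hW hWP

/-- Restriction of an object in a single degree. -/
def resInD (j : (X.Opens)) (M : X.Modules) :
    (resD j.ι).obj (DCoh.inD X M) ≅ DCoh.inD j.toScheme (M.restrict j.ι) :=
  ((Scheme.Modules.restrictFunctor j.ι).mapDerivedCategorySingleFunctor 0).app M

lemma isPC_freeMod (n : ℕ) (m : ℤ) : DCoh.IsPseudoCoherentD m (DCoh.inD X (FlatMod.freeMod X n)) := by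
  rw [isPC_iff]
  refine fun x => ⟨⊤, trivial, HasPCApprox.restrict ?_ _⟩
  let E := (HomologicalComplex.single X.Modules (ComplexShape.up ℤ) 0).obj (FlatMod.freeMod X n)
  have hE : DCoh.IsStrictlyPerfect E := by
    refine ⟨⟨0, 0, fun i hi => HomologicalComplex.isZero_single_obj_X _ _ _ _ (by omega)⟩, fun i => ?_⟩
    by_cases hi : i = 0
    · subst hi
      exact isFinLocFree_of_iso (HomologicalComplex.singleObjXSelf _ _ _).symm
        (QC70.isFinLocFree_freeMod X n)
    · exact isFinLocFree_of_isZero (HomologicalComplex.isZero_single_obj_X _ _ _ _ hi)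
  exact ⟨E, ((singleFunctorIsoCompQ X.Modules 0).app (FlatMod.freeMod X n)).inv, hE, PCMap.of_isIso m _⟩

/-- Coherent modules are pseudo-coherent. -/
theorem isPC_coh : ∀ (d : ℕ) {X : Scheme.{u}} [IsLocallyNoetherian X] (M : X.Modules), Coh.IsCoh M →
    ∀ m : ℤ, 1 ≤ m + d → DCoh.IsPseudoCoherentD m (DCoh.inD X M) := by
  intro d
  induction d with
  | zero =>
    intro X _ M _ m hm
    have h0 : TStructure.t.IsLE ((singleFunctor X.Modules 0).obj M) 0 := inferInstance
    exact isPC_of_isLE (TStructure.t.isLE_of_le _ 0 (m - 1) (by omega))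
  | succ d ih =>
    intro X _ M hM m hm
    refine isPC_of_local fun x => ?_
    obtain ⟨V, hV, hxV, -⟩ := exists_isAffineOpen_mem_and_subset (X := X) (x := x) (U := ⊤) trivial
    refine ⟨V, hxV, isPC_of_iso (resInD V M).symm ?_⟩
    haveI : IsAffine V.toScheme := hV
    let N := M.restrict V.ι
    have hN : Coh.IsCoh N := QC70.isCoh_of_iso
      ((Scheme.Modules.restrictFunctorIsoPullback V.ι).app M).symm (E4O.isCoh_pullback V.ι M hM)
    haveI := hN.1
    haveI := hN.2
    obtain ⟨n, p, hp⟩ := Amp73.exists_epi_freeMod hN.1 hN.2 fun y =>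
      ⟨⊤, trivial, isAffineOpen_top _, eq_top_iff.mpr fun t _ => Submodule.subset_span ⟨t, QC70.res_self t⟩⟩
    have hfree : Coh.IsCoh (FlatMod.freeMod V.toScheme n) :=
      CD47.isCoh_of_isFinLocFree (QC70.isFinLocFree_freeMod _ n)
    have hS : (ShortComplex.mk (kernel.ι p) p (kernel.condition p)).ShortExact :=
      { exact := ShortComplex.exact_kernel p }
    exact isPC₃ hS.singleTriangle hS.singleTriangle_distinguished
      (ih (kernel p) (QC70.isCoh_kernel p hfree hN.1) (m + 1) (by push_cast at hm; omega))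
      (isPC_freeMod n m)

variable [IsLocallyNoetherian X]

lemma isPC_single (M : X.Modules) (hM : Coh.IsCoh M) (q m : ℤ) :
    DCoh.IsPseudoCoherentD m ((singleFunctor X.Modules q).obj M) :=
  isPC_of_iso
    ((((singleFunctors X.Modules).shiftIso (-q) q 0 (by omega)).app M))
    (isPC_shift (isPC_coh (1 - (m - q)).toNat M hM (m - q) (by omega)) (-q) (by omega))

/-- Bounded above objects with coherent cohomology are pseudo-coherent. -/
theorem isPC_of_isCohD (K : DCoh.D X) (hK : DCoh.IsCohD K) {b : ℤ} (hb : K.IsLE b) (m : ℤ) :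
    DCoh.IsPseudoCoherentD m K := by
  suffices ∀ (d : ℕ) (b : ℤ), b < m + d → ∀ K : DCoh.D X, DCoh.IsCohD K → K.IsLE b →
      DCoh.IsPseudoCoherentD m K from
    this ((b - m).toNat + 1) b (by omega) K hK hb
  intro d
  induction d with
  | zero =>
    intro b hbm K _ h
    exact isPC_of_isLE (TStructure.t.isLE_of_le K b (m - 1) (by omega))
  | succ d ih =>
    intro b hbm K hK h
    let t : Triangulated.TStructure (DCoh.D X) := TStructure.t
    let T := (t.truncLT b).obj K
    let W := (t.truncGE b).obj K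
    have hle : t.IsLE K b := h
    have hW1 : t.IsLE W b := inferInstance
    have hW2 : t.IsGE W b := inferInstance
    obtain ⟨M, ⟨e⟩⟩ := exists_iso_singleFunctor_obj_of_isGE_of_isLE W b
    have := Mod48.isIso_homology_truncGEπ K b b le_rfl
    have hM : Coh.IsCoh M := QC70.isCoh_of_iso
      ((asIso ((homologyFunctor X.Modules b).map ((t.truncGEπ b).app K))) ≪≫
        (homologyFunctor X.Modules b).mapIso e ≪≫ (singleFunctorCompHomologyFunctorIso X.Modules b).app M)
      (hK b)
    have hTle : t.IsLE T (b - 1) := t.isLE_truncLT_obj K b (b - 1) (by omega)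
    have hTcoh : DCoh.IsCohD T := fun i => by
      by_cases hi : i ≤ b - 1
      · have := Mod48.isIso_homology_truncLTι K b i (by omega)
        exact QC70.isCoh_of_iso (asIso ((homologyFunctor X.Modules i).map ((t.truncLTι b).app K))).symm (hK i)
      · have hz : IsZero ((homologyFunctor X.Modules i).obj T) :=
          DerivedCategory.isZero_of_isLE T (b - 1) i (by omega)
        exact QC70.isCoh_of_isZero hz
    exact isPC₂ _ (t.triangleLTGE_distinguished b K) (ih (b - 1) (by omega) T hTcoh hTle)
      (isPC_of_iso e.symm (isPC_single M hM b m))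

/-- The derived inverse image of a bounded above object with coherent cohomology has coherent
cohomology, between locally Noetherian schemes. -/
theorem isCohD_Lpull {Z : Scheme.{u}} [IsLocallyNoetherian Z] (f : Z ⟶ X) [DCoh.HasLpull f]
    (K : DCoh.D X) (hK : DCoh.IsCohD K) {b : ℤ} (hb : K.IsLE b) :
    DCoh.IsCohD ((DCoh.Lpull f).obj K) ∧
      ∃ a : ℤ, ∀ i, a < i → IsZero (DCoh.HD ((DCoh.Lpull f).obj K) i) :=
  ⟨DerComp18.isCohD_of_pseudoCoherent _ fun m => isPC_Lpull f (isPC_of_isCohD K hK hb m),
    b, fun i hi =>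
      have := isLE_Lpull f hb
      DerivedCategory.isZero_of_isLE _ b i hi⟩

omit [IsLocallyNoetherian X] in
lemma isLE_toD {P : CochainComplex X.Modules ℤ} {b : ℤ} (hb : ∀ i, b < i → IsZero (P.X i)) :
    (DCoh.toD X P).IsLE b :=
  ⟨P, Iso.refl _, (CochainComplex.isStrictlyLE_iff _ _).2 hb⟩

omit [IsLocallyNoetherian X] in
/-- Coherence of cohomology under flat inverse image. -/
theorem isCohD_pullFlat {Z : Scheme.{u}} (q : Z ⟶ X) [Flat q] (Q' : CochainComplex X.Modules ℤ)
    (hQ : DCoh.IsCohD (DCoh.toD X Q')) :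
    DCoh.IsCohD (DCoh.toD Z (((Scheme.Modules.pullback q).mapHomologicalComplex (ComplexShape.up ℤ)).obj Q')) := by
  have := DCX42.preservesHomology_pullback q
  exact fun i => QC70.isCoh_of_iso
    (((homologyFunctorFactors Z.Modules i).app
      (((Scheme.Modules.pullback q).mapHomologicalComplex (ComplexShape.up ℤ)).obj Q')) ≪≫
      (show (((Scheme.Modules.pullback q).mapHomologicalComplex (ComplexShape.up ℤ)).obj Q').homology i ≅ _ from
        (Q'.sc i).mapHomologyIso (Scheme.Modules.pullback q))).symm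
    (E4O.isCoh_pullback q _ (QC70.isCoh_of_iso ((homologyFunctorFactors X.Modules i).app Q') (hQ i)))

omit [IsLocallyNoetherian X] in
/-- Local hypertor. -/
theorem localTor_isCohD {Y S : Scheme.{u}} (f : X ⟶ S) (g : Y ⟶ S) [Flat f]
    [IsLocallyNoetherian X] [IsLocallyNoetherian (pullback f g)] (K : DCoh.D X)
    (Q' : CochainComplex Y.Modules ℤ) {b : ℤ} (hK : K.IsLE b) (bQ : ∃ b : ℤ, ∀ i : ℤ, b < i → IsZero (Q'.X i))
    (hP : DCoh.IsCohD K) (hQ : DCoh.IsCohD (DCoh.toD Y Q'))
    [DCoh.HasLpull (pullback.fst f g)] [DCoh.HasLTensorCx ((HTor.pullCx (pullback.snd f g)).obj Q')] :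
    DCoh.IsCohD ((DCoh.LTensorCx ((HTor.pullCx (pullback.snd f g)).obj Q')).obj
      ((DCoh.Lpull (pullback.fst f g)).obj K)) := by
  obtain ⟨c, hc⟩ := bQ
  obtain ⟨h1, h2⟩ := isCohD_Lpull (pullback.fst f g) K hP hK
  refine (IntMult12.isCohD_lTensor _ _ h1 h2 (isCohD_pullFlat (pullback.snd f g) Q' hQ) ⟨c, fun i hi => ?_⟩).1
  have := isLE_toD (X := pullback f g) (P := (HTor.pullCx (pullback.snd f g)).obj Q') (b := c)
    fun j hj => (Scheme.Modules.pullback (pullback.snd f g)).map_isZero (hc j hj)
  exact DerivedCategory.isZero_of_isLE _ c i hi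

end Groth.Agent.HTor49

namespace Groth.Agent.HTor49

variable {X : Scheme.{u}}

/-- A coherent module as an object of the derived category. -/
theorem isCohD_single (M : X.Modules) (hM : Coh.IsCoh M) :
    DCoh.IsCohD (DCoh.toD X ((HomologicalComplex.single X.Modules (ComplexShape.up ℤ) 0).obj M)) := fun i => by
  refine QC70.isCoh_of_iso ((homologyFunctorFactors X.Modules i).app _).symm ?_
  by_cases hi : i = 0
  · subst hi
    exact QC70.isCoh_of_iso ((HomologicalComplex.homologyFunctorSingleIso X.Modules (ComplexShape.up ℤ) 0).app M).symm hM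
  · exact QC70.isCoh_of_isZero ((HomologicalComplex.exactAt_iff_isZero_homology _ _).1
      (HomologicalComplex.exactAt_single_obj _ _ _ _ hi))

end Groth.Agent.HTor49
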