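import Groth.Agent.HTor49.Tensor
import Mathlib.RingTheory.Flat.Basic

/-!
# The Künneth map, and its bijectivity against a complex of flat modules with zero differential
-/

set_option autoImplicit false
set_option linter.style.haveILetI false
set_option linter.style.longLine false
universe u

open CategoryTheory CategoryTheory.Limits MonoidalCategory HomologicalComplex
open scoped TensorProduct DirectSum
open Groth.Agent.DR39

namespace Groth.Agent.HTor49

variable {A : Type u} [CommRing A] {L M M' : DRing.Cx A}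

/-- A linear map which kills the kernel of a surjection descends along it. -/
noncomputable def descend {Z H N : Type u} [AddCommGroup Z] [Module A Z] [AddCommGroup H] [Module A H]
    [AddCommGroup N] [Module A N] (π : Z →ₗ[A] H) (hπ : Function.Surjective π) (f : Z →ₗ[A] N)
    (hk : LinearMap.ker π ≤ LinearMap.ker f) : H →ₗ[A] N :=
  (LinearMap.ker π).liftQ f hk ∘ₗ (π.quotKerEquivOfSurjective hπ).symm.toLinearMap

theorem descend_apply {Z H N : Type u} [AddCommGroup Z] [Module A Z] [AddCommGroup H] [Module A H]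
    [AddCommGroup N] [Module A N] (π : Z →ₗ[A] H) (hπ : Function.Surjective π) (f : Z →ₗ[A] N)
    (hk : LinearMap.ker π ≤ LinearMap.ker f) (z : Z) : descend π hπ f hk (π z) = f z := by
  rw [descend, LinearMap.comp_apply, LinearEquiv.coe_coe]
  rw [show (π.quotKerEquivOfSurjective hπ).symm (π z) = Submodule.Quotient.mk z from
    (LinearEquiv.symm_apply_eq _).2 rfl]
  rfl

/-- The tensor product of two cycles. -/
noncomputable def tmZ (L M : DRing.Cx A) (i j n : ℤ) (h : i + j = n) :
    Zd L i →ₗ[A] Zd M j →ₗ[A] Zd (HTor.tensorCx L M) n :=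
  LinearMap.mk₂ A
    (fun z z' => ⟨tm L M i j n h z.1 z'.1, by
      rw [LinearMap.mem_ker, d_tm i (i + 1) j (j + 1) n (n + 1) rfl rfl h rfl,
        LinearMap.mem_ker.1 z.2, LinearMap.mem_ker.1 z'.2]
      simp⟩)
    (fun _ _ _ => Subtype.ext (by simp))
    (fun _ _ _ => Subtype.ext (by simp))
    (fun _ _ _ => Subtype.ext (by simp))
    (fun _ _ _ => Subtype.ext (by simp))

theorem coe_tmZ (i j n : ℤ) (h : i + j = n) (z : Zd L i) (z' : Zd M j) :
    ((tmZ L M i j n h z z') : TX L M n) = tm L M i j n h z.1 z'.1 := rfl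

/-- The class of the product of two cycles. -/
noncomputable def kunZ (L M : DRing.Cx A) (i j n : ℤ) (h : i + j = n) :
    Zd L i →ₗ[A] Zd M j →ₗ[A] (HTor.tensorCx L M).homology n :=
  (tmZ L M i j n h).compr₂ (hcls (HTor.tensorCx L M) n)

theorem kunZ_left (i j n : ℤ) (h : i + j = n) :
    LinearMap.ker (hcls L i) ≤ LinearMap.ker (kunZ L M i j n h) := by
  intro z hz
  obtain ⟨y, hy⟩ := (hcls_eq_zero_iff L i z).1 hz
  refine LinearMap.mem_ker.2 (LinearMap.ext fun z' => ?_)
  refine (hcls_eq_zero_iff (HTor.tensorCx L M) n _).2 ⟨tm L M (i - 1) j (n - 1) (by omega) y z'.1, ?_⟩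
  rw [d_tm (i - 1) i j (j + 1) (n - 1) n (by omega) rfl (by omega) (by omega), hy,
    LinearMap.mem_ker.1 z'.2]
  simp [coe_tmZ]

theorem kunZ_right (i j n : ℤ) (h : i + j = n) (z : Zd L i) :
    LinearMap.ker (hcls M j) ≤ LinearMap.ker (kunZ L M i j n h z) := by
  intro z' hz'
  obtain ⟨y, hy⟩ := (hcls_eq_zero_iff M j z').1 hz'
  refine LinearMap.mem_ker.2 ((hcls_eq_zero_iff (HTor.tensorCx L M) n _).2
    ⟨i.negOnePow • tm L M i (j - 1) (n - 1) (by omega) z.1 y, ?_⟩)
  rw [Units.smul_def, map_zsmul, d_tm i (i + 1) (j - 1) j (n - 1) n rfl (by omega) (by omega) (by omega), hy,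
    LinearMap.mem_ker.1 z.2, map_zero, LinearMap.zero_apply, zero_add, Units.smul_def, smul_smul,
    ← Units.val_mul, ← Int.negOnePow_add, Int.negOnePow_even _ ⟨i, rfl⟩, Units.val_one, one_smul]
  rfl

/-- Künneth on a summand, from cycles in the second variable. -/
noncomputable def kunHZ (L M : DRing.Cx A) (i j n : ℤ) (h : i + j = n) :
    L.homology i →ₗ[A] Zd M j →ₗ[A] (HTor.tensorCx L M).homology n :=
  descend (hcls L i) (hcls_surjective L i) (kunZ L M i j n h) (kunZ_left i j n h)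

/-- Künneth on a summand. -/
noncomputable def kunH (L M : DRing.Cx A) (i j n : ℤ) (h : i + j = n) :
    L.homology i →ₗ[A] M.homology j →ₗ[A] (HTor.tensorCx L M).homology n :=
  (descend (hcls M j) (hcls_surjective M j) (kunHZ L M i j n h).flip (by
    intro z' hz'
    refine LinearMap.mem_ker.2 (LinearMap.ext fun a => ?_)
    obtain ⟨z, rfl⟩ := hcls_surjective L i a
    rw [LinearMap.flip_apply, kunHZ, descend_apply]
    exact LinearMap.mem_ker.1 (kunZ_right i j n h z hz'))).flip

theorem kunH_hcls (i j n : ℤ) (h : i + j = n) (z : Zd L i) (z' : Zd M j) :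
    kunH L M i j n h (hcls L i z) (hcls M j z') = hcls (HTor.tensorCx L M) n (tmZ L M i j n h z z') := by
  rw [kunH, LinearMap.flip_apply, descend_apply, LinearMap.flip_apply, kunHZ, descend_apply]
  rfl

/-- The Künneth map. -/
noncomputable def kun (L M : DRing.Cx A) (n : ℤ) :
    HTor.KunnethSum L M n →ₗ[A] (HTor.tensorCx L M).homology n :=
  DirectSum.toModule A (HTor.Antidiag n) _ fun ij =>
    TensorProduct.lift (kunH L M ij.1.1 ij.1.2 n ij.2)

theorem kun_lof (n : ℤ) (ij : HTor.Antidiag n) (z : Zd L ij.1.1) (z' : Zd M ij.1.2) :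
    kun L M n (DirectSum.lof A (HTor.Antidiag n) _ ij (hcls L ij.1.1 z ⊗ₜ[A] hcls M ij.1.2 z')) =
      hcls (HTor.tensorCx L M) n (tmZ L M ij.1.1 ij.1.2 n ij.2 z z') := by
  rw [kun, DirectSum.toModule_lof, TensorProduct.lift.tmul, kunH_hcls]

theorem isKunnethMap_kun (L M : DRing.Cx A) (n : ℤ) : HTor.IsKunnethMap L M n (kun L M n) := by
  intro ij z z' w hw
  obtain ⟨z₀, rfl⟩ := zcls_surjective L ij.1.1 z
  obtain ⟨z₀', rfl⟩ := zcls_surjective M ij.1.2 z'
  refine (kun_lof n ij z₀ z₀').trans (congrArg ((HTor.tensorCx L M).homologyπ n) ?_)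
  apply iCycles_injective
  refine (iCycles_zcls _ _ _).trans (Eq.trans ?_ hw.symm)
  rw [coe_tmZ, tm_apply]
  exact congrArg₂ (fun a m => (HomologicalComplex.ιTensorObj L M ij.1.1 ij.1.2 n ij.2).hom (a ⊗ₜ[A] m))
    (iCycles_zcls L _ z₀).symm (iCycles_zcls M _ z₀').symm

/-- The map of Künneth sums induced by maps in the second variable. -/
noncomputable def sumMap (L : DRing.Cx A) {N N' : ℤ → Type u} [∀ j, AddCommGroup (N j)] [∀ j, Module A (N j)]
    [∀ j, AddCommGroup (N' j)] [∀ j, Module A (N' j)] (f : ∀ j, N j →ₗ[A] N' j) (n : ℤ) :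
    (⨁ ij : HTor.Antidiag n, L.homology ij.1.1 ⊗[A] N ij.1.2) →ₗ[A]
      ⨁ ij : HTor.Antidiag n, L.homology ij.1.1 ⊗[A] N' ij.1.2 :=
  DFinsupp.mapRange.linearMap fun ij : HTor.Antidiag n => (f ij.1.2).lTensor (L.homology ij.1.1)

theorem sumMap_lof {N N' : ℤ → Type u} [∀ j, AddCommGroup (N j)] [∀ j, Module A (N j)]
    [∀ j, AddCommGroup (N' j)] [∀ j, Module A (N' j)] (f : ∀ j, N j →ₗ[A] N' j) (n : ℤ)
    (ij : HTor.Antidiag n) (x : L.homology ij.1.1 ⊗[A] N ij.1.2) :
    sumMap L f n (DirectSum.lof A (HTor.Antidiag n) (fun ij => L.homology ij.1.1 ⊗[A] N ij.1.2) ij x) =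
      DirectSum.lof A (HTor.Antidiag n) (fun ij => L.homology ij.1.1 ⊗[A] N' ij.1.2) ij
        ((f ij.1.2).lTensor (L.homology ij.1.1) x) :=
  (DFinsupp.mapRange_single (hf := fun _ => map_zero _)).trans rfl

theorem kun_natural (φ : M ⟶ M') (n : ℤ) :
    (HomologicalComplex.homologyMap (L ◁ φ) n).hom ∘ₗ kun L M n =
      kun L M' n ∘ₗ sumMap L (N := fun j => M.homology j) (N' := fun j => M'.homology j)
        (fun j => (HomologicalComplex.homologyMap φ j).hom) n := by
  refine DirectSum.linearMap_ext A fun ij => TensorProduct.ext' fun a b => ?_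
  obtain ⟨z, rfl⟩ := hcls_surjective L ij.1.1 a
  obtain ⟨z', rfl⟩ := hcls_surjective M ij.1.2 b
  simp only [LinearMap.comp_apply]
  rw [kun_lof, sumMap_lof, LinearMap.lTensor_tmul, DR39.homologyMap_hcls φ, kun_lof]
  refine (DR39.homologyMap_hcls (L ◁ φ) n _).trans (congrArg _ (Subtype.ext ?_))
  exact whiskerLeft_tm φ _ _ n ij.2 _ _

section ZeroDifferential

variable (G : DRing.Cx A) (hd : ∀ i j, G.d i j = 0)

include hd

theorem mem_Zd_of_zero (j : ℤ) (g : G.X j) : g ∈ Zd G j := by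
  rw [LinearMap.mem_ker, hd]; rfl

/-- Every element of a complex with zero differential is a cycle. -/
noncomputable def toZ (j : ℤ) : G.X j →ₗ[A] Zd G j :=
  LinearMap.id.codRestrict _ (mem_Zd_of_zero G hd j)

theorem qG_bijective (j : ℤ) : Function.Bijective (hcls G j ∘ₗ toZ G hd j) := by
  refine ⟨?_, fun c => ?_⟩
  · rw [injective_iff_map_eq_zero]
    intro g hg
    obtain ⟨y, hy⟩ := (hcls_eq_zero_iff G j _).1 hg
    exact hy.symm.trans (by rw [hd]; rfl)
  · obtain ⟨z, rfl⟩ := hcls_surjective G j c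
    exact ⟨z.1, rfl⟩

theorem co_d (i j n : ℤ) (h : i + j = n) (x : TX L G n) :
    co L G (i + 1) j (n + 1) (by omega) (((HTor.tensorCx L G).d n (n + 1)).hom x) =
      (L.d i (i + 1)).hom.rTensor (G.X j) (co L G i j n h x) := by
  induction x using tm_induction with
  | h0 => simp
  | hadd x y hx hy => simp only [map_add, hx, hy]
  | htm p q hpq a g =>
    rw [d_tm p (p + 1) q (q + 1) n (n + 1) rfl rfl hpq rfl]
    have hz : (G.d q (q + 1)).hom g = 0 := by rw [hd]; rfl
    rw [hz, map_zero, smul_zero, add_zero]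
    by_cases hp : p = i
    · subst hp
      obtain rfl : q = j := by omega
      rw [co_tm_self, co_tm_self, LinearMap.rTensor_tmul]
    · rw [co_tm_ne _ _ _ _ _ _ _ (by omega), co_tm_ne _ _ _ _ _ _ _ hp, map_zero]

/-- Cycles tensored with a term of `G` give cycles. -/
noncomputable def psi (L : DRing.Cx A) (n : ℤ) :
    (⨁ ij : HTor.Antidiag n, (Zd L ij.1.1) ⊗[A] G.X ij.1.2) →ₗ[A] Zd (HTor.tensorCx L G) n :=
  DirectSum.toModule A (HTor.Antidiag n) _ fun ij =>
    TensorProduct.lift ((tmZ L G ij.1.1 ij.1.2 n ij.2).compl₂ (toZ G hd ij.1.2))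

theorem coe_psi (n : ℤ) (w : ⨁ ij : HTor.Antidiag n, (Zd L ij.1.1) ⊗[A] G.X ij.1.2) :
    (psi G hd L n w : TX L G n) = glue L G n
      (DFinsupp.mapRange.linearMap (fun ij : HTor.Antidiag n =>
        (Zd L ij.1.1).subtype.rTensor (G.X ij.1.2)) w) := by
  refine LinearMap.congr_fun (f := (Zd (HTor.tensorCx L G) n).subtype ∘ₗ psi G hd L n)
    (g := glue L G n ∘ₗ DFinsupp.mapRange.linearMap (fun ij : HTor.Antidiag n =>
        (Zd L ij.1.1).subtype.rTensor (G.X ij.1.2))) ?_ w
  refine DirectSum.linearMap_ext A fun ij => TensorProduct.ext' fun z g => ?_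
  simp only [LinearMap.comp_apply]
  rw [psi, DirectSum.toModule_lof, TensorProduct.lift.tmul]
  refine Eq.symm ((congrArg (glue L G n)
    ((DFinsupp.mapRange_single (hf := fun _ => map_zero _)).trans rfl :
      _ = DirectSum.lof A (HTor.Antidiag n) (Summand L G n) ij (z.1 ⊗ₜ[A] g))).trans ?_)
  rw [glue_lof]
  rfl

variable (hflat : ∀ j, Module.Flat A (G.X j))
include hflat

theorem psi_surjective (n : ℤ) : Function.Surjective (psi G hd L n) := by
  intro x
  have key : ∀ ij : HTor.Antidiag n, ∃ w : (Zd L ij.1.1) ⊗[A] G.X ij.1.2,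
      (Zd L ij.1.1).subtype.rTensor (G.X ij.1.2) w = comps L G n x.1 ij := by
    intro ij
    haveI := hflat ij.1.2
    have hex : Function.Exact (Zd L ij.1.1).subtype (L.d ij.1.1 (ij.1.1 + 1)).hom :=
      LinearMap.exact_subtype_ker_map _
    refine ((Module.Flat.rTensor_exact (G.X ij.1.2) hex) _).1 ?_
    refine (co_d G hd ij.1.1 ij.1.2 n ij.2 x.1).symm.trans ?_
    rw [LinearMap.mem_ker.1 x.2, map_zero]
  classical
  choose w hw using key
  refine ⟨∑ ij ∈ DFinsupp.support (comps L G n x.1), DirectSum.lof A (HTor.Antidiag n) _ ij (w ij),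
    Subtype.ext ?_⟩
  rw [coe_psi, map_sum, map_sum]
  refine Eq.trans ?_
    ((congrArg (glue L G n) (DirectSum.sum_support_of (comps L G n x.1))).trans (glue_comps n x.1))
  rw [map_sum]
  refine Finset.sum_congr rfl fun ij _ => congrArg (glue L G n) ?_
  rw [← DirectSum.lof_eq_of A, ← hw ij]
  exact (DFinsupp.mapRange_single (hf := fun _ => map_zero _)).trans rfl

omit hflat in
theorem kun_psi (n : ℤ) (w : ⨁ ij : HTor.Antidiag n, (Zd L ij.1.1) ⊗[A] G.X ij.1.2) :
    hcls (HTor.tensorCx L G) n (psi G hd L n w) = kun L G n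
      (DFinsupp.mapRange.linearMap (fun ij : HTor.Antidiag n =>
        TensorProduct.map (hcls L ij.1.1) (hcls G ij.1.2 ∘ₗ toZ G hd ij.1.2)) w) := by
  refine LinearMap.congr_fun (f := hcls (HTor.tensorCx L G) n ∘ₗ psi G hd L n)
    (g := kun L G n ∘ₗ DFinsupp.mapRange.linearMap (fun ij : HTor.Antidiag n =>
        TensorProduct.map (hcls L ij.1.1) (hcls G ij.1.2 ∘ₗ toZ G hd ij.1.2))) ?_ w
  refine DirectSum.linearMap_ext A fun ij => TensorProduct.ext' fun z g => ?_
  simp only [LinearMap.comp_apply]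
  rw [psi, DirectSum.toModule_lof, TensorProduct.lift.tmul]
  refine Eq.symm ((congrArg (kun L G n)
    ((DFinsupp.mapRange_single (hf := fun _ => map_zero _)).trans rfl :
      _ = DirectSum.lof A (HTor.Antidiag n) (fun ij => L.homology ij.1.1 ⊗[A] G.homology ij.1.2) ij
        (hcls L ij.1.1 z ⊗ₜ[A] hcls G ij.1.2 (toZ G hd ij.1.2 g)))).trans ?_)
  rw [kun_lof]
  rfl

theorem kun_surjective_of_zero (n : ℤ) : Function.Surjective (kun L G n) := by
  intro c
  obtain ⟨x, rfl⟩ := hcls_surjective (HTor.tensorCx L G) n c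
  obtain ⟨w, rfl⟩ := psi_surjective G hd hflat n x
  exact ⟨_, (kun_psi G hd n w).symm⟩

theorem kun_injective_of_zero (n : ℤ) : Function.Injective (kun L G n) := by
  rw [injective_iff_map_eq_zero]
  intro t ht
  obtain ⟨w, rfl⟩ : ∃ w, DFinsupp.mapRange.linearMap (fun ij : HTor.Antidiag n =>
        TensorProduct.map (hcls L ij.1.1) (hcls G ij.1.2 ∘ₗ toZ G hd ij.1.2)) w = t :=
    (DFinsupp.mapRange_surjective _ (fun _ => map_zero _)).2 (fun ij =>
      TensorProduct.map_surjective (hcls_surjective L _) (qG_bijective G hd _).2) t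
  rw [← kun_psi G hd, hcls_eq_zero_iff, coe_psi] at ht
  obtain ⟨y, hy⟩ := ht
  refine DFinsupp.ext fun ij => ?_
  obtain ⟨⟨i, j⟩, hij⟩ := ij
  haveI := hflat j
  let dZ : L.X (i - 1) →ₗ[A] Zd L i :=
    (L.d (i - 1) i).hom.codRestrict _ fun a => LinearMap.mem_ker.2 (DR39.d_apply_d L _ _ _ a)
  have hco : co L G i j n hij (((HTor.tensorCx L G).d (n - 1) n).hom y) =
      (L.d (i - 1) i).hom.rTensor (G.X j) (co L G (i - 1) j (n - 1) (by omega) y) := by
    have aux : ∀ (i' : ℤ) (n' : ℤ) (hi : i - 1 + 1 = i') (hn : n - 1 + 1 = n') (hij' : i' + j = n'),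
        co L G i' j n' hij' (((HTor.tensorCx L G).d (n - 1) n').hom y) =
          (L.d (i - 1) i').hom.rTensor (G.X j) (co L G (i - 1) j (n - 1) (by omega) y) := by
      rintro i' n' rfl rfl hij'
      exact co_d G hd (i - 1) j (n - 1) _ y
    exact aux i n (by omega) (by omega) hij
  have hw : (Zd L i).subtype.rTensor (G.X j) (w ⟨(i, j), hij⟩) =
      (Zd L i).subtype.rTensor (G.X j) (dZ.rTensor (G.X j) (co L G (i - 1) j (n - 1) (by omega) y)) := by
    rw [← LinearMap.rTensor_comp_apply, LinearMap.subtype_comp_codRestrict, ← hco, hy]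
    have e : ∀ v : ⨁ ij : HTor.Antidiag n, Summand L G n ij,
        co L G i j n hij (glue L G n v) = v ⟨(i, j), hij⟩ := by
      intro v
      refine LinearMap.congr_fun (f := co L G i j n hij ∘ₗ glue L G n)
        (g := DirectSum.component A (HTor.Antidiag n) (Summand L G n) ⟨(i, j), hij⟩) ?_ v
      refine DirectSum.linearMap_ext A fun kl => TensorProduct.ext' fun a g => ?_
      simp only [LinearMap.comp_apply]
      rw [glue_lof]
      obtain ⟨⟨k, l⟩, hkl⟩ := kl
      by_cases hk : k = i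
      · subst hk
        obtain rfl : l = j := by omega
        exact (co_tm_self _ _ _ _ a g).trans
          (DirectSum.component.lof_self A (ι := HTor.Antidiag n) (M := Summand L G n) ⟨(k, l), hij⟩ (a ⊗ₜ[A] g)).symm
      · refine (co_tm_ne _ _ _ hij k l hkl hk a g).trans ?_
        rw [DirectSum.component.of, dif_neg (by rintro hh; exact hk (congrArg (fun t : HTor.Antidiag n => t.1.1) hh))]
    rw [e]
    rfl
  have hw' := Module.Flat.rTensor_preserves_injective_linearMap (M := G.X j) (Zd L i).subtype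
    Subtype.val_injective hw
  show TensorProduct.map (hcls L i) (hcls G j ∘ₗ toZ G hd j) (w ⟨(i, j), hij⟩) = 0
  rw [hw', ← LinearMap.comp_apply, LinearMap.map_comp_rTensor]
  rw [show hcls L i ∘ₗ dZ = 0 from LinearMap.ext fun a =>
    (hcls_eq_zero_iff L i _).2 ⟨a, rfl⟩, TensorProduct.map_zero_left, LinearMap.zero_apply]

end ZeroDifferential

end Groth.Agent.HTor49
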