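import Groth.Agent.HTor49.Acy
import Groth.Agent.Coh69.AffinePush
import Groth.Agent.Cx47.CechRes
import Groth.Agent.QCqs72.Basic
import Groth.Agent.QCPull72.Sections
import Groth.Agent.QC70.Colim
import Mathlib.AlgebraicGeometry.Morphisms.Separated

/-!
Quasi-coherent modules which are direct images from affine opens.
-/

set_option autoImplicit false
set_option backward.isDefEq.respectTransparency false
set_option backward.isDefEq.respectTransparency.types false
set_option synthInstance.maxHeartbeats 200000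
set_option linter.style.haveILetI false

noncomputable section

universe u

open CategoryTheory CategoryTheory.Limits Opposite AlgebraicGeometry TopologicalSpace

namespace Groth.Agent.HTor49

variable {X : Scheme.{u}}

/-- `M` is the direct image of its restriction to `W`. -/
def Loc (W : X.Opens) (M : X.Modules) : Prop :=
  ∀ V : X.Opens, Function.Bijective (Cx47.res M (inf_le_right : W ⊓ V ≤ V))

lemma res_bijective_of_eq (M : X.Modules) {V V' : X.Opens} (h : V' ≤ V) (e : V' = V) :
    Function.Bijective (Cx47.res M h) := by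
  subst e
  rw [show Cx47.res M h = id from funext (Cx47.res_self M h)]
  exact Function.bijective_id

lemma loc_top (M : X.Modules) : Loc ⊤ M := fun V => res_bijective_of_eq M _ (top_inf_eq V)

lemma loc_of_iso {W : X.Opens} {M N : X.Modules} (e : M ≅ N) (h : Loc W M) : Loc W N := fun V => by
  have hb : ∀ U : X.Opens, Function.Bijective (e.hom.app U) := fun U =>
    ConcreteCategory.bijective_of_isIso _
  refine (Function.Bijective.of_comp_iff (Cx47.res N _) (hb V)).1 ?_
  rw [show Cx47.res N (inf_le_right : W ⊓ V ≤ V) ∘ e.hom.app V = e.hom.app (W ⊓ V) ∘ Cx47.res M inf_le_right from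
    funext fun x => (Cx47.res_app e.hom _ x).symm]
  exact (hb _).comp (h V)

lemma loc_res_bijective {W : X.Opens} {M : X.Modules} (h : Loc W M) {V V' : X.Opens} (hle : V' ≤ V)
    (he : W ⊓ V ≤ V') : Function.Bijective (Cx47.res M hle) := by
  have h1 := h V
  have h2 := h V'
  have he' : W ⊓ V' = W ⊓ V := le_antisymm (inf_le_inf_left _ hle) (le_inf inf_le_left he)
  have h3 := res_bijective_of_eq M he'.le he'
  have hc : Cx47.res M (inf_le_right : W ⊓ V' ≤ V') ∘ Cx47.res M hle =
      Cx47.res M he'.le ∘ Cx47.res M (inf_le_right : W ⊓ V ≤ V) :=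
    funext fun x => by simp only [Function.comp, Cx47.res_res]
  refine (Function.Bijective.of_comp_iff' h2 (Cx47.res M hle)).1 ?_
  rw [hc]
  exact h3.comp h1

/-! ### Direct images of restrictions -/

variable (U : X.Opens)

/-- `M ⟶ j_* (M|_U)`. -/
abbrev jUnit : 𝟭 X.Modules ⟶ CechOX.pushRestr U := (Scheme.Modules.restrictAdjunction U.ι).unit

lemma image_preimage (V : X.Opens) : U.ι ''ᵁ (U.ι ⁻¹ᵁ V) = U ⊓ V := by
  rw [Scheme.Hom.image_preimage_eq_opensRange_inf, Scheme.Opens.opensRange_ι]

lemma jUnit_app_bijective {M : X.Modules} {V : X.Opens}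
    (h : ∀ hle : U.ι ''ᵁ (U.ι ⁻¹ᵁ V) ≤ V, Function.Bijective (Cx47.res M hle)) :
    Function.Bijective (((jUnit U).app M).app V) := by
  rw [Scheme.Modules.restrictAdjunction_unit_app_app]
  exact h (U.ι.image_preimage_le V)

lemma jUnit_app_bijective_of_le (M : X.Modules) {V : X.Opens} (h : V ≤ U) :
    Function.Bijective (((jUnit U).app M).app V) :=
  jUnit_app_bijective U fun hle => res_bijective_of_eq M hle ((image_preimage U V).trans (inf_eq_right.2 h))

lemma isIso_jUnit_of_loc {M : X.Modules} (h : Loc U M) : IsIso ((jUnit U).app M) := by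
  refine Scheme.Modules.Hom.isIso_iff_isIso_app.2 fun V => ?_
  exact (ConcreteCategory.isIso_iff_bijective _).2
    (jUnit_app_bijective U fun hle => loc_res_bijective h hle (image_preimage U V).ge)

/-- If `M` is local on `W`, then `j_*(M|_U)` is local on `W ⊓ U`. -/
lemma loc_pushRestr {W : X.Opens} {M : X.Modules} (h : Loc W M) :
    Loc (W ⊓ U) ((CechOX.pushRestr U).obj M) := fun V =>
  loc_res_bijective h (U.ι.image_mono (U.ι.preimage_mono (inf_le_right : W ⊓ U ⊓ V ≤ V))) (by
    rw [image_preimage, image_preimage]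
    exact le_inf (inf_le_right.trans inf_le_left) (le_inf (le_inf inf_le_left (inf_le_right.trans inf_le_left))
      (inf_le_right.trans inf_le_right)))

lemma loc_pushRestr_self (M : X.Modules) : Loc U ((CechOX.pushRestr U).obj M) := fun V =>
  res_bijective_of_eq M (U.ι.image_mono (U.ι.preimage_mono (inf_le_right : U ⊓ V ≤ V))) (by
    rw [image_preimage, image_preimage, ← inf_assoc, inf_idem])

variable [X.IsSeparated] {U}

lemma isAffineHom_ι (hU : IsAffineOpen U) : IsAffineHom U.ι :=
  ⟨fun V hV => (U.ι.isAffineOpen_iff_of_isOpenImmersion).1 (by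
    rw [image_preimage]
    exact hU.inf hV)⟩

lemma isQCoh_pushRestr (hU : IsAffineOpen U) (M : X.Modules) (hM : Coh.IsQCoh M) :
    Coh.IsQCoh ((CechOX.pushRestr U).obj M) := by
  haveI := hM
  haveI := isAffineHom_ι hU
  haveI : ((Scheme.Modules.restrictFunctor U.ι).obj M).IsQuasicoherent :=
    QC70.isQuasicoherent_of_iso ((Scheme.Modules.restrictFunctorIsoPullback U.ι).app M).symm
      (QCPull72.isQuasicoherent_pullback U.ι M)
  exact QCqs72.isQuasicoherent_pushforward (M := (Scheme.Modules.restrictFunctor U.ι).obj M) U.ι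

open Groth.Agent.Coh69 in
/-- Direct images from affine opens have no cohomology on opens meeting the affine in an affine. -/
lemma acyAt_of_loc {W : X.Opens} (hW : IsAffineOpen W) {M : X.Modules} (hM : Coh.IsQCoh M) (hl : Loc W M)
    {V : X.Opens} (hV : IsAffineOpen (W ⊓ V)) : AcyAt V M := by
  haveI := isIso_jUnit_of_loc W hl
  refine acyAt_of_iso (asIso ((jUnit W).app M)).symm fun k => ?_
  haveI := hM
  haveI := isAffineHom_ι hW
  let MW := (Scheme.Modules.restrictFunctor W.ι).obj M
  haveI : MW.IsQuasicoherent :=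
    QC70.isQuasicoherent_of_iso ((Scheme.Modules.restrictFunctorIsoPullback W.ι).app M).symm
      (QCPull72.isQuasicoherent_pullback W.ι M)
  obtain ⟨e⟩ := leray W.ι.base {V' | IsAffineOpen (X := X) V'} X.isBasis_affineOpens (Coh.toAb MW)
    (fun V' (hV' : IsAffineOpen (X := X) V') q =>
      qcoh_subsingleton_HE MW (V := W.ι ⁻¹ᵁ V') (hV'.preimage W.ι) q) (k + 1) V
  haveI : Subsingleton (HE (Coh.toAb MW) (k + 1) ((Opens.map W.ι.base).obj V)) :=
    qcoh_subsingleton_HE MW (V := W.ι ⁻¹ᵁ V)
      ((W.ι.isAffineOpen_iff_of_isOpenImmersion).1 (by rwa [image_preimage])) k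
  exact e.symm.toEquiv.subsingleton

/-! ### Finite sums of such modules -/

/-- Finite sums of quasi-coherent modules local on affine opens. -/
inductive Cls : X.Modules → Prop
  | zero {M : X.Modules} (h : IsZero M) : Cls M
  | loc {M : X.Modules} (W : X.Opens) (hW : IsAffineOpen W) (hM : Coh.IsQCoh M) (hl : Loc W M) : Cls M
  | biprod {M N : X.Modules} : Cls M → Cls N → Cls (M ⊞ N)
  | iso {M N : X.Modules} (e : M ≅ N) : Cls M → Cls N

omit [X.IsSeparated] in
lemma isQCoh_biprod {M N : X.Modules} (hM : Coh.IsQCoh M) (hN : Coh.IsQCoh N) : Coh.IsQCoh (M ⊞ N) :=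
  have : (ShortComplex.mk (biprod.inl : M ⟶ M ⊞ N) biprod.snd biprod.inl_snd).X₁.IsQuasicoherent := hM
  have : (ShortComplex.mk (biprod.inl : M ⟶ M ⊞ N) biprod.snd biprod.inl_snd).X₃.IsQuasicoherent := hN
  QC70.isQuasicoherent_X₂ _ (ShortComplex.Splitting.ofHasBinaryBiproduct M N).shortExact

omit [X.IsSeparated] in
lemma Cls.isQCoh {M : X.Modules} (h : Cls M) : Coh.IsQCoh M := by
  induction h with
  | zero h => exact QC70.isQuasicoherent_of_isZero h
  | loc _ _ hM _ => exact hM
  | @biprod M N _ _ h1 h2 => exact isQCoh_biprod h1 h2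
  | iso e _ h => exact QC70.isQuasicoherent_of_iso e h

lemma Cls.acyAt {M : X.Modules} (h : Cls M) {V : X.Opens}
    (hV : ∀ W : X.Opens, IsAffineOpen W → IsAffineOpen (W ⊓ V)) : AcyAt V M := by
  induction h with
  | @zero M h =>
    haveI : Injective M := h.injective
    exact acyAt_of_injective V M
  | loc W hW hM hl => exact acyAt_of_loc hW hM hl (hV W hW)
  | biprod _ _ h1 h2 => exact acyAt_biprod h1 h2
  | iso e _ h => exact acyAt_of_iso e h

lemma Cls.pushRestr (hU : IsAffineOpen U) {M : X.Modules} (h : Cls M) :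
    Cls ((CechOX.pushRestr U).obj M) := by
  induction h with
  | @zero M h => exact .zero (Functor.map_isZero _ h)
  | @loc M W hW hM hl => exact .loc (W ⊓ U) (hW.inf hU) (isQCoh_pushRestr hU M hM) (loc_pushRestr U hl)
  | @biprod M N _ _ h1 h2 =>
    haveI : PreservesBinaryBiproducts (CechOX.pushRestr U) := preservesBinaryBiproducts_of_preservesBiproducts _
    exact .iso ((CechOX.pushRestr U).mapBiprod M N).symm (.biprod h1 h2)
  | iso e _ h => exact .iso ((CechOX.pushRestr U).mapIso e) h

lemma cls_pushRestr_qcoh (hU : IsAffineOpen U) (M : X.Modules) (hM : Coh.IsQCoh M) :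
    Cls ((CechOX.pushRestr U).obj M) :=
  .loc U hU (isQCoh_pushRestr hU M hM) (loc_pushRestr_self U M)

end Groth.Agent.HTor49
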