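import Groth.Agent.HTor49.Acy
import Groth.Agent.CohDer42.KInj
import Groth.Agent.Mod48.KInjDerived
import Groth.Agent.Coh69.Grothendieck
import Groth.Prelude.Def_HTor
import Mathlib.Algebra.Homology.ShortComplex.ModuleCat

/-!
Derived global sections of complexes of acyclic quasi-coherent modules.
-/

set_option autoImplicit false
set_option backward.isDefEq.respectTransparency false
set_option backward.isDefEq.respectTransparency.types false
set_option synthInstance.maxHeartbeats 200000
set_option linter.style.haveILetI false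

noncomputable section

universe u

open CategoryTheory CategoryTheory.Limits Opposite AlgebraicGeometry TopologicalSpace

attribute [local instance] HasDerivedCategory.standard

namespace Groth.Agent.HTor49

open Groth.Agent.Mod48

variable {A : Type u} [CommRing A] {X : Scheme.{u}} (f : X ⟶ Spec (CommRingCat.of A))

/-- The preimage of the whole base. -/
abbrev topU : X.Opens := f ⁻¹ᵁ ⊤

lemma globalSectionsA_map_apply {M N : X.Modules} (φ : M ⟶ N) (x : (HTor.globalSectionsA f).obj M) :
    ((HTor.globalSectionsA f).map φ).hom x =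
      φ.app (topU f) (show Γ(M, topU f) from x) := rfl

lemma quasiIso_of_acyclic_cone {B : Type*} [Category* B] [Abelian B] {K L : CochainComplex B ℤ} (φ : K ⟶ L)
    (h : (CochainComplex.mappingCone φ).Acyclic) : QuasiIso φ := by
  refine (HomologicalComplex.mem_quasiIso_iff φ).1 ((HomotopyCategory.quotient_map_mem_quasiIso_iff φ).1 ?_)
  rw [HomotopyCategory.quasiIso_eq_trW_subcategoryAcyclic]
  exact ((HomotopyCategory.subcategoryAcyclic B).trW_iff_of_distinguished _
    (HomotopyCategory.mappingCone_triangleh_distinguished φ)).2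
    ((HomotopyCategory.quotient_obj_mem_subcategoryAcyclic_iff_acyclic _).2 h)

lemma acyclic_cone_of_quasiIso {B : Type*} [Category* B] [Abelian B] {K L : CochainComplex B ℤ} (φ : K ⟶ L)
    [QuasiIso φ] : (CochainComplex.mappingCone φ).Acyclic :=
  (HomotopyCategory.quotient_obj_mem_subcategoryAcyclic_iff_acyclic _).1
    (((HomotopyCategory.subcategoryAcyclic B).trW_iff_of_distinguished _
      (HomotopyCategory.mappingCone_triangleh_distinguished φ)).1 (by
        rw [← HomotopyCategory.quasiIso_eq_trW_subcategoryAcyclic]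
        exact (HomotopyCategory.quotient_map_mem_quasiIso_iff φ).2
          ((HomologicalComplex.mem_quasiIso_iff φ).2 inferInstance)))

/-- Acyclic sections give an acyclic complex of global sections. -/
lemma acyclic_globalSectionsA (C : CochainComplex X.Modules ℤ) (h : SecAcyclic (FV (topU f)) C) :
    (((HTor.globalSectionsA f).mapHomologicalComplex (ComplexShape.up ℤ)).obj C).Acyclic := fun m => by
  rw [HomologicalComplex.exactAt_iff' _ (m - 1) m (m + 1) (by simp) (by simp),
    ShortComplex.moduleCat_exact_iff]
  intro x hx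
  let s : Γ(C.X m, topU f) := x
  have hs : (C.d m (m + 1)).app (topU f) s = 0 := hx
  obtain ⟨b, hb⟩ := h m ((fvEquiv (topU f) _).symm s) ((fvEquiv (topU f) _).injective (by
    rw [fvEquiv_comp, Equiv.apply_symm_apply, hs]
    exact (freeOnEquiv_zero (O := X.sheaf) (topU f) (C.X (m + 1))).symm))
  refine ⟨fvEquiv (topU f) _ b, ?_⟩
  change (C.d (m - 1) m).app (topU f) (fvEquiv (topU f) (C.X (m - 1)) b) = s
  rw [← fvEquiv_comp, hb, Equiv.apply_symm_apply]

variable [QuasiCompact f] [QuasiSeparated f]

/-- The cone of a K-injective resolution, with injective terms, of a complex of acyclic quasi-coherent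
modules has acyclic global sections. -/
lemma secAcyclic_cone_global {P I : CochainComplex X.Modules ℤ} (r : P ⟶ I) [QuasiIso r] [I.IsKInjective]
    (hI : ∀ i, Injective (I.X i)) (hP : ∀ i, Coh.IsQCoh (P.X i)) (ha : ∀ i, AcyAt (topU f) (P.X i)) :
    SecAcyclic (FV (topU f)) (CochainComplex.mappingCone r) := by
  haveI : QuasiSeparatedSpace X := quasiSeparatedSpace_of_quasiSeparated f
  have hterm : ∀ (U : X.Opens), (∀ i, AcyAt U (P.X i)) → ∀ i, AcyAt U ((CochainComplex.mappingCone r).X i) :=
    fun U h i =>
      haveI := hI i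
      acyAt_of_iso (HomologicalComplex.homotopyCofiber.XIsoBiprod r i (i + 1) rfl).symm
        (acyAt_biprod (h (i + 1)) (acyAt_of_injective U (I.X i)))
  exact secAcyclic_qc (C := CochainComplex.mappingCone r) (acyclic_cone_of_quasiIso r)
    (fun V hV => ⟨secAcyclic_cone_affine r hP hV, hterm V fun i => acyAt_of_qcoh hV _ (hP i)⟩)
    (QuasiCompact.isCompact_preimage (f := f) _ (⊤ : (Spec (CommRingCat.of A)).Opens).2
      (isAffineOpen_top _).isCompact)
    (hterm _ ha)

/-- A complex of acyclic quasi-coherent modules computes derived global sections. -/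
theorem computes_of_acyclic [HTor.HasRΓA f] (P : CochainComplex X.Modules ℤ)
    (hP : ∀ i, Coh.IsQCoh (P.X i)) (ha : ∀ i, AcyAt (topU f) (P.X i)) :
    HTor.Computes f (((HTor.globalSectionsA f).mapHomologicalComplex (ComplexShape.up ℤ)).obj P)
      (DCoh.toD X P) := by
  obtain ⟨I, r, hI, hr, -, hinj⟩ := CohDer42.exists_kinjective_resolution (A := X.Modules) P
  haveI := hI
  haveI := hr
  let G := (HTor.globalSectionsA f).mapHomologicalComplex (ComplexShape.up ℤ)
  have hG : QuasiIso (G.map r) := quasiIso_of_acyclic_cone _ (fun i =>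
    ((HomologicalComplex.exactAt_iff_isZero_homology _ i).2
      (((HomologicalComplex.exactAt_iff_isZero_homology _ i).1
        (acyclic_globalSectionsA f _ (secAcyclic_cone_global f r hinj hP ha) i)).of_iso
        ((HomologicalComplex.homologyFunctor _ _ i).mapIso
          (CochainComplex.mappingCone.mapHomologicalComplexIso r (HTor.globalSectionsA f)).symm))))
  let α := (HTor.gammaAKh f).totalRightDerivedUnit DerivedCategory.Qh
    (HomotopyCategory.quasiIso X.Modules (ComplexShape.up ℤ))
  have hu : IsIso (α.app ((HomotopyCategory.quotient X.Modules (ComplexShape.up ℤ)).obj I)) :=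
    Mod48.isIso_unit_of_kInjective _ α (fun M =>
      let ⟨J, j, hJ, hj, _⟩ := CohDer42.exists_kinjective_resolution (A := X.Modules) M
      ⟨J, j, hJ, hj⟩) I hI
  have h1 : IsIso (DerivedCategory.Q.map (G.map r)) :=
    (DerivedCategory.isIso_Q_map_iff_quasiIso _ _).2 hG
  have h2 : IsIso (DerivedCategory.Q.map r) :=
    (DerivedCategory.isIso_Q_map_iff_quasiIso _ _).2 hr
  refine ⟨asIso (DerivedCategory.Q.map (G.map r)) ≪≫
    ((DerivedCategory.quotientCompQhIso (ModuleCat.{u} A)).app (G.obj I)).symm ≪≫
    DerivedCategory.Qh.mapIso (((HTor.globalSectionsA f).mapHomotopyCategoryFactors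
      (ComplexShape.up ℤ)).app I).symm ≪≫
    asIso (α.app ((HomotopyCategory.quotient X.Modules (ComplexShape.up ℤ)).obj I)) ≪≫
    (HTor.RΓA f).mapIso ((DerivedCategory.quotientCompQhIso X.Modules).app I ≪≫
      (asIso (DerivedCategory.Q.map r)).symm)⟩

end Groth.Agent.HTor49
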