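import Groth.Agent.HTor49.Loc
import Groth.Agent.HTor49.RGam
import Mathlib.Algebra.Homology.HomotopyCategory.DegreewiseSplit
import Mathlib.Algebra.Homology.HomotopyCategory.MappingCocone

/-!
Bounded resolutions by finite sums of direct images from affine opens.
-/

set_option autoImplicit false
set_option backward.isDefEq.respectTransparency false
set_option backward.isDefEq.respectTransparency.types false
set_option synthInstance.maxHeartbeats 200000
set_option linter.style.haveILetI false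

noncomputable section

attribute [local instance] HasDerivedCategory.standard

open CategoryTheory CategoryTheory.Limits Opposite AlgebraicGeometry TopologicalSpace HomologicalComplex

namespace Groth.Agent.HTor49

open Groth.Agent.Mod48

section Abstract

universe w v

variable {B : Type w} [Category.{v} B] [Abelian B] {T : B} {K L : CochainComplex B ℤ}

lemma secAcyclic_shift (h : SecAcyclic T K) (n : ℤ) : SecAcyclic T (K⟦n⟧) := by
  intro m c hc
  have key : ∀ (k j l : ℤ) (hj : j + 1 = k) (hl : k + 1 = l) (c : T ⟶ K.X k), c ≫ K.d k l = 0 →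
      ∃ b : T ⟶ K.X j, b ≫ K.d j k = c := by
    intro k j l hj hl c hc
    obtain rfl : l = k + 1 := hl.symm
    obtain rfl : j = k - 1 := by omega
    exact h k c hc
  have hc' : c ≫ K.d (m + n) (m + 1 + n) = 0 := by
    have h' : c ≫ (n.negOnePow • K.d (m + n) (m + 1 + n)) = 0 := hc
    rw [Linear.comp_units_smul] at h'
    exact (smul_eq_zero_iff_eq _).1 h'
  obtain ⟨b, hb⟩ := key (m + n) (m - 1 + n) (m + 1 + n) (by omega) (by omega) c hc'
  refine ⟨n.negOnePow • b, ?_⟩
  change (n.negOnePow • b) ≫ (n.negOnePow • K.d (m - 1 + n) (m + n)) = c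
  rw [Linear.units_smul_comp, Linear.comp_units_smul, smul_smul, Int.units_mul_self, one_smul, hb]

variable (φ : K ⟶ L)

lemma secAcyclic_cone_of_bijective (h : ∀ m, Function.Bijective fun a : T ⟶ K.X m => a ≫ φ.f m) :
    SecAcyclic T (CochainComplex.mappingCone φ) := by
  refine secAcyclic_cone φ ?_ ?_
  · rintro m c hc ⟨b, hb⟩
    obtain ⟨b', hb'⟩ := (h (m - 1)).2 b
    exact ⟨b', (h m).1 (by simp only [Category.assoc, ← φ.comm, reassoc_of% hb', hb])⟩
  · intro m c' hc'
    obtain ⟨c, rfl⟩ := (h m).2 c'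
    refine ⟨c, (h (m + 1)).1 ?_, 0, by simp⟩
    simp only [Category.assoc, zero_comp] at hc' ⊢
    rwa [← φ.comm]

lemma secAcyclic_cone_of_secAcyclic (hK : SecAcyclic T K) (hL : SecAcyclic T L) :
    SecAcyclic T (CochainComplex.mappingCone φ) :=
  secAcyclic_cone φ (fun m c hc _ => hK m c hc) (fun m c' hc' => by
    obtain ⟨b, hb⟩ := hL m c' hc'
    exact ⟨0, zero_comp, -b, by rw [Preadditive.neg_comp, hb, zero_comp, zero_sub]⟩)

/-- The terms of a cocone. -/
def coconeXIso (p q : ℤ) (hpq : p + -1 = q) :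
    (CochainComplex.mappingCocone φ).X p ≅ K.X p ⊞ L.X q where
  hom := biprod.lift ((CochainComplex.mappingCocone.fst φ).f p)
    ((CochainComplex.mappingCocone.snd φ).v p q hpq)
  inv := biprod.desc ((CochainComplex.mappingCocone.inl φ).v p p (add_zero p))
    ((CochainComplex.mappingCocone.inr φ).1.v q p (by omega))
  hom_inv_id := by rw [biprod.lift_desc, CochainComplex.mappingCocone.id_X]
  inv_hom_id := by apply biprod.hom_ext' <;> apply biprod.hom_ext <;> simp

/-- The kernel of a projection followed by a morphism. -/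
def kernelFstComp {M N W Z : B} (e : W ≅ M ⊞ Z) (g : M ⟶ N) :
    kernel (e.hom ≫ biprod.fst ≫ g) ≅ kernel g ⊞ Z where
  hom := biprod.lift (kernel.lift g (kernel.ι _ ≫ e.hom ≫ biprod.fst) (by
      simp [kernel.condition (e.hom ≫ biprod.fst ≫ g)])) (kernel.ι _ ≫ e.hom ≫ biprod.snd)
  inv := kernel.lift _ (biprod.map (kernel.ι g) (𝟙 Z) ≫ e.inv) (by simp)
  hom_inv_id := by
    rw [← cancel_mono (kernel.ι _), ← cancel_mono e.hom]
    apply biprod.hom_ext <;> simp
  inv_hom_id := by
    apply biprod.hom_ext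
    · rw [← cancel_mono (kernel.ι g)]
      simp
    · simp

/-- A split epimorphism. -/
def isoKernelBiprod {M N : B} (g : M ⟶ N) (s : N ⟶ M) (hs : s ≫ g = 𝟙 N) : M ≅ kernel g ⊞ N where
  hom := biprod.lift (kernel.lift g (𝟙 M - g ≫ s) (by simp [hs])) g
  inv := biprod.desc (kernel.ι g) s
  hom_inv_id := by simp
  inv_hom_id := by
    apply biprod.hom_ext' <;> apply biprod.hom_ext <;>
      (try rw [← cancel_mono (kernel.ι g)]) <;> simp [reassoc_of% hs, hs]

end Abstract

universe u

variable {X : Scheme.{u}}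

/-- A property of modules stable under sums and direct images from affine opens. -/
structure Stab (Q : X.Modules → Prop) : Prop where
  zero : ∀ M, IsZero M → Q M
  biprod : ∀ M N, Q M → Q N → Q (M ⊞ N)
  iso : ∀ M N, (M ≅ N) → Q M → Q N
  push : ∀ (U : X.Opens) (M : X.Modules), IsAffineOpen U → Q M → Q ((CechOX.pushRestr U).obj M)

/-- An augmentation over `P` which is degreewise split with kernel made of direct images from affine opens,
acyclic on affine opens inside the members of a family. -/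
structure Aug (P : CochainComplex X.Modules ℤ) (a b : ℤ) (S : Set X.Opens) where
  C : CochainComplex X.Modules ℤ
  g : C ⟶ P
  s : ∀ n, P.X n ⟶ C.X n
  hs : ∀ n, s n ≫ g.f n = 𝟙 _
  cls : ∀ n, Cls (kernel (g.f n))
  stab : ∀ Q : X.Modules → Prop, Stab Q → (∀ n, Q (P.X n)) → ∀ n, Q (kernel (g.f n))
  below : (∀ n, n < a → IsZero (P.X n)) → ∀ n, n ≤ a → IsZero (kernel (g.f n))
  above : ∀ n, b < n → IsZero (kernel (g.f n))
  acy : ∀ U ∈ S, ∀ V : X.Opens, IsAffineOpen V → V ≤ U → SecAcyclic (FV V) C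

/-- Direct image of the restriction of a complex. -/
abbrev jCx (U : X.Opens) (C : CochainComplex X.Modules ℤ) : CochainComplex X.Modules ℤ :=
  ((CechOX.pushRestr U).mapHomologicalComplex (ComplexShape.up ℤ)).obj C

/-- The unit for complexes. -/
abbrev jCxUnit (U : X.Opens) (C : CochainComplex X.Modules ℤ) : C ⟶ jCx U C where
  f n := (jUnit U).app (C.X n)
  comm' i j _ := ((jUnit U).naturality (C.d i j)).symm

lemma comp_jUnit_bijective {U V : X.Opens} (h : V ≤ U) (M : X.Modules) :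
    Function.Bijective fun a : FV V ⟶ M => a ≫ (jUnit U).app M := by
  have : (fun a : FV V ⟶ M => a ≫ (jUnit U).app M) =
      (fvEquiv V _).symm ∘ ((jUnit U).app M).app V ∘ fvEquiv V M :=
    funext fun a => (fvEquiv V _).injective ((fvEquiv_comp a _).trans ((fvEquiv V _).apply_symm_apply _).symm)
  rw [this]
  exact (fvEquiv V _).symm.bijective.comp ((jUnit_app_bijective_of_le U M h).comp (fvEquiv V M).bijective)

lemma app_fvEquiv_jCx {U V : X.Opens} (C : CochainComplex X.Modules ℤ)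
    (h : SecAcyclic (FV (U.ι ''ᵁ (U.ι ⁻¹ᵁ V))) C) : SecAcyclic (FV V) (jCx U C) := by
  intro m c hc
  let V' := U.ι ''ᵁ (U.ι ⁻¹ᵁ V)
  let x : Γ(C.X m, V') := fvEquiv V ((jCx U C).X m) c
  have hx : (C.d m (m + 1)).app V' x = 0 := by
    have := congrArg (fvEquiv V ((jCx U C).X (m + 1))) hc
    rw [fvEquiv_comp] at this
    exact this.trans (freeOnEquiv_zero (O := X.sheaf) V ((jCx U C).X (m + 1)))
  obtain ⟨b, hb⟩ := h m ((fvEquiv V' _).symm x) ((fvEquiv V' _).injective (by
    rw [fvEquiv_comp, Equiv.apply_symm_apply, hx]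
    exact (freeOnEquiv_zero (O := X.sheaf) V' (C.X (m + 1))).symm))
  refine ⟨(fvEquiv V ((jCx U C).X (m - 1))).symm (fvEquiv V' (C.X (m - 1)) b), (fvEquiv V _).injective ?_⟩
  rw [fvEquiv_comp, Equiv.apply_symm_apply]
  have := congrArg (fvEquiv V' (C.X m)) hb
  rw [fvEquiv_comp, Equiv.apply_symm_apply] at this
  exact this

variable [X.IsSeparated] {P : CochainComplex X.Modules ℤ} {a b : ℤ} {S : Set X.Opens}

/-- One more open in the covering. -/
def Aug.step (R : Aug P a b S) (hq : ∀ n, Coh.IsQCoh (P.X n))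
    (hb : ∀ n, b < n → IsZero (kernel (R.g.f n)) ∧ IsZero (P.X n)) {U : X.Opens} (hU : IsAffineOpen U) :
    Aug P a (b + 1) (insert U S) where
  C := CochainComplex.mappingCocone (jCxUnit U R.C)
  g := CochainComplex.mappingCocone.fst _ ≫ R.g
  s n := R.s n ≫ (CochainComplex.mappingCocone.inl (jCxUnit U R.C)).v n n (add_zero n)
  hs n := by simp [R.hs n]
  cls n := by
    have e0 : (CochainComplex.mappingCocone.fst (jCxUnit U R.C) ≫ R.g).f n =
        (coconeXIso (jCxUnit U R.C) n (n + -1) rfl).hom ≫ biprod.fst ≫ R.g.f n := by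
      simp [coconeXIso]
    refine .iso (kernelIsoOfEq e0 ≪≫ kernelFstComp (coconeXIso _ n (n + -1) rfl) (R.g.f n)).symm
      (.biprod (R.cls n) ?_)
    haveI : PreservesBinaryBiproducts (CechOX.pushRestr U) :=
      preservesBinaryBiproducts_of_preservesBiproducts _
    exact .iso (((CechOX.pushRestr U).mapIso (isoKernelBiprod _ _ (R.hs (n + -1)))) ≪≫
      (CechOX.pushRestr U).mapBiprod _ _).symm
      (.biprod ((R.cls (n + -1)).pushRestr hU) (cls_pushRestr_qcoh hU _ (hq _)))
  stab Q hQ hP n := by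
    have e0 : (CochainComplex.mappingCocone.fst (jCxUnit U R.C) ≫ R.g).f n =
        (coconeXIso (jCxUnit U R.C) n (n + -1) rfl).hom ≫ biprod.fst ≫ R.g.f n := by
      simp [coconeXIso]
    refine hQ.iso _ _ (kernelIsoOfEq e0 ≪≫ kernelFstComp (coconeXIso _ n (n + -1) rfl) (R.g.f n)).symm
      (hQ.biprod _ _ (R.stab Q hQ hP n) ?_)
    exact hQ.push U _ hU (hQ.iso _ _ (isoKernelBiprod _ _ (R.hs (n + -1))).symm
      (hQ.biprod _ _ (R.stab Q hQ hP _) (hP _)))
  below ha n hn := by
    have e0 : (CochainComplex.mappingCocone.fst (jCxUnit U R.C) ≫ R.g).f n =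
        (coconeXIso (jCxUnit U R.C) n (n + -1) rfl).hom ≫ biprod.fst ≫ R.g.f n := by
      simp [coconeXIso]
    refine (biprod_isZero_iff _ _ |>.2 ⟨R.below ha n hn, ?_⟩).of_iso
      (kernelIsoOfEq e0 ≪≫ kernelFstComp (coconeXIso _ n (n + -1) rfl) (R.g.f n))
    exact Functor.map_isZero (CechOX.pushRestr U) ((biprod_isZero_iff _ _ |>.2 ⟨R.below ha _ (by omega), ha _ (by omega)⟩).of_iso
      (isoKernelBiprod _ _ (R.hs (n + -1))))
  above n hn := by
    have e0 : (CochainComplex.mappingCocone.fst (jCxUnit U R.C) ≫ R.g).f n =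
        (coconeXIso (jCxUnit U R.C) n (n + -1) rfl).hom ≫ biprod.fst ≫ R.g.f n := by
      simp [coconeXIso]
    refine (biprod_isZero_iff _ _ |>.2 ⟨(hb n (by omega)).1, ?_⟩).of_iso
      (kernelIsoOfEq e0 ≪≫ kernelFstComp (coconeXIso _ n (n + -1) rfl) (R.g.f n))
    exact Functor.map_isZero (CechOX.pushRestr U) ((biprod_isZero_iff _ _ |>.2 (hb _ (by omega))).of_iso
      (isoKernelBiprod _ _ (R.hs (n + -1))))
  acy U' hU' V hV hle := by
    refine secAcyclic_shift ?_ (-1)
    rcases hU' with rfl | hU'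
    · exact secAcyclic_cone_of_bijective _ fun m => comp_jUnit_bijective hle _
    · exact secAcyclic_cone_of_secAcyclic _ (R.acy U' hU' V hV hle)
        (app_fvEquiv_jCx R.C (R.acy U' hU' _ (by rw [image_preimage]; exact hU.inf hV)
          ((U.ι.image_preimage_le V).trans hle)))

/-- The trivial augmentation. -/
def Aug.triv (P : CochainComplex X.Modules ℤ) (a b : ℤ) : Aug P a b ∅ where
  C := P
  g := 𝟙 P
  s _ := 𝟙 _
  hs _ := by simp
  cls n := .zero (isZero_kernel_of_mono _)
  stab _ hQ _ _ := hQ.zero _ (isZero_kernel_of_mono _)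
  below _ n _ := isZero_kernel_of_mono _
  above n _ := isZero_kernel_of_mono _
  acy _ h := h.elim

lemma exists_aug (hq : ∀ n, Coh.IsQCoh (P.X n))
    (hb : ∀ n, b < n → IsZero (P.X n)) (U : ℕ → X.Opens) (hU : ∀ i, IsAffineOpen (U i)) :
    ∀ k : ℕ, Nonempty (Aug P a (b + k) (U '' {i | i < k}))
  | 0 => ⟨by simpa using Aug.triv P a b⟩
  | k + 1 => by
    obtain ⟨R⟩ := exists_aug hq hb U hU k
    have := R.step hq (fun n hn => ⟨R.above n hn, hb n (by omega)⟩) (hU k)
    have he : insert (U k) (U '' {i | i < k}) = U '' {i | i < k + 1} := by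
      rw [← Set.image_insert_eq]
      congr 1
      ext i
      simp only [Set.mem_insert_iff, Set.mem_ofPred_eq]
      omega
    rw [← he, show (b : ℤ) + ((k + 1 : ℕ) : ℤ) = b + k + 1 by omega]
    exact ⟨this⟩

omit [X.IsSeparated] in
lemma acyclic_of_affine (C : CochainComplex X.Modules ℤ)
    (h : ∀ x : X, ∃ U : X.Opens, x ∈ U ∧ ∀ V : X.Opens, IsAffineOpen V → V ≤ U → SecAcyclic (FV V) C) :
    C.Acyclic := fun m => by
  rw [HomologicalComplex.exactAt_iff' _ (m - 1) m (m + 1) (by simp) (by simp)]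
  refine Cx47.exact_of_locally _ _ _ fun W t ht z => ?_
  obtain ⟨U, hzU, hU⟩ := h z.1
  obtain ⟨O, hO, hzO, hOle⟩ := exists_isAffineOpen_mem_and_subset (x := z.1) (U := W ⊓ U) ⟨z.2, hzU⟩
  have hOW : O ≤ W := fun y hy => (hOle hy).1
  have hOU : O ≤ U := fun y hy => (hOle hy).2
  have ht' : (C.d m (m + 1)).app O (Cx47.res _ hOW t) = 0 := by
    rw [Cx47.res_app, ht]; exact map_zero _
  obtain ⟨c, hc⟩ := hU O hO hOU m ((fvEquiv O _).symm (Cx47.res _ hOW t)) ((fvEquiv O _).injective (by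
    rw [fvEquiv_comp, Equiv.apply_symm_apply, ht']
    exact (freeOnEquiv_zero (O := X.sheaf) O (C.X (m + 1))).symm))
  refine ⟨O, hOW, hzO, fvEquiv O (C.X (m - 1)) c, ?_⟩
  have := congrArg (fvEquiv O (C.X m)) hc
  rw [fvEquiv_comp, Equiv.apply_symm_apply] at this
  exact this

/-- A bounded complex of quasi-coherent modules on a separated scheme has a resolution by finite sums of
direct images from affine opens. -/
theorem exists_resolution (hq : ∀ n, Coh.IsQCoh (P.X n)) (N : ℕ) (U : Fin (N + 1) → X.Opens)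
    (hU : ∀ i, IsAffineOpen (U i)) (hcov : ⨆ i, U i = ⊤)
    (hb : ∀ n, b < n → IsZero (P.X n)) (a : ℤ) :
    ∃ (T : CochainComplex X.Modules ℤ) (η : P ⟶ T), QuasiIso η ∧ (∀ n, Cls (T.X n)) ∧
      ((∀ n, n < a → IsZero (P.X n)) → ∀ n, n < a → IsZero (T.X n)) ∧ (∀ n, b + N < n → IsZero (T.X n)) ∧
      ∀ Q : X.Modules → Prop, Stab Q → (∀ n, Q (P.X n)) → ∀ n, Q (T.X n) := by
  let U' : ℕ → X.Opens := fun i => U (Fin.ofNat (N + 1) i)
  obtain ⟨R⟩ := exists_aug (a := a) hq hb U' (fun i => hU _) (N + 1)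
  have hC : R.C.Acyclic := acyclic_of_affine _ fun x => by
    obtain ⟨i, hi⟩ := TopologicalSpace.Opens.mem_iSup.1 (show x ∈ ⨆ i, U i by rw [hcov]; trivial)
    refine ⟨U i, hi, R.acy (U i) ⟨i.1, i.2, ?_⟩⟩
    simp [U', Fin.ofNat_eq_cast]
  let Sc : ShortComplex (CochainComplex X.Modules ℤ) := ShortComplex.mk (kernel.ι R.g) R.g (kernel.condition _)
  let e : ∀ n, Sc.X₁.X n ≅ kernel (R.g.f n) := fun n =>
    PreservesKernel.iso (HomologicalComplex.eval X.Modules (ComplexShape.up ℤ) n) R.g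
  have hex : ∀ n, (Sc.map (HomologicalComplex.eval X.Modules (ComplexShape.up ℤ) n)).Exact := fun n =>
    ShortComplex.exact_of_f_is_kernel _
      (KernelFork.mapIsLimit _ (kernelIsKernel R.g) (HomologicalComplex.eval X.Modules (ComplexShape.up ℤ) n))
  let σ : ∀ n, (Sc.map (HomologicalComplex.eval X.Modules (ComplexShape.up ℤ) n)).Splitting := fun n =>
    ShortComplex.Splitting.ofExactOfSection _ (hex n) (R.s n) (R.hs n)
      (inferInstanceAs (Mono ((HomologicalComplex.eval X.Modules (ComplexShape.up ℤ) n).map (kernel.ι R.g))))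
  refine ⟨Sc.X₁⟦(1 : ℤ)⟧, CochainComplex.homOfDegreewiseSplit Sc σ, ?_, fun n => ?_, fun ha n hn => ?_,
    fun n hn => ?_, fun Q hQ hP n => hQ.iso _ _ (e (n + 1)).symm (R.stab Q hQ hP (n + 1))⟩
  · refine quasiIso_of_acyclic_cone _ fun n => ?_
    refine (HomologicalComplex.exactAt_iff_isZero_homology _ n).2 ?_
    refine IsZero.of_iso ?_ ((HomologicalComplex.homologyFunctor _ _ n).mapIso
      (CochainComplex.mappingConeHomOfDegreewiseSplitIso Sc σ))
    exact ((HomologicalComplex.exactAt_iff_isZero_homology _ (1 + n)).1 (hC (1 + n))).of_iso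
      (((HomologicalComplex.homologyFunctor X.Modules (ComplexShape.up ℤ) 0).shiftIso 1 n (1 + n) rfl).app R.C)
  · exact .iso (e (n + 1)).symm (R.cls _)
  · exact (R.below ha (n + 1) (by omega)).of_iso (e (n + 1))
  · exact (R.above (n + 1) (by omega)).of_iso (e (n + 1))

variable {A : Type u} [CommRing A]

omit [X.IsSeparated] in
lemma isSeparated_of_over (f : X ⟶ Spec (CommRingCat.of A)) [IsSeparated f] : X.IsSeparated :=
  ⟨by rw [← terminal.comp_from f]; infer_instance⟩

omit [X.IsSeparated] in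
/-- Derived global sections are computed by a bounded complex of sections. -/
theorem exists_computes_sections (f : X ⟶ Spec (CommRingCat.of A)) [QuasiCompact f] [IsSeparated f]
    [HTor.HasRΓA f] (hq : ∀ n, Coh.IsQCoh (P.X n)) (N : ℕ) (U : Fin (N + 1) → X.Opens)
    (hU : ∀ i, IsAffineOpen (U i)) (hcov : ⨆ i, U i = ⊤) (hb : ∀ n, b < n → IsZero (P.X n)) (a : ℤ) :
    ∃ (T : CochainComplex X.Modules ℤ) (η : P ⟶ T), QuasiIso η ∧ (∀ n, Cls (T.X n)) ∧
      ((∀ n, n < a → IsZero (P.X n)) → ∀ n, n < a → IsZero (T.X n)) ∧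
      (∀ n, b + N < n → IsZero (T.X n)) ∧
      (∀ Q : X.Modules → Prop, Stab Q → (∀ n, Q (P.X n)) → ∀ n, Q (T.X n)) ∧
      HTor.Computes f (((HTor.globalSectionsA f).mapHomologicalComplex (ComplexShape.up ℤ)).obj T)
        (DCoh.toD X P) := by
  haveI := isSeparated_of_over f
  obtain ⟨T, η, hη, hT, hTa, hTb, hTs⟩ := exists_resolution hq N U hU hcov hb a
  haveI := hη
  haveI : IsIso (DerivedCategory.Q.map η) := (DerivedCategory.isIso_Q_map_iff_quasiIso _ _).2 hη
  obtain ⟨e⟩ := computes_of_acyclic f T (fun n => (hT n).isQCoh) fun n => (hT n).acyAt fun W hW => by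
    rw [show topU f = ⊤ from rfl, inf_top_eq]; exact hW
  exact ⟨T, η, hη, hT, hTa, hTb, hTs, ⟨e ≪≫ (HTor.RΓA f).mapIso (asIso (DerivedCategory.Q.map η)).symm⟩⟩

end Groth.Agent.HTor49
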