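import Groth.Agent.HTor49.Kunneth

/-!
# One step of a resolution of a complex by complexes of flat modules with zero differential
-/

set_option autoImplicit false
set_option linter.style.haveILetI false
set_option linter.style.longLine false
set_option linter.unusedSectionVars false
universe u

open CategoryTheory CategoryTheory.Limits MonoidalCategory HomologicalComplex
open scoped TensorProduct DirectSum
open Groth.Agent.DR39

namespace Groth.Agent.HTor49

variable {A : Type u} [CommRing A] (L M : DRing.Cx A) (Gs : ℤ → ModuleCat.{u} A)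
  (π : ∀ i i' : ℤ, i + 1 = i' → (Gs i →ₗ[A] Zd M i'))

/-- A graded module as a complex with zero differential. -/
noncomputable def gcx : DRing.Cx A where
  X := Gs
  d _ _ := 0
  shape _ _ _ := rfl
  d_comp_d' _ _ _ _ _ := comp_zero

theorem gcx_d (i j : ℤ) : (gcx Gs).d i j = 0 := rfl

/-- The differential of the extension. -/
noncomputable def extD (i i' : ℤ) (h : i + 1 = i') : (M.X i × Gs i) →ₗ[A] M.X i' × Gs i' :=
  LinearMap.inl A (M.X i') (Gs i') ∘ₗ
    ((M.d i i').hom ∘ₗ LinearMap.fst A (M.X i) (Gs i) +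
      (Zd M i').subtype ∘ₗ π i i' h ∘ₗ LinearMap.snd A (M.X i) (Gs i))

/-- The extension of the zero-differential complex by `M`. -/
noncomputable def ext' : DRing.Cx A where
  X j := ModuleCat.of A (M.X j × Gs j)
  d i i' := if h : i + 1 = i' then ModuleCat.ofHom (extD M Gs π i i' h) else 0
  shape i i' h := dif_neg (fun hh => h hh)
  d_comp_d' i j k hij hjk := by
    change i + 1 = j at hij
    change j + 1 = k at hjk
    rw [dif_pos hij, dif_pos hjk]
    refine ModuleCat.hom_ext (LinearMap.ext fun x => Prod.ext ?_ rfl)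
    show (M.d j k).hom ((M.d i j).hom x.1 + (π i j hij x.2).1) + (π j k hjk 0).1 = 0
    subst hjk
    rw [map_add, DR39.d_apply_d, LinearMap.mem_ker.1 (π i j hij x.2).2, map_zero]
    simp

theorem ext'_d_apply (i i' : ℤ) (h : i + 1 = i') (x : M.X i × Gs i) :
    ((ext' M Gs π).d i i').hom x = ((M.d i i').hom x.1 + (π i i' h x.2).1, 0) := by
  show (if hh : i + 1 = i' then ModuleCat.ofHom (extD M Gs π i i' hh) else 0).hom x = _
  rw [dif_pos h]
  rfl

/-- The inclusion of `M`. -/
noncomputable def inclM : M ⟶ ext' M Gs π where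
  f j := ModuleCat.ofHom (LinearMap.inl A (M.X j) (Gs j))
  comm' i i' h := by
    refine ModuleCat.hom_ext (LinearMap.ext fun m => ?_)
    refine (ext'_d_apply M Gs π i i' h _).trans (Prod.ext ?_ rfl)
    show (M.d i i').hom m + (π i i' h 0).1 = (M.d i i').hom m
    rw [map_zero]
    exact add_zero _

/-- The projection to the zero-differential complex. -/
noncomputable def projG : ext' M Gs π ⟶ gcx Gs where
  f j := ModuleCat.ofHom (LinearMap.snd A (M.X j) (Gs j))
  comm' i i' h := by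
    refine ModuleCat.hom_ext (LinearMap.ext fun x => ?_)
    show (0 : Gs i') = (((ext' M Gs π).d i i').hom x).2
    rw [ext'_d_apply M Gs π i i' h]

/-- The boundary in homology. -/
noncomputable def bd (i i' : ℤ) (h : i + 1 = i') : Gs i →ₗ[A] M.homology i' :=
  hcls M i' ∘ₗ π i i' h

/-- The graded module is the homology of the zero-differential complex. -/
noncomputable def qG (j : ℤ) : Gs j ≃ₗ[A] (gcx Gs).homology j :=
  LinearEquiv.ofBijective (hcls (gcx Gs) j ∘ₗ toZ (gcx Gs) (gcx_d Gs) j) (qG_bijective (gcx Gs) (gcx_d Gs) j)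

/-- The homology of the extension maps to the graded module. -/
noncomputable def eG (j : ℤ) : (ext' M Gs π).homology j →ₗ[A] Gs j :=
  (qG Gs j).symm.toLinearMap ∘ₗ (HomologicalComplex.homologyMap (projG M Gs π) j).hom

theorem qG_eG (j : ℤ) (c : (ext' M Gs π).homology j) :
    qG Gs j (eG M Gs π j c) = (HomologicalComplex.homologyMap (projG M Gs π) j).hom c :=
  LinearEquiv.apply_symm_apply _ _

theorem eG_hcls (j : ℤ) (z : Zd (ext' M Gs π) j) : eG M Gs π j (hcls _ j z) = z.1.2 := by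
  refine (qG Gs j).injective ((qG_eG M Gs π j _).trans ?_)
  refine (DR39.homologyMap_hcls (projG M Gs π) j z).trans ?_
  rfl

variable (hbd : ∀ i i' h, Function.Surjective (bd M Gs π i i' h))

include hbd in
theorem homologyMap_inclM (j : ℤ) : HomologicalComplex.homologyMap (inclM M Gs π) j = 0 := by
  refine ModuleCat.hom_ext (LinearMap.ext fun c => ?_)
  obtain ⟨z, rfl⟩ := hcls_surjective M j c
  obtain ⟨g, hg⟩ := hbd (j - 1) j (by omega) (hcls M j z)
  obtain ⟨y, hy⟩ := (hcls_eq_iff M j z _).1 hg.symm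
  refine (DR39.homologyMap_hcls (inclM M Gs π) j z).trans ((hcls_eq_zero_iff _ j _).2 ⟨(y, g), ?_⟩)
  refine (ext'_d_apply M Gs π (j - 1) j (by omega) _).trans (Prod.ext ?_ rfl)
  show (M.d (j - 1) j).hom y + (π (j - 1) j _ g).1 = z.1
  rw [hy, sub_add_cancel]

theorem bd_eG (j j' : ℤ) (h : j + 1 = j') (c : (ext' M Gs π).homology j) :
    bd M Gs π j j' h (eG M Gs π j c) = 0 := by
  obtain ⟨z, rfl⟩ := hcls_surjective _ j c
  subst h
  rw [eG_hcls, bd, LinearMap.comp_apply]
  have hz : (M.d j (j + 1)).hom z.1.1 + (π j (j + 1) rfl z.1.2).1 = 0 :=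
    congrArg Prod.fst ((ext'_d_apply M Gs π j (j + 1) rfl z.1).symm.trans (LinearMap.mem_ker.1 z.2))
  have hh := (hcls_eq_zero_iff M (j + 1) (π j (j + 1) rfl z.1.2)).2
  refine hh ?_
  have e : j + 1 - 1 = j := by omega
  rw [e]
  exact ⟨-z.1.1, by rw [map_neg]; exact neg_eq_of_add_eq_zero_right hz⟩

include hbd in
theorem eG_injective (j : ℤ) : Function.Injective (eG M Gs π j) := by
  rw [injective_iff_map_eq_zero]
  intro c hc
  obtain ⟨z, rfl⟩ := hcls_surjective _ j c
  rw [eG_hcls] at hc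
  have hd := (ext'_d_apply M Gs π j (j + 1) rfl z.1).symm.trans (LinearMap.mem_ker.1 z.2)
  have hz1 : (M.d j (j + 1)).hom z.1.1 = 0 := by
    have := congrArg Prod.fst hd
    simp only [hc, map_zero, ZeroMemClass.coe_zero, add_zero, Prod.fst_zero] at this
    exact this
  have he : z = zmap (inclM M Gs π) j ⟨z.1.1, LinearMap.mem_ker.2 hz1⟩ := Subtype.ext (Prod.ext rfl hc)
  rw [he, ← DR39.homologyMap_hcls, homologyMap_inclM M Gs π hbd]
  rfl

theorem exact_eG_bd (j j' : ℤ) (h : j + 1 = j') :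
    Function.Exact (eG M Gs π j) (bd M Gs π j j' h) := by
  intro g
  refine ⟨fun hg => ?_, ?_⟩
  · obtain ⟨y, hy⟩ := (hcls_eq_zero_iff M j' _).1 hg
    have aux : ∀ (i : ℤ) (y : M.X i), i = j → (M.d i j').hom y = (π j j' h g).1 →
        ∃ y' : M.X j, (M.d j j').hom y' = (π j j' h g).1 := by
      rintro i y rfl hy
      exact ⟨y, hy⟩
    obtain ⟨y', hy'⟩ := aux (j' - 1) y (by omega) hy
    subst h
    refine ⟨hcls _ j ⟨(-y', g), LinearMap.mem_ker.2 ?_⟩, eG_hcls M Gs π j _⟩
    refine (ext'_d_apply M Gs π j (j + 1) rfl _).trans (Prod.ext ?_ rfl)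
    show (M.d j (j + 1)).hom (-y') + (π j (j + 1) rfl g).1 = 0
    rw [map_neg, hy', neg_add_cancel]
  · rintro ⟨c, rfl⟩
    exact bd_eG M Gs π j j' h c

/-- The boundary on Künneth sums. -/
noncomputable def bdSum (n n' : ℤ) (hn : n + 1 = n') :
    (⨁ ij : HTor.Antidiag n, L.homology ij.1.1 ⊗[A] Gs ij.1.2) →ₗ[A] HTor.KunnethSum L M n' :=
  DirectSum.toModule A (HTor.Antidiag n) _ fun ij =>
    ij.1.1.negOnePow • (DirectSum.lof A (HTor.Antidiag n')
        (fun ij => L.homology ij.1.1 ⊗[A] M.homology ij.1.2)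
        ⟨(ij.1.1, ij.1.2 + 1), by have := ij.2; show ij.1.1 + (ij.1.2 + 1) = n'; omega⟩ ∘ₗ
      (bd M Gs π ij.1.2 (ij.1.2 + 1) rfl).lTensor (L.homology ij.1.1))

include hbd in
theorem bdSum_surjective (n n' : ℤ) (hn : n + 1 = n') : Function.Surjective (bdSum L M Gs π n n' hn) := by
  intro t
  induction t using DirectSum.induction_on with
  | zero => exact ⟨0, map_zero _⟩
  | add a b ha hb =>
    obtain ⟨x, rfl⟩ := ha
    obtain ⟨y, rfl⟩ := hb
    exact ⟨x + y, map_add _ _ _⟩
  | of ij v =>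
    obtain ⟨⟨i, j'⟩, hij⟩ := ij
    obtain ⟨j, rfl⟩ : ∃ j, j' = j + 1 := ⟨j' - 1, by omega⟩
    obtain ⟨w, rfl⟩ := LinearMap.lTensor_surjective (L.homology i) (hbd j (j + 1) rfl) v
    refine ⟨i.negOnePow • DirectSum.lof A (HTor.Antidiag n) (fun ij => L.homology ij.1.1 ⊗[A] Gs ij.1.2)
      ⟨(i, j), by show i + j = n; omega⟩ w, ?_⟩
    rw [Units.smul_def, map_zsmul, bdSum, DirectSum.toModule_lof, LinearMap.smul_apply, LinearMap.comp_apply,
      Units.smul_def, smul_smul, ← Units.val_mul, ← Int.negOnePow_add, Int.negOnePow_even _ ⟨i, rfl⟩,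
      Units.val_one, one_smul, DirectSum.lof_eq_of]

theorem bdSum_eG (n n' : ℤ) (hn : n + 1 = n') (t : HTor.KunnethSum L (ext' M Gs π) n) :
    bdSum L M Gs π n n' hn (sumMap L (N := fun j => (ext' M Gs π).homology j) (N' := fun j => Gs j)
      (eG M Gs π) n t) = 0 := by
  refine LinearMap.congr_fun (g := 0) (f := bdSum L M Gs π n n' hn ∘ₗ
    sumMap L (N := fun j => (ext' M Gs π).homology j) (N' := fun j => Gs j) (eG M Gs π) n) ?_ t
  refine DirectSum.linearMap_ext A fun ij => TensorProduct.ext' fun a c => ?_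
  simp only [LinearMap.comp_apply]
  rw [sumMap_lof, bdSum, DirectSum.toModule_lof, LinearMap.smul_apply, LinearMap.comp_apply,
    LinearMap.lTensor_tmul, LinearMap.lTensor_tmul, bd_eG]
  simp

/-- The Künneth map of the zero-differential complex. -/
noncomputable def kunG (n : ℤ) :
    (⨁ ij : HTor.Antidiag n, L.homology ij.1.1 ⊗[A] Gs ij.1.2) →ₗ[A]
      (HTor.tensorCx L (gcx Gs)).homology n :=
  kun L (gcx Gs) n ∘ₗ sumMap L (N := fun j => Gs j) (N' := fun j => (gcx Gs).homology j)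
    (fun j => (qG Gs j).toLinearMap) n

variable (hflat : ∀ j, Module.Flat A (Gs j))

include hflat in
theorem kunG_bijective (n : ℤ) : Function.Bijective (kunG L Gs n) := by
  rw [kunG, LinearMap.coe_comp]
  refine (Function.Bijective.comp ⟨kun_injective_of_zero (gcx Gs) (gcx_d Gs) hflat n,
    kun_surjective_of_zero (gcx Gs) (gcx_d Gs) hflat n⟩ ?_)
  exact ⟨(DFinsupp.mapRange_injective _ (fun _ => map_zero _)).2
      fun ij => (LinearEquiv.lTensor (L.homology ij.1.1) (qG Gs ij.1.2)).injective,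
    (DFinsupp.mapRange_surjective _ (fun _ => map_zero _)).2
      fun ij => (LinearEquiv.lTensor (L.homology ij.1.1) (qG Gs ij.1.2)).surjective⟩

theorem homologyMap_projG_kun (n : ℤ) (t : HTor.KunnethSum L (ext' M Gs π) n) :
    (HomologicalComplex.homologyMap (L ◁ projG M Gs π) n).hom (kun L (ext' M Gs π) n t) =
      kunG L Gs n (sumMap L (N := fun j => (ext' M Gs π).homology j) (N' := fun j => Gs j)
        (eG M Gs π) n t) := by
  refine (LinearMap.congr_fun (kun_natural (L := L) (projG M Gs π) n) t).trans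
    (congrArg (kun L (gcx Gs) n) ?_)
  refine LinearMap.congr_fun (g := sumMap L (N := fun j => Gs j) (N' := fun j => (gcx Gs).homology j)
      (fun j => (qG Gs j).toLinearMap) n ∘ₗ
    sumMap L (N := fun j => (ext' M Gs π).homology j) (N' := fun j => Gs j) (eG M Gs π) n) ?_ t
  refine DirectSum.linearMap_ext A fun ij => TensorProduct.ext' fun a c => ?_
  simp only [LinearMap.comp_apply]
  rw [sumMap_lof, sumMap_lof, sumMap_lof, LinearMap.lTensor_tmul, LinearMap.lTensor_tmul,
    LinearMap.lTensor_tmul, LinearEquiv.coe_coe, qG_eG]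

theorem whiskerLeft_d {M₁ M₂ : DRing.Cx A} (φ : M₁ ⟶ M₂) (i j : ℤ) (x : TX L M₁ i) :
    ((L ◁ φ).f j).hom (((HTor.tensorCx L M₁).d i j).hom x) =
      ((HTor.tensorCx L M₂).d i j).hom (((L ◁ φ).f i).hom x) :=
  DR39.f_apply_d (L ◁ φ) i j x

/-- `inr`, tensored with `L`. -/
noncomputable def sigma (n : ℤ) : TX L (gcx Gs) n →ₗ[A] TX L (ext' M Gs π) n :=
  tmap (M := gcx Gs) (M' := ext' M Gs π) L (fun j => LinearMap.inr A (M.X j) (Gs j)) n

/-- `fst`, tensored with `L`. -/
noncomputable def rho (n : ℤ) : TX L (ext' M Gs π) n →ₗ[A] TX L M n :=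
  tmap (M := ext' M Gs π) (M' := M) L (fun j => LinearMap.fst A (M.X j) (Gs j)) n

theorem projG_sigma (n : ℤ) (s : TX L (gcx Gs) n) :
    ((L ◁ projG M Gs π).f n).hom (sigma L M Gs π n s) = s := by
  induction s using tm_induction with
  | h0 => rw [map_zero, map_zero]
  | hadd x y hx hy => rw [map_add, map_add, hx, hy]
  | htm i j h a g => rw [sigma, tmap_tm, whiskerLeft_tm]; rfl

theorem rho_inclM (n : ℤ) (x : TX L M n) :
    rho L M Gs π n (((L ◁ inclM M Gs π).f n).hom x) = x := by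
  induction x using tm_induction with
  | h0 => rw [map_zero, map_zero]
  | hadd x y hx hy => rw [map_add, map_add, hx, hy]
  | htm i j h a m => rw [whiskerLeft_tm, rho, tmap_tm]; rfl

theorem inclM_rho_add (n : ℤ) (x : TX L (ext' M Gs π) n) :
    ((L ◁ inclM M Gs π).f n).hom (rho L M Gs π n x) +
      sigma L M Gs π n (((L ◁ projG M Gs π).f n).hom x) = x := by
  induction x using tm_induction with
  | h0 => simp
  | hadd x y hx hy =>
    simp only [map_add]
    conv_rhs => rw [← hx, ← hy]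
    abel
  | htm i j h a m =>
    rw [rho, tmap_tm, whiskerLeft_tm, whiskerLeft_tm, sigma, tmap_tm, ← map_add]
    congr 1
    exact Prod.ext (add_zero _) (zero_add _)

theorem eq_inclM_rho (n : ℤ) (x : TX L (ext' M Gs π) n)
    (hx : ((L ◁ projG M Gs π).f n).hom x = 0) : ((L ◁ inclM M Gs π).f n).hom (rho L M Gs π n x) = x := by
  have := inclM_rho_add L M Gs π n x
  rwa [hx, map_zero, add_zero] at this

theorem projG_inclM (n : ℤ) (x : TX L M n) :
    ((L ◁ projG M Gs π).f n).hom (((L ◁ inclM M Gs π).f n).hom x) = 0 := by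
  induction x using tm_induction with
  | h0 => rw [map_zero, map_zero]
  | hadd a b ha hb => rw [map_add, map_add, ha, hb, add_zero]
  | htm i j h a m =>
    rw [whiskerLeft_tm, whiskerLeft_tm]
    exact map_zero _

/-- The zigzag computing the connecting map on Künneth classes. -/
theorem exists_lift (n n' : ℤ) (hn : n + 1 = n')
    (s : ⨁ ij : HTor.Antidiag n, L.homology ij.1.1 ⊗[A] Gs ij.1.2) :
    ∃ (u : TX L (ext' M Gs π) n) (z : Zd (HTor.tensorCx L M) n') (v : Zd (HTor.tensorCx L (gcx Gs)) n),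
      ((HTor.tensorCx L (ext' M Gs π)).d n n').hom u = ((L ◁ inclM M Gs π).f n').hom z.1 ∧
      ((L ◁ projG M Gs π).f n).hom u = v.1 ∧ hcls _ n v = kunG L Gs n s ∧
      hcls _ n' z = kun L M n' (bdSum L M Gs π n n' hn s) := by
  induction s using DirectSum.induction_on with
  | zero => exact ⟨0, 0, 0, by simp, by simp, by simp, by simp⟩
  | add a b ha hb =>
    obtain ⟨u, z, v, h1, h2, h3, h4⟩ := ha
    obtain ⟨u', z', v', h1', h2', h3', h4'⟩ := hb
    refine ⟨u + u', z + z', v + v', ?_, ?_, ?_, ?_⟩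
    · rw [map_add, h1, h1']; exact (map_add _ _ _).symm
    · rw [map_add, h2, h2']; rfl
    · rw [map_add, h3, h3', map_add]
    · rw [map_add, h4, h4', map_add, map_add]
  | of ij w =>
    obtain ⟨⟨i, j⟩, hij⟩ := ij
    rw [← DirectSum.lof_eq_of A]
    induction w using TensorProduct.induction_on with
    | zero => exact ⟨0, 0, 0, by simp, by simp, by simp, by simp⟩
    | add a b ha hb =>
      obtain ⟨u, z, v, h1, h2, h3, h4⟩ := ha
      obtain ⟨u', z', v', h1', h2', h3', h4'⟩ := hb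
      refine ⟨u + u', z + z', v + v', ?_, ?_, ?_, ?_⟩
      · rw [map_add, h1, h1']; exact (map_add _ _ _).symm
      · rw [map_add, h2, h2']; rfl
      · rw [map_add, h3, h3', map_add, map_add]
      · rw [map_add, h4, h4', map_add, map_add, map_add]
    | tmul a g =>
      obtain ⟨z₀, rfl⟩ := hcls_surjective L i a
      change i + j = n at hij
      refine ⟨tm L (ext' M Gs π) i j n hij z₀.1 ((0 : M.X j), g),
        i.negOnePow • tmZ L M i (j + 1) n' (by omega) z₀ (π j (j + 1) rfl g),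
        tmZ L (gcx Gs) i j n hij z₀ (toZ (gcx Gs) (gcx_d Gs) j g), ?_, ?_, ?_, ?_⟩
      · rw [d_tm i (i + 1) j (j + 1) n n' rfl rfl hij hn, LinearMap.mem_ker.1 z₀.2, map_zero,
          LinearMap.zero_apply, zero_add]
        show _ = ((L ◁ inclM M Gs π).f n').hom
          ((i.negOnePow : ℤ) • tm L M i (j + 1) n' (by omega) z₀.1 (π j (j + 1) rfl g).1)
        rw [map_zsmul, whiskerLeft_tm, Units.smul_def]
        congr 2
        refine (ext'_d_apply M Gs π j (j + 1) rfl _).trans (Prod.ext ?_ rfl)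
        show (M.d j (j + 1)).hom 0 + (π j (j + 1) rfl g).1 = (π j (j + 1) rfl g).1
        rw [map_zero, zero_add]
      · exact whiskerLeft_tm (projG M Gs π) i j n hij _ _
      · rw [kunG, LinearMap.comp_apply, sumMap_lof, LinearMap.lTensor_tmul]
        exact (kun_lof n ⟨(i, j), hij⟩ z₀ (toZ (gcx Gs) (gcx_d Gs) j g)).symm
      · rw [bdSum, DirectSum.toModule_lof, LinearMap.smul_apply, LinearMap.comp_apply,
          LinearMap.lTensor_tmul, Units.smul_def, Units.smul_def, map_zsmul, map_zsmul]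
        exact congrArg _ (kun_lof n' ⟨(i, j + 1), by show i + (j + 1) = n'; omega⟩ z₀
          (π j (j + 1) rfl g)).symm

include hflat in
/-- The kernel of `H(L ⊗ M) → H(L ⊗ ext')` is in the image of the Künneth map. -/
theorem exists_kun_of_inclM_zero (n n' : ℤ) (hn : n + 1 = n') (c : (HTor.tensorCx L M).homology n')
    (hc : (HomologicalComplex.homologyMap (L ◁ inclM M Gs π) n').hom c = 0) :
    ∃ t, kun L M n' t = c := by
  obtain ⟨x, rfl⟩ := hcls_surjective (HTor.tensorCx L M) n' c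
  have h0 := (DR39.homologyMap_hcls (L ◁ inclM M Gs π) n' x).symm.trans hc
  obtain ⟨Y₀, hY₀⟩ := (hcls_eq_zero_iff (HTor.tensorCx L (ext' M Gs π)) n' _).1 h0
  obtain rfl : n = n' - 1 := by omega
  have hv : ((L ◁ projG M Gs π).f (n' - 1)).hom Y₀ ∈ Zd (HTor.tensorCx L (gcx Gs)) (n' - 1) := by
    rw [LinearMap.mem_ker, ← (show n' = n' - 1 + 1 by omega)]
    refine (whiskerLeft_d L (projG M Gs π) (n' - 1) n' Y₀).symm.trans ?_
    rw [hY₀]
    exact projG_inclM L M Gs π n' x.1
  obtain ⟨s, hs⟩ := (kunG_bijective L Gs hflat (n' - 1)).2 (hcls _ _ ⟨_, hv⟩)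
  obtain ⟨u, z, v, hu, huv, hvs, hz⟩ := exists_lift L M Gs π (n' - 1) n' hn s
  obtain ⟨s', hs'⟩ := (hcls_eq_iff _ _ ⟨_, hv⟩ v).1 (hs.symm.trans hvs.symm)
  let Y := Y₀ - u - ((HTor.tensorCx L (ext' M Gs π)).d (n' - 1 - 1) (n' - 1)).hom
    (sigma L M Gs π (n' - 1 - 1) s')
  have hY : ((L ◁ projG M Gs π).f (n' - 1)).hom Y = 0 := by
    show ((L ◁ projG M Gs π).f (n' - 1)).hom (Y₀ - u - _) = 0
    rw [map_sub, map_sub, whiskerLeft_d L (projG M Gs π), projG_sigma, huv]
    exact sub_eq_zero.2 hs'.symm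
  refine ⟨bdSum L M Gs π (n' - 1) n' hn s, hz.symm.trans ((hcls_eq_iff _ n' x z).2
    ⟨rho L M Gs π (n' - 1) Y, ?_⟩).symm⟩
  refine Function.LeftInverse.injective (rho_inclM L M Gs π n') ?_
  rw [whiskerLeft_d L (inclM M Gs π), eq_inclM_rho L M Gs π _ Y hY, map_sub]
  rw [map_sub, hY₀, hu, DR39.d_apply_d, sub_zero, map_sub]
  rfl

include hflat in
/-- The Künneth map of `M` is injective when that of the extension is surjective. -/
theorem kun_injective_of_surjective (n n' : ℤ) (hn : n + 1 = n')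
    (hbd' : ∀ i i' h, Function.Surjective (bd M Gs π i i' h))
    (hC : Function.Surjective (kun L (ext' M Gs π) n)) : Function.Injective (kun L M n') := by
  rw [injective_iff_map_eq_zero]
  intro t ht
  obtain ⟨s, rfl⟩ := bdSum_surjective L M Gs π hbd' n n' hn t
  obtain ⟨u, z, v, hu, huv, hvs, hz⟩ := exists_lift L M Gs π n n' hn s
  obtain rfl : n = n' - 1 := by omega
  obtain ⟨y, hy⟩ := (hcls_eq_zero_iff _ n' z).1 (hz.trans ht)
  have hu' : u - ((L ◁ inclM M Gs π).f (n' - 1)).hom y ∈ Zd (HTor.tensorCx L (ext' M Gs π)) (n' - 1) := by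
    rw [LinearMap.mem_ker, ← (show n' = n' - 1 + 1 by omega), map_sub, hu,
      ← whiskerLeft_d L (inclM M Gs π), hy, sub_self]
  obtain ⟨t₁, ht₁⟩ := hC (hcls _ _ ⟨_, hu'⟩)
  have hproj := (congrArg (HomologicalComplex.homologyMap (L ◁ projG M Gs π) (n' - 1)).hom ht₁).trans
    (DR39.homologyMap_hcls (L ◁ projG M Gs π) (n' - 1) ⟨_, hu'⟩)
  rw [homologyMap_projG_kun] at hproj
  have hv : zmap (L ◁ projG M Gs π) (n' - 1) ⟨_, hu'⟩ = v := by
    refine Subtype.ext ?_
    show ((L ◁ projG M Gs π).f (n' - 1)).hom (u - ((L ◁ inclM M Gs π).f (n' - 1)).hom y) = v.1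
    rw [map_sub, huv]
    exact sub_eq_self.2 (projG_inclM L M Gs π _ y)
  have hk : kunG L Gs (n' - 1) (sumMap L (N := fun j => (ext' M Gs π).homology j) (N' := fun j => Gs j)
      (eG M Gs π) (n' - 1) t₁) = kunG L Gs (n' - 1) s :=
    hproj.trans ((congrArg (hcls _ (n' - 1)) hv).trans hvs)
  rw [← (kunG_bijective L Gs hflat (n' - 1)).1 hk, bdSum_eG]

include hflat in
/-- Künneth classes of the extension coming from `M` have trivial boundary. -/
theorem sumMap_eG_eq_zero (n : ℤ) (t : HTor.KunnethSum L (ext' M Gs π) n) (c : (HTor.tensorCx L M).homology n)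
    (h : (HomologicalComplex.homologyMap (L ◁ inclM M Gs π) n).hom c = kun L (ext' M Gs π) n t) :
    sumMap L (N := fun j => (ext' M Gs π).homology j) (N' := fun j => Gs j) (eG M Gs π) n t = 0 := by
  refine (kunG_bijective L Gs hflat n).1 ?_
  rw [map_zero, ← homologyMap_projG_kun, ← h]
  obtain ⟨x, rfl⟩ := hcls_surjective (HTor.tensorCx L M) n c
  refine ((congrArg (HomologicalComplex.homologyMap (L ◁ projG M Gs π) n).hom
    (DR39.homologyMap_hcls (L ◁ inclM M Gs π) n x)).trans (DR39.homologyMap_hcls _ n _)).trans ?_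
  refine (hcls_eq_zero_iff _ n _).2 ⟨0, (map_zero _).trans ?_⟩
  exact (projG_inclM L M Gs π n x.1).symm

include hbd in
theorem homologyMap_inclM_kun (n : ℤ) (t : HTor.KunnethSum L M n) :
    (HomologicalComplex.homologyMap (L ◁ inclM M Gs π) n).hom (kun L M n t) = 0 := by
  refine (LinearMap.congr_fun (kun_natural (L := L) (inclM M Gs π) n) t).trans ?_
  refine LinearMap.congr_fun (g := 0) (f := kun L (ext' M Gs π) n ∘ₗ
    sumMap L (N := fun j => M.homology j) (N' := fun j => (ext' M Gs π).homology j)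
      (fun j => (HomologicalComplex.homologyMap (inclM M Gs π) j).hom) n) ?_ t
  refine DirectSum.linearMap_ext A fun ij => TensorProduct.ext' fun a c => ?_
  simp only [LinearMap.comp_apply]
  rw [sumMap_lof, LinearMap.lTensor_tmul, homologyMap_inclM M Gs π hbd]
  simp

end Groth.Agent.HTor49
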