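import Groth.Prelude.Def_HTor
import Groth.Agent.DR39.Elem
import Groth.Agent.DR39.TensorMap

/-!
# Elementwise calculus in the tensor product of two cochain complexes of modules
-/

set_option autoImplicit false
set_option linter.style.haveILetI false
set_option linter.style.longLine false
universe u

open CategoryTheory CategoryTheory.Limits MonoidalCategory HomologicalComplex
open scoped TensorProduct DirectSum

namespace Groth.Agent.HTor49

variable {A : Type u} [CommRing A] {L M M' : DRing.Cx A}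

/-- The degree `n` term of `L ⊗ M`. -/
noncomputable abbrev TX (L M : DRing.Cx A) (n : ℤ) : ModuleCat.{u} A := (HTor.tensorCx L M).X n

/-- `a ⊗ m` in the tensor product of complexes. -/
noncomputable def tm (L M : DRing.Cx A) (i j n : ℤ) (h : i + j = n) :
    L.X i →ₗ[A] M.X j →ₗ[A] TX L M n :=
  TensorProduct.curry (HomologicalComplex.ιTensorObj L M i j n h).hom

theorem tm_apply (L M : DRing.Cx A) (i j n : ℤ) (h : i + j = n) (a : L.X i) (m : M.X j) :
    tm L M i j n h a m = (HomologicalComplex.ιTensorObj L M i j n h).hom (a ⊗ₜ[A] m) := rfl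

/-- Linear maps out of `(L ⊗ M)^n` agree when they agree on elementary tensors. -/
theorem hom_ext_tm {n : ℤ} {N : Type u} [AddCommGroup N] [Module A N] {f g : TX L M n →ₗ[A] N}
    (h : ∀ (i j : ℤ) (hn : i + j = n) (a : L.X i) (m : M.X j),
      f (tm L M i j n hn a m) = g (tm L M i j n hn a m)) : f = g := by
  have e : ModuleCat.ofHom f = ModuleCat.ofHom g := by
    refine mapBifunctor.hom_ext fun i j hij => ModuleCat.hom_ext (TensorProduct.ext' fun a m => ?_)
    exact h i j hij a m
  exact congrArg ModuleCat.Hom.hom e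

/-- The summands of `(L ⊗ M)^n`. -/
abbrev Summand (L M : DRing.Cx A) (n : ℤ) (ij : HTor.Antidiag n) : Type u :=
  L.X ij.1.1 ⊗[A] M.X ij.1.2

/-- Decomposition of `(L ⊗ M)^n`. -/
noncomputable def comps (L M : DRing.Cx A) (n : ℤ) :
    TX L M n →ₗ[A] ⨁ ij : HTor.Antidiag n, Summand L M n ij :=
  (mapBifunctorDesc (K₁ := L) (K₂ := M) (F := curriedTensor (ModuleCat.{u} A)) (c := ComplexShape.up ℤ)
    (A := ModuleCat.of A (⨁ ij : HTor.Antidiag n, Summand L M n ij))
    fun p q h => ModuleCat.ofHom (DirectSum.lof A (HTor.Antidiag n) (Summand L M n) ⟨(p, q), h⟩)).hom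

theorem comps_tm (n i j : ℤ) (h : i + j = n) (a : L.X i) (m : M.X j) :
    comps L M n (tm L M i j n h a m) =
      DirectSum.lof A (HTor.Antidiag n) (Summand L M n) ⟨(i, j), h⟩ (a ⊗ₜ[A] m) := by
  have e : HomologicalComplex.ιTensorObj L M i j n h ≫ ModuleCat.ofHom (comps L M n) =
      ModuleCat.ofHom (DirectSum.lof A (HTor.Antidiag n) (Summand L M n) ⟨(i, j), h⟩) := by
    unfold comps
    exact ι_mapBifunctorDesc (K₁ := L) (K₂ := M) (F := curriedTensor (ModuleCat.{u} A)) (c := ComplexShape.up ℤ)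
      (fun p q h => ModuleCat.ofHom (DirectSum.lof A (HTor.Antidiag n) (Summand L M n) ⟨(p, q), h⟩)) i j h
  exact congrArg (fun (t : ModuleCat.of A (L.X i ⊗[A] M.X j) ⟶ _) => t.hom (a ⊗ₜ[A] m)) e

/-- Recomposition. -/
noncomputable def glue (L M : DRing.Cx A) (n : ℤ) :
    (⨁ ij : HTor.Antidiag n, Summand L M n ij) →ₗ[A] TX L M n :=
  DirectSum.toModule A (HTor.Antidiag n) _ fun ij =>
    (HomologicalComplex.ιTensorObj L M ij.1.1 ij.1.2 n ij.2).hom

theorem glue_lof (n : ℤ) (ij : HTor.Antidiag n) (x : Summand L M n ij) :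
    glue L M n (DirectSum.lof A (HTor.Antidiag n) (Summand L M n) ij x) =
      (HomologicalComplex.ιTensorObj L M ij.1.1 ij.1.2 n ij.2).hom x :=
  DirectSum.toModule_lof _ _ _

theorem glue_comps (n : ℤ) (x : TX L M n) : glue L M n (comps L M n x) = x := by
  refine LinearMap.congr_fun (hom_ext_tm (f := glue L M n ∘ₗ comps L M n) (g := LinearMap.id)
    fun i j hn a m => ?_) x
  rw [LinearMap.comp_apply, comps_tm, glue_lof]
  rfl

theorem tm_induction {n : ℤ} {motive : TX L M n → Prop} (x : TX L M n) (h0 : motive 0)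
    (htm : ∀ (i j : ℤ) (hn : i + j = n) (a : L.X i) (m : M.X j), motive (tm L M i j n hn a m))
    (hadd : ∀ x y, motive x → motive y → motive (x + y)) : motive x := by
  rw [← glue_comps n x]
  induction comps L M n x using DirectSum.induction_on with
  | zero => rwa [map_zero]
  | add a b ha hb => rw [map_add]; exact hadd _ _ ha hb
  | of ij s =>
    rw [← DirectSum.lof_eq_of A, glue_lof]
    induction s using TensorProduct.induction_on with
    | zero => rwa [map_zero]
    | add a b ha hb => rw [map_add]; exact hadd _ _ ha hb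
    | tmul a m => exact htm _ _ ij.2 a m

/-- A component of an element of `(L ⊗ M)^n`. -/
noncomputable def co (L M : DRing.Cx A) (i j n : ℤ) (h : i + j = n) :
    TX L M n →ₗ[A] L.X i ⊗[A] M.X j :=
  DirectSum.component A (HTor.Antidiag n) (Summand L M n) ⟨(i, j), h⟩ ∘ₗ comps L M n

theorem co_tm_self (i j n : ℤ) (h : i + j = n) (a : L.X i) (m : M.X j) :
    co L M i j n h (tm L M i j n h a m) = a ⊗ₜ[A] m := by
  rw [co, LinearMap.comp_apply, comps_tm, DirectSum.component.lof_self]

theorem co_tm_ne (i j n : ℤ) (h : i + j = n) (i' j' : ℤ) (h' : i' + j' = n) (hne : i' ≠ i)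
    (a : L.X i') (m : M.X j') : co L M i j n h (tm L M i' j' n h' a m) = 0 := by
  rw [co, LinearMap.comp_apply, comps_tm, DirectSum.component.of,
    dif_neg (by rintro hh; exact hne (congrArg (fun t : HTor.Antidiag n => t.1.1) hh))]

theorem d_tm (i i' j j' n n' : ℤ) (hi : i + 1 = i') (hj : j + 1 = j') (h : i + j = n)
    (hn : n + 1 = n') (a : L.X i) (m : M.X j) :
    ((HTor.tensorCx L M).d n n').hom (tm L M i j n h a m) =
      tm L M i' j n' (by omega) ((L.d i i').hom a) m +
        i.negOnePow • tm L M i j' n' (by omega) a ((M.d j j').hom m) := by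
  have e : HomologicalComplex.ιTensorObj L M i j n h ≫ (HTor.tensorCx L M).d n n' =
      (L.d i i' ▷ M.X j) ≫ HomologicalComplex.ιTensorObj L M i' j n' (by omega) +
        i.negOnePow • ((L.X i ◁ M.d j j') ≫ HomologicalComplex.ιTensorObj L M i j' n' (by omega)) := by
    show HomologicalComplex.ιTensorObj L M i j n h ≫ (mapBifunctor L M (curriedTensor _) _).d n n' = _
    rw [mapBifunctor.d_eq, Preadditive.comp_add, mapBifunctor.ι_D₁, mapBifunctor.ι_D₂,
      mapBifunctor.d₁_eq L M (curriedTensor _) (ComplexShape.up ℤ) (show (ComplexShape.up ℤ).Rel i i' from hi) j n'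
        (show i' + j = n' by omega),
      mapBifunctor.d₂_eq L M (curriedTensor _) (ComplexShape.up ℤ) i (show (ComplexShape.up ℤ).Rel j j' from hj) n'
        (show i + j' = n' by omega)]
    rw [show ComplexShape.ε₁ (ComplexShape.up ℤ) (ComplexShape.up ℤ) (ComplexShape.up ℤ) (i, j) = 1 from rfl,
      one_smul]
    rfl
  exact congrArg (fun (t : L.X i ⊗ M.X j ⟶ (HTor.tensorCx L M).X n') => t.hom (a ⊗ₜ[A] m)) e

/-- A family of linear maps in the second variable, tensored with `L`. -/
noncomputable def tmap (L : DRing.Cx A) (f : ∀ j, M.X j →ₗ[A] M'.X j) (n : ℤ) :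
    TX L M n →ₗ[A] TX L M' n :=
  glue L M' n ∘ₗ DFinsupp.mapRange.linearMap (fun ij : HTor.Antidiag n => (f ij.1.2).lTensor (L.X ij.1.1)) ∘ₗ
    comps L M n

theorem tmap_tm (f : ∀ j, M.X j →ₗ[A] M'.X j) (i j n : ℤ) (h : i + j = n) (a : L.X i) (m : M.X j) :
    tmap L f n (tm L M i j n h a m) = tm L M' i j n h a (f j m) := by
  rw [tmap, LinearMap.comp_apply, LinearMap.comp_apply, comps_tm]
  rw [show DFinsupp.mapRange.linearMap (fun ij : HTor.Antidiag n => (f ij.1.2).lTensor (L.X ij.1.1))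
      (DirectSum.lof A (HTor.Antidiag n) (Summand L M n) ⟨(i, j), h⟩ (a ⊗ₜ[A] m)) =
        DirectSum.lof A (HTor.Antidiag n) (Summand L M' n) ⟨(i, j), h⟩ (a ⊗ₜ[A] f j m) from
      (DFinsupp.mapRange_single (hf := fun _ => map_zero _)).trans rfl, glue_lof]
  rfl

theorem whiskerLeft_tm (φ : M ⟶ M') (i j n : ℤ) (h : i + j = n) (a : L.X i) (m : M.X j) :
    ((L ◁ φ).f n).hom (tm L M i j n h a m) = tm L M' i j n h a ((φ.f j).hom m) :=
  congrArg (fun (t : L.X i ⊗ M.X j ⟶ (L ⊗ M').X n) => t.hom (a ⊗ₜ[A] m)) (DR39.whiskerLeft_ι φ i j h)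

theorem whiskerLeft_eq_tmap (φ : M ⟶ M') (n : ℤ) :
    ((L ◁ φ).f n).hom = tmap L (fun j => (φ.f j).hom) n :=
  hom_ext_tm fun i j hn a m => (whiskerLeft_tm φ i j n hn a m).trans (tmap_tm (M' := M') (fun j => (φ.f j).hom) i j n hn a m).symm

end Groth.Agent.HTor49
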